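import Mathlib
import Groth.Prelude.Def_CAlgX

/-!
# The adic conormal splitting criterion (EGA 0_IV 22.6.1, Noetherian adic case)

Helper lemmas: the surjection form of adic formal smoothness, and lifting through the filtration
of a square-zero kernel by powers of an ideal of definition.
-/

set_option autoImplicit false

namespace Groth.Agent.H23.AdicSplit

universe u

section liftprop

variable (R S : Type u) [CommRing R] [CommRing S] [Algebra R S] (𝔫 : Ideal S)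

/-- Surjection form of adic formal smoothness (discrete base). -/
def LiftProp : Prop :=
  ∀ (E E₀ : Type u) [CommRing E] [CommRing E₀] [Algebra R E] [Algebra R E₀] (π : E →ₐ[R] E₀),
    Function.Surjective π → (RingHom.ker π) ^ 2 = ⊥ →
      ∀ ψ : S →ₐ[R] E₀, (∃ k : ℕ, ∀ x ∈ 𝔫 ^ k, ψ x = 0) → ∃ χ : S →ₐ[R] E, π.comp χ = ψ

variable {R S 𝔫}

theorem liftProp_of_adic (h : CAlgX.IsAdicFormallySmooth R S 𝔫) : LiftProp R S 𝔫 := by
  intro E E₀ _ _ _ _ π hπ hsq ψ hψ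
  let e := Ideal.quotientKerAlgEquivOfSurjective hπ
  obtain ⟨k, hk⟩ := hψ
  obtain ⟨χ, hχ⟩ := h E (RingHom.ker π) hsq ((e.symm : E₀ →ₐ[R] _).comp ψ)
    ⟨k, fun x hx => by
      rw [AlgHom.comp_apply, hk x hx, map_zero]⟩
  refine ⟨χ, ?_⟩
  ext x
  have h1 : e ((Ideal.Quotient.mkₐ R (RingHom.ker π)) (χ x)) =
      e (((e.symm : E₀ →ₐ[R] _).comp ψ) x) := by
    rw [← hχ]; rfl
  have h2 : e (e.symm (ψ x)) = ψ x := e.apply_symm_apply (ψ x)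
  rw [AlgHom.comp_apply] at h1
  rw [AlgHom.comp_apply, ← h2]
  exact h1

theorem adic_of_liftProp (h : LiftProp R S 𝔫) : CAlgX.IsAdicFormallySmooth R S 𝔫 := by
  intro E _ _ J hJ ψ hψ
  have hker : RingHom.ker (Ideal.Quotient.mkₐ R J) = J := by
    ext x; simp [Ideal.Quotient.eq_zero_iff_mem]
  exact h E (E ⧸ J) (Ideal.Quotient.mkₐ R J) (Ideal.Quotient.mkₐ_surjective R J)
    (by rw [hker]; exact hJ) ψ hψ

end liftprop

open TensorProduct KaehlerDifferential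


section onestep

variable {A B : Type u} [CommRing A] [CommRing B] [Algebra A B] (I J : Ideal B)
  (Q : Ideal (B ⧸ J))

/-- Descend `b ↦ b • l` along a surjection `B → C₀` whose kernel kills `l`. -/
theorem exists_bilin {C₀ M K : Type*} [CommRing C₀] [Algebra B C₀] [AddCommGroup M] [Module B M]
    [AddCommGroup K] [Module B K]
    (hsurj : Function.Surjective (algebraMap B C₀)) (l : M →ₗ[B] K)
    (hl : ∀ b : B, algebraMap B C₀ b = 0 → ∀ y, b • l y = 0) :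
    ∃ L : C₀ ⊗[B] M →ₗ[B] K, ∀ y, L (1 ⊗ₜ y) = l y := by
  let ρ : B →ₗ[B] C₀ := Algebra.linearMap B C₀
  have hρ : Function.Surjective ρ := hsurj
  let t : B →ₗ[B] (M →ₗ[B] K) := LinearMap.toSpanSingleton B _ l
  have ht : LinearMap.ker ρ ≤ LinearMap.ker t := by
    intro b hb
    rw [LinearMap.mem_ker] at hb ⊢
    ext y
    simp only [t, LinearMap.toSpanSingleton_apply, LinearMap.smul_apply, LinearMap.zero_apply]
    exact hl b hb y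
  let β : C₀ →ₗ[B] (M →ₗ[B] K) :=
    (Submodule.liftQ (LinearMap.ker ρ) t ht) ∘ₗ
      (LinearMap.quotKerEquivOfSurjective ρ hρ).symm.toLinearMap
  refine ⟨TensorProduct.lift β, fun y => ?_⟩
  rw [TensorProduct.lift.tmul]
  have h1 : (LinearMap.quotKerEquivOfSurjective ρ hρ).symm 1 =
      Submodule.Quotient.mk (1 : B) := by
    rw [LinearEquiv.symm_apply_eq]
    have : (1 : B ⧸ LinearMap.ker ρ) = Submodule.Quotient.mk (1 : B) := rfl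
    rw [LinearMap.quotKerEquivOfSurjective_apply_mk]
    simp [ρ]
  simp only [β, LinearMap.comp_apply, LinearEquiv.coe_coe, h1, Submodule.liftQ_apply, t,
    LinearMap.toSpanSingleton_apply, one_smul]

variable (g : ((B ⧸ J) ⧸ Q) ⊗[B] ((B ⧸ J) ⊗[B] Ω[B⁄A]) →ₗ[(B ⧸ J) ⧸ Q]
    ((B ⧸ J) ⧸ Q) ⊗[B] (RingHom.ker (algebraMap B (B ⧸ J))).Cotangent)
  (hg : g ∘ₗ LinearMap.baseChange ((B ⧸ J) ⧸ Q) (kerCotangentToTensor A B (B ⧸ J)) = LinearMap.id)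

include hg in
theorem one_step (hB : LiftProp A B I)
    (E E₀ : Type u) [CommRing E] [CommRing E₀] [Algebra A E] [Algebra A E₀] (π : E →ₐ[A] E₀)
    (hπ : Function.Surjective π) (hsq : (RingHom.ker π) ^ 2 = ⊥)
    (ψ : (B ⧸ J) →ₐ[A] E₀) (hψ : ∃ k : ℕ, ∀ x ∈ (I.map (Ideal.Quotient.mk J)) ^ k, ψ x = 0)
    (hQ : ∀ c ∈ Q, ∀ e : E, π e = ψ c → ∀ n ∈ RingHom.ker π, e * n = 0) :
    ∃ χ : (B ⧸ J) →ₐ[A] E, π.comp χ = ψ := by
  obtain ⟨k, hk⟩ := hψ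
  obtain ⟨φ, hφ⟩ := hB E E₀ π hπ hsq (ψ.comp (Ideal.Quotient.mkₐ A J)) ⟨k, fun x hx => by
    rw [AlgHom.comp_apply]
    apply hk
    rw [← Ideal.map_pow]
    exact Ideal.mem_map_of_mem _ hx⟩
  have hφx : ∀ x : B, π (φ x) = ψ (Ideal.Quotient.mk J x) := fun x => AlgHom.congr_fun hφ x
  letI : Algebra B E := φ.toRingHom.toAlgebra
  have hBE : ∀ b : B, algebraMap B E b = φ b := fun b => rfl
  have : IsScalarTower A B E := IsScalarTower.of_algebraMap_eq (fun r => (φ.commutes r).symm)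
  have hmem : ∀ x ∈ RingHom.ker (algebraMap B (B ⧸ J)), φ x ∈ RingHom.ker π := by
    intro x hx
    rw [RingHom.mem_ker] at hx ⊢
    rw [Ideal.Quotient.algebraMap_eq] at hx
    rw [hφx, hx, map_zero]
  let lam : RingHom.ker (algebraMap B (B ⧸ J)) →ₗ[B] RingHom.ker π :=
    { toFun := fun x => ⟨φ x.1, hmem x.1 x.2⟩
      map_add' := fun x y => by ext; simp
      map_smul' := fun b x => by
        ext
        simp [Algebra.smul_def, hBE] }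
  have hlam : ∀ x y : RingHom.ker (algebraMap B (B ⧸ J)), lam (x * y) = 0 := by
    intro x y
    ext
    have h1 : φ x.1 * φ y.1 ∈ (RingHom.ker π) ^ 2 := by
      rw [pow_two]; exact Ideal.mul_mem_mul (hmem _ x.2) (hmem _ y.2)
    rw [hsq] at h1
    simpa [lam] using h1
  let lbar : (RingHom.ker (algebraMap B (B ⧸ J))).Cotangent →ₗ[B] RingHom.ker π :=
    Ideal.Cotangent.lift lam hlam
  have hsurj₀ : Function.Surjective (algebraMap B ((B ⧸ J) ⧸ Q)) := by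
    intro c
    obtain ⟨c, rfl⟩ := Ideal.Quotient.mk_surjective c
    obtain ⟨b, rfl⟩ := Ideal.Quotient.mk_surjective c
    exact ⟨b, rfl⟩
  obtain ⟨L, hL⟩ := exists_bilin (C₀ := (B ⧸ J) ⧸ Q) hsurj₀ lbar (by
    intro b hb y
    ext
    have hbQ : Ideal.Quotient.mk J b ∈ Q := by
      rw [← Ideal.Quotient.eq_zero_iff_mem]; exact hb
    have := hQ _ hbQ (φ b) (hφx b) _ (lbar y).2
    simpa [Algebra.smul_def, hBE] using this)
  -- the derivation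
  let ι : Ω[B⁄A] →ₗ[B] ((B ⧸ J) ⧸ Q) ⊗[B] ((B ⧸ J) ⊗[B] Ω[B⁄A]) :=
    (TensorProduct.mk B ((B ⧸ J) ⧸ Q) ((B ⧸ J) ⊗[B] Ω[B⁄A]) 1) ∘ₗ
      (TensorProduct.mk B (B ⧸ J) Ω[B⁄A] 1)
  let δΩ : Ω[B⁄A] →ₗ[B] RingHom.ker π := L ∘ₗ (g.restrictScalars B) ∘ₗ ι
  let δ : Derivation A B (RingHom.ker π) := δΩ.compDer (KaehlerDifferential.D A B)
  have hδ : ∀ x (hx : x ∈ RingHom.ker (algebraMap B (B ⧸ J))), (δ x : E) = φ x := by
    intro x hx
    have h1 : g (1 ⊗ₜ ((1 : B ⧸ J) ⊗ₜ KaehlerDifferential.D A B x)) =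
        (1 : (B ⧸ J) ⧸ Q) ⊗ₜ (RingHom.ker (algebraMap B (B ⧸ J))).toCotangent ⟨x, hx⟩ := by
      have h2 := LinearMap.congr_fun hg
        ((1 : (B ⧸ J) ⧸ Q) ⊗ₜ (RingHom.ker (algebraMap B (B ⧸ J))).toCotangent ⟨x, hx⟩)
      rw [LinearMap.comp_apply, LinearMap.baseChange_tmul, kerCotangentToTensor_toCotangent,
        LinearMap.id_apply] at h2
      exact h2
    have h3 : δ x = lbar ((RingHom.ker (algebraMap B (B ⧸ J))).toCotangent ⟨x, hx⟩) := by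
      change L (g (1 ⊗ₜ ((1 : B ⧸ J) ⊗ₜ KaehlerDifferential.D A B x))) = _
      rw [h1, hL]
    rw [h3]
    rfl
  let φ' : B →ₐ[A] E := liftOfDerivationToSquareZero (RingHom.ker π) hsq (-δ)
  have hφ' : ∀ x, φ' x = -(δ x : E) + φ x := by
    intro x
    rw [liftOfDerivationToSquareZero_apply]
    rfl
  have hker : ∀ x ∈ J, φ' x = 0 := by
    intro x hx
    have hx' : x ∈ RingHom.ker (algebraMap B (B ⧸ J)) := by
      rw [Ideal.Quotient.algebraMap_eq, Ideal.mk_ker]; exact hx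
    rw [hφ', hδ x hx', neg_add_cancel]
  refine ⟨Ideal.Quotient.liftₐ J φ' hker, ?_⟩
  apply AlgHom.ext
  intro c
  obtain ⟨x, rfl⟩ := Ideal.Quotient.mk_surjective c
  rw [AlgHom.comp_apply]
  have : (Ideal.Quotient.liftₐ J φ' hker) (Ideal.Quotient.mk J x) = φ' x := rfl
  rw [this, hφ', map_add, map_neg, hφx]
  have h4 : π (δ x : E) = 0 := (δ x).2
  rw [h4, neg_zero, zero_add]

/-- If `π₁ ∘ χ₁` kills `𝔫 ^ k` and `(ker π₁) ^ t = 0` then `χ₁` kills `𝔫 ^ (k * t)`. -/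
theorem kills_pow {S E₁ E₀ : Type*} [CommRing S] [CommRing E₁] [CommRing E₀] (𝔫 : Ideal S)
    (χ₁ : S →+* E₁) (π₁ : E₁ →+* E₀) (k t : ℕ) (hk : ∀ x ∈ 𝔫 ^ k, π₁ (χ₁ x) = 0)
    (ht : (RingHom.ker π₁) ^ t = ⊥) : ∀ x ∈ 𝔫 ^ (k * t), χ₁ x = 0 := by
  have h1 : Ideal.map χ₁ (𝔫 ^ k) ≤ RingHom.ker π₁ := by
    rw [Ideal.map_le_iff_le_comap]
    intro x hx
    rw [Ideal.mem_comap, RingHom.mem_ker]
    exact hk x hx
  have h2 : Ideal.map χ₁ (𝔫 ^ (k * t)) ≤ ⊥ := by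
    rw [pow_mul, Ideal.map_pow, ← ht]
    exact Ideal.pow_right_mono h1 t
  intro x hx
  have := h2 (Ideal.mem_map_of_mem χ₁ hx)
  simpa using this

include hg in
theorem lift_of_pow (hB : LiftProp A B I) (t : ℕ) :
    ∀ (E E₀ : Type u) [CommRing E] [CommRing E₀] [Algebra A E] [Algebra A E₀] (π : E →ₐ[A] E₀)
    (_ : Function.Surjective π) (_ : (RingHom.ker π) ^ 2 = ⊥)
    (ψ : (B ⧸ J) →ₐ[A] E₀) (_ : ∃ k : ℕ, ∀ x ∈ (I.map (Ideal.Quotient.mk J)) ^ k, ψ x = 0)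
    (_ : ((Q.map (ψ : (B ⧸ J) →+* E₀)).comap (π : E →+* E₀)) ^ t * RingHom.ker π = ⊥),
    ∃ χ : (B ⧸ J) →ₐ[A] E, π.comp χ = ψ := by
  induction t with
  | zero =>
    intro E E₀ _ _ _ _ π hπ hsq ψ hψ ht
    rw [pow_zero, Ideal.one_eq_top, Ideal.top_mul] at ht
    have hinj : Function.Injective π := (RingHom.injective_iff_ker_eq_bot (π : E →+* E₀)).mpr ht
    let e : E ≃ₐ[A] E₀ := AlgEquiv.ofBijective π ⟨hinj, hπ⟩
    refine ⟨(e.symm : E₀ →ₐ[A] E).comp ψ, ?_⟩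
    ext c
    rw [AlgHom.comp_apply, AlgHom.comp_apply]
    exact e.apply_symm_apply (ψ c)
  | succ t ih =>
    intro E E₀ _ _ _ _ π hπ hsq ψ hψ ht
    obtain ⟨k, hk⟩ := hψ
    set K : Ideal E := RingHom.ker π with hK
    set 𝔔 : Ideal E := (Q.map (ψ : (B ⧸ J) →+* E₀)).comap (π : E →+* E₀) with h𝔔
    set K₁ : Ideal E := 𝔔 * K with hK₁
    have hK₁K : K₁ ≤ K := Ideal.mul_le_right
    let π₁ : E ⧸ K₁ →ₐ[A] E₀ := Ideal.Quotient.liftₐ K₁ π (fun a ha => hK₁K ha)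
    have hπ₁mk : ∀ a : E, π₁ (Ideal.Quotient.mk K₁ a) = π a := fun a => rfl
    have hπ₁ : Function.Surjective π₁ := by
      intro y
      obtain ⟨a, rfl⟩ := hπ y
      exact ⟨Ideal.Quotient.mk K₁ a, rfl⟩
    have hsq₁ : (RingHom.ker π₁) ^ 2 = ⊥ := by
      rw [eq_bot_iff, pow_two, Ideal.mul_le]
      intro x hx y hy
      obtain ⟨a, rfl⟩ := Ideal.Quotient.mk_surjective x
      obtain ⟨b, rfl⟩ := Ideal.Quotient.mk_surjective y
      rw [RingHom.mem_ker, hπ₁mk] at hx hy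
      have hab : a * b ∈ K ^ 2 := by
        rw [pow_two]; exact Ideal.mul_mem_mul hx hy
      rw [hsq] at hab
      rw [Ideal.mem_bot] at hab ⊢
      rw [← map_mul, hab, map_zero]
    have hQ₁ : ∀ c ∈ Q, ∀ e : E ⧸ K₁, π₁ e = ψ c → ∀ n ∈ RingHom.ker π₁, e * n = 0 := by
      intro c hc e he n hn
      obtain ⟨a, rfl⟩ := Ideal.Quotient.mk_surjective e
      obtain ⟨b, rfl⟩ := Ideal.Quotient.mk_surjective n
      rw [RingHom.mem_ker, hπ₁mk] at hn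
      rw [hπ₁mk] at he
      have ha : a ∈ 𝔔 := by
        rw [h𝔔, Ideal.mem_comap]
        change π a ∈ _
        rw [he]
        exact Ideal.mem_map_of_mem _ hc
      rw [← map_mul, Ideal.Quotient.eq_zero_iff_mem]
      exact Ideal.mul_mem_mul ha hn
    obtain ⟨χ₁, hχ₁⟩ := one_step I J Q g hg hB (E ⧸ K₁) E₀ π₁ hπ₁ hsq₁ ψ ⟨k, hk⟩ hQ₁
    have hχ₁x : ∀ c, π₁ (χ₁ c) = ψ c := fun c => AlgHom.congr_fun hχ₁ c
    have hkermk : RingHom.ker (Ideal.Quotient.mkₐ A K₁) = K₁ := by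
      ext x; simp [Ideal.Quotient.eq_zero_iff_mem]
    have hsqK₁ : (RingHom.ker (Ideal.Quotient.mkₐ A K₁)) ^ 2 = ⊥ := by
      rw [hkermk, eq_bot_iff, ← hsq]
      exact Ideal.pow_right_mono hK₁K 2
    have hkill : ∃ k' : ℕ, ∀ x ∈ (I.map (Ideal.Quotient.mk J)) ^ k', χ₁ x = 0 :=
      ⟨k * 2, kills_pow _ (χ₁ : (B ⧸ J) →+* E ⧸ K₁) (π₁ : E ⧸ K₁ →+* E₀) k 2
        (fun x hx => by
          have := hχ₁x x
          rw [hk x hx] at this
          exact this) hsq₁⟩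
    have h𝔔' : (Q.map (χ₁ : (B ⧸ J) →+* E ⧸ K₁)).comap
        ((Ideal.Quotient.mkₐ A K₁ : E →ₐ[A] E ⧸ K₁) : E →+* E ⧸ K₁) ≤ 𝔔 := by
      intro e he
      rw [Ideal.mem_comap] at he
      rw [h𝔔, Ideal.mem_comap]
      have h1 := Ideal.mem_map_of_mem (π₁ : E ⧸ K₁ →+* E₀) he
      rw [Ideal.map_map] at h1
      have h2 : ((π₁ : E ⧸ K₁ →+* E₀).comp (χ₁ : (B ⧸ J) →+* E ⧸ K₁)) = (ψ : (B ⧸ J) →+* E₀) := by
        ext c; exact hχ₁x c
      rw [h2] at h1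
      exact h1
    have ht' : ((Q.map (χ₁ : (B ⧸ J) →+* E ⧸ K₁)).comap
        ((Ideal.Quotient.mkₐ A K₁ : E →ₐ[A] E ⧸ K₁) : E →+* E ⧸ K₁)) ^ t *
          RingHom.ker (Ideal.Quotient.mkₐ A K₁) = ⊥ := by
      rw [eq_bot_iff, ← ht, hkermk, pow_succ, mul_assoc]
      exact Ideal.mul_mono (Ideal.pow_right_mono h𝔔' t) le_rfl
    obtain ⟨χ, hχ⟩ := ih E (E ⧸ K₁) (Ideal.Quotient.mkₐ A K₁) (Ideal.Quotient.mkₐ_surjective A K₁)
      hsqK₁ χ₁ hkill ht'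
    refine ⟨χ, ?_⟩
    ext c
    have h3 := AlgHom.congr_fun hχ c
    rw [AlgHom.comp_apply] at h3 ⊢
    rw [← hχ₁x c, ← h3]
    rfl

include hg in
/-- A left inverse of the conormal map modulo `Q` gives adic formal smoothness of the quotient. -/
theorem adic_of_leftInv (hB : CAlgX.IsAdicFormallySmooth A B I)
    (hQ' : ∃ m : ℕ, Q ^ m ≤ I.map (Ideal.Quotient.mk J)) :
    CAlgX.IsAdicFormallySmooth A (B ⧸ J) (I.map (Ideal.Quotient.mk J)) := by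
  apply adic_of_liftProp
  intro E E₀ _ _ _ _ π hπ hsq ψ hψ
  obtain ⟨k, hk⟩ := hψ
  obtain ⟨m, hm⟩ := hQ'
  apply lift_of_pow I J Q g hg (liftProp_of_adic hB) (m * k) E E₀ π hπ hsq ψ ⟨k, hk⟩
  rw [eq_bot_iff, ← hsq, pow_two]
  refine Ideal.mul_mono ?_ le_rfl
  intro e he
  rw [RingHom.mem_ker]
  have h1 : (π : E →+* E₀) e ∈ (Q.map (ψ : (B ⧸ J) →+* E₀)) ^ (m * k) := by
    have := Ideal.mem_map_of_mem (π : E →+* E₀) he
    rw [Ideal.map_pow] at this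
    exact Ideal.pow_right_mono Ideal.map_comap_le _ this
  rw [← Ideal.map_pow, pow_mul] at h1
  have h2 : Ideal.map (ψ : (B ⧸ J) →+* E₀) ((Q ^ m) ^ k) ≤ ⊥ := by
    rw [Ideal.map_le_iff_le_comap]
    intro x hx
    have hx' := Ideal.pow_right_mono hm k hx
    rw [Ideal.mem_comap, Ideal.mem_bot]
    exact hk x hx'
  have h3 := h2 h1
  rw [Ideal.mem_bot] at h3
  exact h3

end onestep




section converse

variable {A B : Type u} [CommRing A] [CommRing B] [Algebra A B] (I J : Ideal B)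
  (Q : Ideal (B ⧸ J))

/-- Artin–Rees consequence. -/
theorem exists_pow_inf_le [IsNoetherianRing B] (Q' : Ideal B) (hQ : ∃ n : ℕ, I ^ n ≤ Q') :
    ∃ k : ℕ, I ^ k ⊓ J ≤ Q' * J := by
  obtain ⟨n₀, hn₀⟩ := hQ
  obtain ⟨k₀, hk₀⟩ := Ideal.exists_pow_inf_eq_pow_smul I (J : Submodule B B)
  refine ⟨k₀ + n₀, ?_⟩
  have h := hk₀ (k₀ + n₀) (Nat.le_add_right _ _)
  rw [Nat.add_sub_cancel_left] at h
  have e1 : ∀ n, (I ^ n • ⊤ : Submodule B B) = I ^ n := fun n => by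
    rw [smul_eq_mul, Ideal.mul_top]
  rw [e1, e1] at h
  intro x hx
  have hx' : x ∈ (I ^ (k₀ + n₀) ⊓ J : Submodule B B) := hx
  rw [h] at hx'
  have h2 : (I ^ n₀ • (I ^ k₀ ⊓ J : Submodule B B)) ≤ Q' * J := by
    rw [smul_eq_mul]
    exact Ideal.mul_mono hn₀ inf_le_right
  exact h2 hx'

/-- The class map `𝔍 → C₀ ⊗ 𝔍/𝔍²` kills `𝔍² + Q'𝔍`. -/
theorem tau_eq_zero {C₀ : Type*} [CommRing C₀] [Algebra B C₀] (𝔍 Q' : Ideal B)
    (hQ' : ∀ q ∈ Q', algebraMap B C₀ q = 0) (x : 𝔍) (hx : x.1 ∈ 𝔍 ^ 2 ⊔ Q' * 𝔍) :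
    (1 : C₀) ⊗ₜ[B] 𝔍.toCotangent x = 0 := by
  obtain ⟨a, ha, b, hb, hab⟩ := Submodule.mem_sup.mp hx
  have hb𝔍 : b ∈ 𝔍 := Ideal.mul_le_right hb
  have e1 : 𝔍.toCotangent x = 𝔍.toCotangent ⟨b, hb𝔍⟩ := by
    rw [Ideal.toCotangent_eq]
    have : x.1 - b = a := by rw [← hab]; ring
    rw [this]; exact ha
  have e2 : 𝔍.toCotangent ⟨b, hb𝔍⟩ ∈ (Q' • ⊤ : Submodule B 𝔍.Cotangent) := by
    have h1 : b ∈ Submodule.map 𝔍.subtype (Q' • ⊤ : Submodule B 𝔍) := by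
      rw [Submodule.map_smul'', Submodule.map_top, Submodule.range_subtype, smul_eq_mul]
      exact hb
    obtain ⟨b', hb', hbb⟩ := h1
    have : b' = ⟨b, hb𝔍⟩ := Subtype.ext hbb
    rw [← this]
    have h2 := Submodule.mem_map_of_mem (f := 𝔍.toCotangent) hb'
    rw [Submodule.map_smul''] at h2
    exact Submodule.smul_mono le_rfl le_top h2
  rw [e1]
  have h3 : (Q' • ⊤ : Submodule B 𝔍.Cotangent) ≤
      LinearMap.ker (TensorProduct.mk B C₀ 𝔍.Cotangent 1) := by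
    rw [Submodule.smul_le]
    intro q hq y _
    rw [LinearMap.mem_ker, map_smul, TensorProduct.mk_apply, TensorProduct.smul_tmul',
      Algebra.smul_def, mul_one, hQ' q hq, TensorProduct.zero_tmul]
  exact h3 e2

/-- Adic formal smoothness of the quotient gives a left inverse of the conormal map mod `Q`. -/
theorem leftInv_of_adic [IsNoetherianRing B]
    (hC : CAlgX.IsAdicFormallySmooth A (B ⧸ J) (I.map (Ideal.Quotient.mk J)))
    (hQ : ∃ n : ℕ, (I.map (Ideal.Quotient.mk J)) ^ n ≤ Q) :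
    ∃ g : ((B ⧸ J) ⧸ Q) ⊗[B] ((B ⧸ J) ⊗[B] Ω[B⁄A]) →ₗ[(B ⧸ J) ⧸ Q]
        ((B ⧸ J) ⧸ Q) ⊗[B] (RingHom.ker (algebraMap B (B ⧸ J))).Cotangent,
      g ∘ₗ LinearMap.baseChange ((B ⧸ J) ⧸ Q) (kerCotangentToTensor A B (B ⧸ J)) =
        LinearMap.id := by
  have h𝔍 : RingHom.ker (algebraMap B (B ⧸ J)) = J := by
    rw [Ideal.Quotient.algebraMap_eq, Ideal.mk_ker]
  set 𝔍 : Ideal B := RingHom.ker (algebraMap B (B ⧸ J)) with h𝔍def
  set Q' : Ideal B := Q.comap (Ideal.Quotient.mk J) with hQ'def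
  have hQ'0 : ∀ q ∈ Q', algebraMap B ((B ⧸ J) ⧸ Q) q = 0 := by
    intro q hq
    exact Ideal.Quotient.eq_zero_iff_mem.mpr hq
  have hIQ' : ∃ n : ℕ, I ^ n ≤ Q' := by
    obtain ⟨n, hn⟩ := hQ
    refine ⟨n, fun x hx => ?_⟩
    rw [hQ'def, Ideal.mem_comap]
    apply hn
    rw [← Ideal.map_pow]
    exact Ideal.mem_map_of_mem _ hx
  obtain ⟨k₁, hk₁⟩ := exists_pow_inf_le I 𝔍 Q' hIQ'
  -- the test algebra
  set 𝔞 : Ideal B := 𝔍 ^ 2 ⊔ Q' * 𝔍 ⊔ I ^ k₁ with h𝔞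
  set K : Ideal (B ⧸ 𝔞) := 𝔍.map (Ideal.Quotient.mk 𝔞) with hK
  have hK2 : K ^ 2 = ⊥ := by
    rw [hK, ← Ideal.map_pow, eq_bot_iff, Ideal.map_le_iff_le_comap]
    intro x hx
    rw [Ideal.mem_comap, Ideal.mem_bot, Ideal.Quotient.eq_zero_iff_mem]
    exact Ideal.mem_sup_left (Ideal.mem_sup_left hx)
  have hJK : ∀ x ∈ J, (Ideal.Quotient.mkₐ A K).comp (Ideal.Quotient.mkₐ A 𝔞) x = 0 := by
    intro x hx
    rw [AlgHom.comp_apply, Ideal.Quotient.mkₐ_eq_mk, Ideal.Quotient.mkₐ_eq_mk,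
      Ideal.Quotient.eq_zero_iff_mem]
    exact Ideal.mem_map_of_mem _ (h𝔍 ▸ hx)
  let ψ : (B ⧸ J) →ₐ[A] (B ⧸ 𝔞) ⧸ K :=
    Ideal.Quotient.liftₐ J ((Ideal.Quotient.mkₐ A K).comp (Ideal.Quotient.mkₐ A 𝔞)) hJK
  have hψmk : ∀ x : B, ψ (Ideal.Quotient.mk J x) =
      Ideal.Quotient.mk K (Ideal.Quotient.mk 𝔞 x) := fun x => rfl
  have hψ : ∃ k : ℕ, ∀ x ∈ (I.map (Ideal.Quotient.mk J)) ^ k, ψ x = 0 := by
    refine ⟨k₁, fun x hx => ?_⟩
    rw [← Ideal.map_pow, Ideal.mem_map_iff_of_surjective _ Ideal.Quotient.mk_surjective] at hx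
    obtain ⟨y, hy, rfl⟩ := hx
    rw [hψmk]
    have : Ideal.Quotient.mk 𝔞 y = 0 :=
      Ideal.Quotient.eq_zero_iff_mem.mpr (Ideal.mem_sup_right hy)
    rw [this, map_zero]
  obtain ⟨χ, hχ⟩ := hC (B ⧸ 𝔞) K hK2 ψ hψ
  have hχx : ∀ c, Ideal.Quotient.mk K (χ c) = ψ c := fun c => AlgHom.congr_fun hχ c
  let f : B →ₐ[A] (B ⧸ 𝔞) := χ.comp (Ideal.Quotient.mkₐ A J)
  have hf : (Ideal.Quotient.mkₐ A K).comp f = IsScalarTower.toAlgHom A B ((B ⧸ 𝔞) ⧸ K) := by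
    ext x
    change Ideal.Quotient.mk K (χ (Ideal.Quotient.mk J x)) = _
    rw [hχx, hψmk]
    rfl
  let δ₀ : Derivation A B K := derivationToSquareZeroOfLift K hK2 f hf
  have hδ₀ : ∀ x ∈ 𝔍, ((-δ₀) x : B ⧸ 𝔞) = Ideal.Quotient.mk 𝔞 x := by
    intro x hx
    have h1 : (δ₀ x : B ⧸ 𝔞) = f x - algebraMap B (B ⧸ 𝔞) x :=
      derivationToSquareZeroOfLift_apply K hK2 f hf x
    have h2 : f x = 0 := by
      change χ (Ideal.Quotient.mk J x) = 0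
      have : Ideal.Quotient.mk J x = 0 := by
        rw [Ideal.Quotient.eq_zero_iff_mem]; exact h𝔍 ▸ hx
      rw [this, map_zero]
    rw [Derivation.neg_apply, Submodule.coe_neg, h1, h2, zero_sub, neg_neg]
    rfl
  -- the comparison map `K → C₀ ⊗ 𝔍/𝔍²`
  let τ : 𝔍 →ₗ[B] ((B ⧸ J) ⧸ Q) ⊗[B] 𝔍.Cotangent :=
    (TensorProduct.mk B ((B ⧸ J) ⧸ Q) 𝔍.Cotangent 1) ∘ₗ 𝔍.toCotangent
  let πJ : 𝔍 →ₗ[B] K :=
    { toFun := fun x => ⟨Ideal.Quotient.mk 𝔞 x.1, Ideal.mem_map_of_mem _ x.2⟩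
      map_add' := fun x y => by ext; simp
      map_smul' := fun b x => by ext; simp [Algebra.smul_def] }
  have hπJ : Function.Surjective πJ := by
    rintro ⟨y, hy⟩
    rw [hK, Ideal.mem_map_iff_of_surjective _ Ideal.Quotient.mk_surjective] at hy
    obtain ⟨x, hx, rfl⟩ := hy
    exact ⟨⟨x, hx⟩, rfl⟩
  have hker : LinearMap.ker πJ ≤ LinearMap.ker τ := by
    intro x hx
    rw [LinearMap.mem_ker] at hx ⊢
    have hx0 : Ideal.Quotient.mk 𝔞 x.1 = 0 := congrArg Subtype.val hx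
    rw [Ideal.Quotient.eq_zero_iff_mem, h𝔞] at hx0
    obtain ⟨ab, hab, c, hc, habc⟩ := Submodule.mem_sup.mp hx0
    have hab𝔍 : ab ∈ 𝔍 := by
      obtain ⟨a, ha, b, hb, rfl⟩ := Submodule.mem_sup.mp hab
      exact 𝔍.add_mem (Ideal.pow_le_self (by norm_num) ha) (Ideal.mul_le_right hb)
    have hc𝔍 : c ∈ 𝔍 := by
      have : c = x.1 - ab := by rw [← habc]; ring
      rw [this]; exact 𝔍.sub_mem x.2 hab𝔍
    have hcQ : c ∈ Q' * 𝔍 := hk₁ ⟨hc, hc𝔍⟩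
    apply tau_eq_zero 𝔍 Q' hQ'0 x
    rw [← habc]
    exact Ideal.add_mem _ hab (Ideal.mem_sup_right hcQ)
  let θ : K →ₗ[B] ((B ⧸ J) ⧸ Q) ⊗[B] 𝔍.Cotangent :=
    (Submodule.liftQ (LinearMap.ker πJ) τ hker) ∘ₗ
      (LinearMap.quotKerEquivOfSurjective πJ hπJ).symm.toLinearMap
  have hθ : ∀ x : 𝔍, θ (πJ x) = τ x := by
    intro x
    have h1 : (LinearMap.quotKerEquivOfSurjective πJ hπJ).symm (πJ x) =
        Submodule.Quotient.mk x := by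
      rw [LinearEquiv.symm_apply_eq, LinearMap.quotKerEquivOfSurjective_apply_mk]
    simp only [θ, LinearMap.comp_apply, LinearEquiv.coe_coe, h1, Submodule.liftQ_apply]
  let gB : Ω[B⁄A] →ₗ[B] ((B ⧸ J) ⧸ Q) ⊗[B] 𝔍.Cotangent :=
    θ ∘ₗ (-δ₀).liftKaehlerDifferential
  have hgB : ∀ x (hx : x ∈ 𝔍), gB (KaehlerDifferential.D A B x) =
      (1 : (B ⧸ J) ⧸ Q) ⊗ₜ[B] 𝔍.toCotangent ⟨x, hx⟩ := by
    intro x hx
    have h1 : (-δ₀).liftKaehlerDifferential (KaehlerDifferential.D A B x) = πJ ⟨x, hx⟩ := by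
      rw [Derivation.liftKaehlerDifferential_comp_D]
      ext
      exact hδ₀ x hx
    change θ ((-δ₀).liftKaehlerDifferential (KaehlerDifferential.D A B x)) = _
    rw [h1, hθ]
    rfl
  let g : ((B ⧸ J) ⧸ Q) ⊗[B] ((B ⧸ J) ⊗[B] Ω[B⁄A]) →ₗ[(B ⧸ J) ⧸ Q]
      ((B ⧸ J) ⧸ Q) ⊗[B] 𝔍.Cotangent :=
    LinearMap.liftBaseChange ((B ⧸ J) ⧸ Q) ((LinearMap.liftBaseChange (B ⧸ J) gB).restrictScalars B)
  refine ⟨g, ?_⟩
  apply LinearMap.ext
  intro z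
  induction z using TensorProduct.induction_on with
  | zero => simp
  | tmul c y =>
    obtain ⟨⟨x, hx⟩, rfl⟩ := Ideal.toCotangent_surjective _ y
    rw [LinearMap.comp_apply, LinearMap.baseChange_tmul, kerCotangentToTensor_toCotangent,
      LinearMap.id_apply]
    simp only [g, LinearMap.liftBaseChange_tmul, LinearMap.restrictScalars_apply, one_smul]
    rw [hgB x hx, TensorProduct.smul_tmul', smul_eq_mul, mul_one]
  | add a b ha hb => rw [map_add, ha, hb, map_add]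

end converse


end Groth.Agent.H23.AdicSplit
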