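import Mathlib

/-!
# Left invertible linear maps into projective modules

Helper lemmas for the statements on left invertible maps `u : M → N` with `M` finite and `N`
projective (EGA 0_IV 19.1).
-/

set_option autoImplicit false

namespace Groth.Agent.H23.LeftInv

universe u v

section general

variable {R : Type*} [Ring R] {M N P : Type*} [AddCommGroup M] [AddCommGroup N] [AddCommGroup P]
  [Module R M] [Module R N] [Module R P]

/-- For an exact sequence `M → N → P → 0` with `N` projective, `f` is left invertible iff `f`
is injective and `P` is projective. -/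
theorem leftInv_iff_of_exact [Module.Projective R N] {f : M →ₗ[R] N} {g : N →ₗ[R] P}
    (h : Function.Exact f g) (hg : Function.Surjective g) :
    (∃ l : N →ₗ[R] M, l ∘ₗ f = LinearMap.id) ↔ Function.Injective f ∧ Module.Projective R P := by
  constructor
  · rintro ⟨l, hl⟩
    have hf : Function.Injective f :=
      Function.HasLeftInverse.injective ⟨l, fun x => LinearMap.congr_fun hl x⟩
    have key := (h.split_tfae hf hg).out 1 0
    obtain ⟨s, hs⟩ := key.mp ⟨l, hl⟩
    exact ⟨hf, Module.Projective.of_split s g hs⟩
  · rintro ⟨hf, hP⟩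
    obtain ⟨s, hs⟩ := Module.projective_lifting_property g LinearMap.id hg
    have key := (h.split_tfae hf hg).out 0 1
    exact key.mp ⟨s, hs⟩

end general

section transfer

variable {R : Type*} [Semiring R] {M N L : Type*} [AddCommMonoid M] [AddCommMonoid N]
  [AddCommMonoid L] [Module R M] [Module R N] [Module R L]

/-- If `b ∘ a ∘ U = U` then `U` is left invertible iff `a ∘ U` is. -/
theorem leftInv_iff_of_factor (U : M →ₗ[R] N) (a : N →ₗ[R] L) (b : L →ₗ[R] N)
    (h : b ∘ₗ a ∘ₗ U = U) :
    (∃ w : N →ₗ[R] M, w ∘ₗ U = LinearMap.id) ↔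
      (∃ w : L →ₗ[R] M, w ∘ₗ (a ∘ₗ U) = LinearMap.id) := by
  constructor
  · rintro ⟨w, hw⟩
    refine ⟨w ∘ₗ b, ?_⟩
    rw [LinearMap.comp_assoc, h, hw]
  · rintro ⟨w, hw⟩
    exact ⟨w ∘ₗ a, by rw [LinearMap.comp_assoc, hw]⟩

/-- If `b ∘ a ∘ U = U` then `U` is injective iff `a ∘ U` is. -/
theorem injective_iff_of_factor (U : M →ₗ[R] N) (a : N →ₗ[R] L) (b : L →ₗ[R] N)
    (h : b ∘ₗ a ∘ₗ U = U) :
    Function.Injective U ↔ Function.Injective (a ∘ₗ U) := by
  constructor
  · intro hU x y hxy
    apply hU
    rw [← h]
    simp only [LinearMap.comp_apply] at hxy ⊢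
    rw [hxy]
  · intro hU x y hxy
    apply hU
    simp only [LinearMap.comp_apply]
    rw [hxy]

end transfer

section factor

variable {A : Type u} [CommRing A] {M N : Type u} [AddCommGroup M] [Module A M]
  [AddCommGroup N] [Module A N]

/-- A map from a finite module to a projective module factors, up to a retraction, through a
finite free module. -/
theorem exists_finite_free_factor [Module.Finite A M] [Module.Projective A N] (u : M →ₗ[A] N) :
    ∃ (ι : Type u) (_ : Fintype ι) (a : N →ₗ[A] (ι → A)) (b : (ι → A) →ₗ[A] N),
      b ∘ₗ a ∘ₗ u = u := by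
  classical
  obtain ⟨s, hs⟩ := (Module.projective_def' (R := A) (P := N)).mp inferInstance
  obtain ⟨σ, hσ⟩ := (Module.Finite.fg_top : (⊤ : Submodule A M).FG)
  let T : Finset N := σ.biUnion fun m => (s (u m)).support
  have hT : ∀ m : M, s (u m) ∈ Finsupp.supported A A (T : Set N) := by
    intro m
    have hm : m ∈ Submodule.span A (σ : Set M) := by rw [hσ]; trivial
    have : Submodule.span A (σ : Set M) ≤
        (Finsupp.supported A A (T : Set N)).comap (s ∘ₗ u) := by
      rw [Submodule.span_le]
      intro x hx
      simp only [Submodule.comap_coe, Set.mem_preimage, LinearMap.comp_apply, SetLike.mem_coe,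
        Finsupp.mem_supported]
      intro n hn
      simp only [T, Finset.coe_biUnion, Set.mem_iUnion]
      exact ⟨x, hx, hn⟩
    exact this hm
  refine ⟨T, inferInstance,
    LinearMap.pi (fun t : T => (Finsupp.lapply (t : N)) ∘ₗ s),
    Fintype.linearCombination A (fun t : T => (t : N)), ?_⟩
  ext m
  simp only [LinearMap.comp_apply, Fintype.linearCombination_apply, LinearMap.pi_apply,
    Finsupp.lapply_apply]
  have h1 : u m = Finsupp.linearCombination A id (s (u m)) := by
    have := LinearMap.congr_fun hs (u m)
    simpa using this.symm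
  conv_rhs => rw [h1]
  rw [Finsupp.linearCombination_apply, Finset.sum_coe_sort T (fun t => (s (u m)) t • t)]
  rw [Finsupp.sum_of_support_subset (s (u m)) ((Finsupp.mem_supported A _).mp (hT m))]
  · rfl
  · intro i _; simp

end factor

section localization

variable {A : Type u} [CommRing A] (S : Submonoid A) {M N P : Type u} [AddCommGroup M] [Module A M]
  [AddCommGroup N] [Module A N] [AddCommGroup P] [Module A P]

/-- The `A`-linear localized map. -/
noncomputable abbrev lmap (f : M →ₗ[A] N) : LocalizedModule S M →ₗ[A] LocalizedModule S N :=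
  (LocalizedModule.map S f).restrictScalars A

theorem lmap_comp (f : M →ₗ[A] N) (g : N →ₗ[A] P) :
    lmap S (g ∘ₗ f) = lmap S g ∘ₗ lmap S f := by
  ext x
  induction x using LocalizedModule.induction_on with
  | h m s => simp [lmap, LocalizedModule.map_mk]

theorem lmap_id : lmap S (LinearMap.id : M →ₗ[A] M) = LinearMap.id := by
  ext x
  simp [lmap]

/-- Localization preserves left invertibility. -/
theorem leftInv_lmap (u : M →ₗ[A] N) (h : ∃ w : N →ₗ[A] M, w ∘ₗ u = LinearMap.id) :
    ∃ w : LocalizedModule S N →ₗ[A] LocalizedModule S M, w ∘ₗ lmap S u = LinearMap.id := by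
  obtain ⟨w, hw⟩ := h
  exact ⟨lmap S w, by rw [← lmap_comp, hw, lmap_id]⟩

/-- Transfer of localized left invertibility along a factorization. -/
theorem leftInv_lmap_iff_of_factor (u : M →ₗ[A] N) (a : N →ₗ[A] P) (b : P →ₗ[A] N)
    (h : b ∘ₗ a ∘ₗ u = u) :
    (∃ w : LocalizedModule S N →ₗ[A] LocalizedModule S M, w ∘ₗ lmap S u = LinearMap.id) ↔
      (∃ w : LocalizedModule S P →ₗ[A] LocalizedModule S M,
        w ∘ₗ lmap S (a ∘ₗ u) = LinearMap.id) := by
  rw [lmap_comp]
  apply leftInv_iff_of_factor (lmap S u) (lmap S a) (lmap S b)
  rw [← lmap_comp, ← lmap_comp, h]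

/-- Exactness of the `Localization S`-linear localized maps. -/
theorem map_exact' (g : M →ₗ[A] N) (h : N →ₗ[A] P) (ex : Function.Exact g h) :
    Function.Exact (LocalizedModule.map S g) (LocalizedModule.map S h) :=
  LocalizedModule.map_exact S g h ex

/-- `A`-linear left inverses of a localized map are the same as `Localization S`-linear ones. -/
theorem leftInv_lmap_iff_extend (u : M →ₗ[A] N) :
    (∃ w : LocalizedModule S N →ₗ[A] LocalizedModule S M, w ∘ₗ lmap S u = LinearMap.id) ↔
      (∃ l : LocalizedModule S N →ₗ[Localization S] LocalizedModule S M,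
        l ∘ₗ LocalizedModule.map S u = LinearMap.id) := by
  constructor
  · rintro ⟨w, hw⟩
    refine ⟨w.extendScalarsOfIsLocalization S (Localization S), ?_⟩
    ext x
    have := LinearMap.congr_fun hw x
    simpa using this
  · rintro ⟨l, hl⟩
    refine ⟨l.restrictScalars A, ?_⟩
    ext x
    have := LinearMap.congr_fun hl x
    simpa using this

/-- For `u : M → L` with `L` projective, the localized map is left invertible iff it is
injective and the localized cokernel is projective. -/
theorem leftInv_lmap_iff [Module.Projective A N] (u : M →ₗ[A] N) :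
    (∃ w : LocalizedModule S N →ₗ[A] LocalizedModule S M, w ∘ₗ lmap S u = LinearMap.id) ↔
      Function.Injective (LocalizedModule.map S u) ∧
        Module.Projective (Localization S) (LocalizedModule S (N ⧸ LinearMap.range u)) := by
  rw [leftInv_lmap_iff_extend]
  exact leftInv_iff_of_exact (map_exact' S u (LinearMap.range u).mkQ (LinearMap.exact_map_mkQ_range u))
    (LocalizedModule.map_surjective S _ (Submodule.mkQ_surjective _))

/-- Left invertibility passes to a further localization. -/
theorem leftInv_lmap_of_le {S T : Submonoid A} (hST : S ≤ T) (u : M →ₗ[A] N)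
    (h : ∃ w : LocalizedModule S N →ₗ[A] LocalizedModule S M, w ∘ₗ lmap S u = LinearMap.id) :
    ∃ w : LocalizedModule T N →ₗ[A] LocalizedModule T M, w ∘ₗ lmap T u = LinearMap.id := by
  obtain ⟨w, hw⟩ := h
  let ℓM : LocalizedModule S M →ₗ[A] LocalizedModule T M := LocalizedModule.liftOfLE S T hST
  let ℓN : LocalizedModule S N →ₗ[A] LocalizedModule T N := LocalizedModule.liftOfLE S T hST
  refine ⟨IsLocalizedModule.map T ℓN ℓM w, ?_⟩
  apply IsLocalizedModule.linearMap_ext T (LocalizedModule.mkLinearMap T M)
    (LocalizedModule.mkLinearMap T M)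
  ext m
  simp only [LinearMap.comp_apply, LocalizedModule.mkLinearMap_apply, LinearMap.id_apply,
    LinearMap.restrictScalars_apply, LocalizedModule.map_mk]
  have h1 : (LocalizedModule.mk (u m) (1 : T)) =
      ℓN (LocalizedModule.mkLinearMap S N (u m)) :=
    (IsLocalizedModule.liftOfLE_apply S T hST (LocalizedModule.mkLinearMap S N)
      (LocalizedModule.mkLinearMap T N) (u m)).symm
  have h2 : LocalizedModule.mkLinearMap S N (u m) =
      lmap S u (LocalizedModule.mkLinearMap S M m) := by
    simp [lmap, LocalizedModule.map_mk]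
  have h3 : w (lmap S u (LocalizedModule.mkLinearMap S M m)) =
      LocalizedModule.mkLinearMap S M m := LinearMap.congr_fun hw _
  rw [h1, IsLocalizedModule.map_apply, h2, h3]
  exact IsLocalizedModule.liftOfLE_apply S T hST (LocalizedModule.mkLinearMap S M)
      (LocalizedModule.mkLinearMap T M) m

/-- Spreading out a left inverse: if `u` becomes left invertible after localizing at `S`, it
already does so after inverting a single element of `S`. -/
theorem exists_leftInv_lmap_powers [Module.Finite A M] [Module.FinitePresentation A N]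
    (u : M →ₗ[A] N)
    (h : ∃ w : LocalizedModule S N →ₗ[A] LocalizedModule S M, w ∘ₗ lmap S u = LinearMap.id) :
    ∃ f ∈ S, ∃ w : LocalizedModule (Submonoid.powers f) N →ₗ[A]
        LocalizedModule (Submonoid.powers f) M,
      w ∘ₗ lmap (Submonoid.powers f) u = LinearMap.id := by
  obtain ⟨w, hw⟩ := h
  obtain ⟨w', s₀, H⟩ := Module.FinitePresentation.exists_lift_of_isLocalizedModule S
    (LocalizedModule.mkLinearMap S M) (w ∘ₗ LocalizedModule.mkLinearMap S N)
  have H₂ : LocalizedModule.mkLinearMap S M ∘ₗ (w' ∘ₗ u) =
      LocalizedModule.mkLinearMap S M ∘ₗ (s₀ • (LinearMap.id : M →ₗ[A] M)) := by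
    ext m
    have h1 := LinearMap.congr_fun H (u m)
    have h2 : LocalizedModule.mkLinearMap S N (u m) =
        lmap S u (LocalizedModule.mkLinearMap S M m) := by
      simp [lmap, LocalizedModule.map_mk]
    have h3 : w (lmap S u (LocalizedModule.mkLinearMap S M m)) =
        LocalizedModule.mkLinearMap S M m := LinearMap.congr_fun hw _
    simp only [LinearMap.comp_apply, LinearMap.smul_apply, h2, h3] at h1
    simp only [LinearMap.comp_apply, LinearMap.smul_apply, LinearMap.id_apply, h1]
    exact (map_smul (LocalizedModule.mkLinearMap S M) (s₀ : A) m).symm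
  obtain ⟨s₂, hs₂⟩ := Module.Finite.exists_smul_of_comp_eq_of_isLocalizedModule S
    (LocalizedModule.mkLinearMap S M) _ _ H₂
  refine ⟨((s₀ * s₂ : S) : A), (s₀ * s₂).2, ?_⟩
  set t : A := ((s₀ * s₂ : S) : A) with ht
  let Rₛ := Localization (Submonoid.powers t)
  have hu := IsLocalization.map_units (M := Submonoid.powers t) Rₛ ⟨t, Submonoid.mem_powers t⟩
  have hu₀ : IsUnit (algebraMap A Rₛ s₀) := isUnit_of_dvd_unit
      (map_dvd (algebraMap A Rₛ) ⟨s₂, by simp [ht]⟩) hu
  have hu₂ : IsUnit (algebraMap A Rₛ s₂) := isUnit_of_dvd_unit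
      (map_dvd (algebraMap A Rₛ) ⟨s₀, by simp [ht, mul_comm]⟩) hu
  let lₛ := LocalizedModule.map (Submonoid.powers t) u
  let lₛ' := LocalizedModule.map (Submonoid.powers t) w'
  have H_left : ((hu₀.unit⁻¹).1 • lₛ') ∘ₗ lₛ = LinearMap.id := by
    apply ((Module.End.isUnit_iff _).mp (hu₂.map (algebraMap Rₛ (Module.End Rₛ _)))).1
    apply ((Module.End.isUnit_iff _).mp (hu₀.map (algebraMap Rₛ (Module.End Rₛ _)))).1
    simp only [Module.algebraMap_end_apply, algebraMap_smul, LinearMap.map_smul_of_tower]
    rw [LinearMap.smul_comp, ← smul_assoc s₀.1, Algebra.smul_def s₀.1, IsUnit.mul_val_inv, one_smul]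
    apply LinearMap.restrictScalars_injective A
    apply IsLocalizedModule.ext (Submonoid.powers t)
      (LocalizedModule.mkLinearMap (Submonoid.powers t) M)
      (IsLocalizedModule.map_units (LocalizedModule.mkLinearMap (Submonoid.powers t) M))
    ext x
    have : s₂.1 • w' (u x) = s₂.1 • s₀.1 • x := congr($hs₂ x)
    simp [lₛ, lₛ', LocalizedModule.smul'_mk, this]
  refine ⟨((hu₀.unit⁻¹).1 • lₛ').restrictScalars A, ?_⟩
  ext x
  have := LinearMap.congr_fun H_left x
  simpa [lₛ] using this

end localization

section global

variable {A : Type u} [CommRing A] {M N : Type u} [AddCommGroup M] [Module A M]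
  [AddCommGroup N] [Module A N]

/-- For `u : M → N` with `N` projective, `u` is left invertible iff it is injective with
projective cokernel. -/
theorem leftInv_iff [Module.Projective A N] (u : M →ₗ[A] N) :
    (∃ w : N →ₗ[A] M, w ∘ₗ u = LinearMap.id) ↔
      Function.Injective u ∧ Module.Projective A (N ⧸ LinearMap.range u) :=
  leftInv_iff_of_exact (LinearMap.exact_map_mkQ_range u) (Submodule.mkQ_surjective _)

/-- The cokernel of a map from a finite module to a finitely presented one is finitely
presented. -/
theorem finitePresentation_coker [Module.Finite A M] [Module.FinitePresentation A N]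
    (u : M →ₗ[A] N) : Module.FinitePresentation A (N ⧸ LinearMap.range u) := by
  apply Module.finitePresentation_of_surjective (LinearMap.range u).mkQ
    (Submodule.mkQ_surjective _)
  rw [Submodule.ker_mkQ, LinearMap.range_eq_map]
  exact Submodule.FG.map _ Module.Finite.fg_top

/-- Local-global principle for left invertibility, finitely presented projective target. -/
theorem leftInv_of_localized_maximal [Module.Finite A M] [Module.FinitePresentation A N]
    [Module.Projective A N] (u : M →ₗ[A] N)
    (h : ∀ (m : Ideal A) [m.IsMaximal],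
        ∃ w : LocalizedModule m.primeCompl N →ₗ[A] LocalizedModule m.primeCompl M,
          w ∘ₗ lmap m.primeCompl u = LinearMap.id) :
    ∃ w : N →ₗ[A] M, w ∘ₗ u = LinearMap.id := by
  rw [leftInv_iff]
  have := finitePresentation_coker u
  constructor
  · apply injective_of_localized_maximal
    intro J hJ
    exact ((leftInv_lmap_iff J.primeCompl u).mp (h J)).1
  · apply Module.projective_of_localization_maximal
    intro J hJ
    exact ((leftInv_lmap_iff J.primeCompl u).mp (h J)).2

open TensorProduct in
/-- Faithfully flat descent of left invertibility, finitely presented projective target. -/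
theorem leftInv_of_baseChange [Module.Finite A M] [Module.FinitePresentation A N]
    [Module.Projective A N] (u : M →ₗ[A] N)
    (A' : Type u) [CommRing A'] [Algebra A A'] [Module.FaithfullyFlat A A']
    (h : ∃ w : A' ⊗[A] N →ₗ[A'] A' ⊗[A] M, w ∘ₗ u.baseChange A' = LinearMap.id) :
    ∃ w : N →ₗ[A] M, w ∘ₗ u = LinearMap.id := by
  rw [leftInv_iff]
  have := finitePresentation_coker u
  have hex : Function.Exact (u.baseChange A') ((LinearMap.range u).mkQ.baseChange A') := by
    have := lTensor_exact A' (LinearMap.exact_map_mkQ_range u) (Submodule.mkQ_surjective _)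
    exact this
  have hsurj : Function.Surjective ((LinearMap.range u).mkQ.baseChange A') := by
    have := LinearMap.lTensor_surjective A' (Submodule.mkQ_surjective (LinearMap.range u))
    exact this
  obtain ⟨hinj, hproj⟩ := (leftInv_iff_of_exact hex hsurj).mp h
  constructor
  · rw [← Module.FaithfullyFlat.lTensor_injective_iff_injective A A']
    exact hinj
  · have : Module.Flat A' (A' ⊗[A] (N ⧸ LinearMap.range u)) := inferInstance
    have : Module.Flat A (N ⧸ LinearMap.range u) := Module.Flat.of_flat_tensorProduct A _ A'
    exact Module.Flat.projective_of_finitePresentation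

end global

section residue

open TensorProduct

variable {A : Type u} [CommRing A] (p : Ideal A) [p.IsPrime] {M N : Type u}
  [AddCommGroup M] [Module A M] [AddCommGroup N] [Module A N]

/-- The comparison isomorphism `k(p) ⊗[A] M ≃ k(p) ⊗[A_p] M_p`. -/
noncomputable def residueEquiv (M : Type u) [AddCommGroup M] [Module A M] :
    p.ResidueField ⊗[A] M ≃+
      p.ResidueField ⊗[Localization.AtPrime p] (LocalizedModule p.primeCompl M) :=
  (AlgebraTensorModule.cancelBaseChange A (Localization.AtPrime p) p.ResidueField
      p.ResidueField M).symm.toAddEquiv.trans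
    (LinearEquiv.lTensor p.ResidueField
      (IsLocalizedModule.isBaseChange p.primeCompl (Localization.AtPrime p)
        (LocalizedModule.mkLinearMap p.primeCompl M)).equiv).toAddEquiv

theorem residueEquiv_tmul (c : p.ResidueField) (m : M) :
    residueEquiv p M (c ⊗ₜ m) = c ⊗ₜ (LocalizedModule.mkLinearMap p.primeCompl M m) := by
  simp [residueEquiv, IsBaseChange.equiv_tmul]

theorem residueEquiv_natural (u : M →ₗ[A] N) (y : p.ResidueField ⊗[A] M) :
    ((LocalizedModule.map p.primeCompl u).lTensor p.ResidueField) (residueEquiv p M y) =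
      residueEquiv p N ((u.lTensor p.ResidueField) y) := by
  induction y using TensorProduct.induction_on with
  | zero => simp
  | tmul c m =>
    rw [residueEquiv_tmul, LinearMap.lTensor_tmul, LinearMap.lTensor_tmul, residueEquiv_tmul]
    simp [LocalizedModule.map_mk]
  | add x y hx hy => simp only [map_add, hx, hy]

theorem lTensor_map_injective_iff (u : M →ₗ[A] N) :
    Function.Injective ((LocalizedModule.map p.primeCompl u).lTensor p.ResidueField) ↔
      Function.Injective (u.lTensor p.ResidueField) := by
  constructor
  · intro h x y hxy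
    apply (residueEquiv p M).injective
    apply h
    rw [residueEquiv_natural, residueEquiv_natural, hxy]
  · intro h x y hxy
    obtain ⟨x, rfl⟩ := (residueEquiv p M).surjective x
    obtain ⟨y, rfl⟩ := (residueEquiv p M).surjective y
    rw [residueEquiv_natural, residueEquiv_natural] at hxy
    rw [h ((residueEquiv p N).injective hxy)]

/-- At a prime `p`, for a finite free target, the localized map is left invertible iff the
map on fibres is injective. -/
theorem leftInv_lmap_prime_iff [Module.Finite A M] [Module.Finite A N] [Module.Free A N]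
    (u : M →ₗ[A] N) :
    (∃ w : LocalizedModule p.primeCompl N →ₗ[A] LocalizedModule p.primeCompl M,
        w ∘ₗ lmap p.primeCompl u = LinearMap.id) ↔
      Function.Injective (u.lTensor p.ResidueField) := by
  rw [leftInv_lmap_iff_extend, ← lTensor_map_injective_iff]
  have : Module.Free (Localization.AtPrime p) (LocalizedModule p.primeCompl N) :=
    Module.free_of_flat_of_isLocalRing
  exact IsLocalRing.split_injective_iff_lTensor_residueField_injective
    (R := Localization.AtPrime p) (LocalizedModule.map p.primeCompl u)

end residue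

end Groth.Agent.H23.LeftInv
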