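import Mathlib
import Groth.Agent.H23.LeftInv

/-!
# Formal smoothness of localizations of a quotient of a formally smooth algebra

For `B` formally smooth over `A` and `C = B/J`, formal smoothness of `C_p` over `A` is expressed as
left invertibility of the localization at `p` of the conormal map `J/J² → C ⊗ Ω[B/A]`.
-/

set_option autoImplicit false

namespace Groth.Agent.H23.SmoothQuot

open Groth.Agent.H23.LeftInv

universe u

section general

variable {R : Type u} [CommRing R] (S : Submonoid R) {M N Q : Type u} [AddCommGroup M] [Module R M]
  [AddCommGroup N] [Module R N] [AddCommGroup Q] [Module R Q]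

/-- The localized map is injective iff the localized kernel vanishes. -/
theorem map_injective_iff (u : M →ₗ[R] N) :
    Function.Injective (LocalizedModule.map S u) ↔
      Subsingleton (LocalizedModule S (LinearMap.ker u)) := by
  have hex := map_exact' S (LinearMap.ker u).subtype u
    (LinearMap.exact_subtype_ker_map u)
  have hinj : Function.Injective (LocalizedModule.map S (LinearMap.ker u).subtype) :=
    LocalizedModule.map_injective S _ (Submodule.subtype_injective _)
  constructor
  · intro h
    refine ⟨fun x y => hinj (h ?_)⟩
    rw [hex.apply_apply_eq_zero, hex.apply_apply_eq_zero]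
  · intro h
    rw [injective_iff_map_eq_zero]
    intro x hx
    obtain ⟨y, rfl⟩ := (hex x).mp hx
    rw [Subsingleton.elim y 0, map_zero]

/-- Localized left invertibility in terms of the kernel and the cokernel. -/
theorem leftInv_lmap_iff_of_exact [Module.Projective R N] (u : M →ₗ[R] N) (g : N →ₗ[R] Q)
    (hex : Function.Exact u g) (hg : Function.Surjective g) :
    (∃ w : LocalizedModule S N →ₗ[R] LocalizedModule S M, w ∘ₗ lmap S u = LinearMap.id) ↔
      Subsingleton (LocalizedModule S (LinearMap.ker u)) ∧
        Module.Projective (Localization S) (LocalizedModule S Q) := by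
  rw [leftInv_lmap_iff_extend, ← map_injective_iff]
  exact leftInv_iff_of_exact (map_exact' S u g hex) (LocalizedModule.map_surjective S _ hg)

end general

section smooth

variable {A B C : Type u} [CommRing A] [CommRing B] [CommRing C] [Algebra A B] [Algebra B C]
  [Algebra A C] [IsScalarTower A B C]

/-- The extension of `C` given by a surjection `B → C`. -/
noncomputable abbrev ext (hsurj : Function.Surjective (algebraMap B C)) :
    Algebra.Extension.{u} A C :=
  ⟨B, Function.surjInv hsurj, Function.surjInv_eq hsurj⟩

theorem finite_cotangent (hsurj : Function.Surjective (algebraMap B C))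
    [Module.Finite B (RingHom.ker (algebraMap B C)).Cotangent] :
    Module.Finite C (ext (A := A) hsurj).Cotangent := by
  have h1 : Module.Finite B (ext (A := A) hsurj).Cotangent :=
    Module.Finite.equiv (ext (A := A) hsurj).cotangentEquivCotangentKer.symm
  exact Module.Finite.of_restrictScalars_finite B C _

theorem formallySmooth_atPrime_iff [Algebra.FormallySmooth A B]
    (hsurj : Function.Surjective (algebraMap B C)) (p : Ideal C) [p.IsPrime] :
    Algebra.FormallySmooth A (Localization.AtPrime p) ↔
      ∃ w : LocalizedModule p.primeCompl (ext (A := A) hsurj).CotangentSpace →ₗ[C]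
          LocalizedModule p.primeCompl (ext (A := A) hsurj).Cotangent,
        w ∘ₗ lmap p.primeCompl (ext (A := A) hsurj).cotangentComplex = LinearMap.id := by
  set P := ext (A := A) hsurj
  have : Algebra.FormallySmooth A P.Ring := ‹_›
  rw [leftInv_lmap_iff_of_exact p.primeCompl P.cotangentComplex P.toKaehler
    P.exact_cotangentComplex_toKaehler P.toKaehler_surjective]
  rw [Algebra.formallySmooth_iff, and_comm]
  apply and_congr
  · have e2 : P.H1Cotangent ≃ₗ[C] Algebra.H1Cotangent A C := P.equivH1CotangentOfFormallySmooth
    have e1 := IsLocalizedModule.iso p.primeCompl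
      ((Algebra.H1Cotangent.map A A C (Localization.AtPrime p)) ∘ₗ e2.toLinearMap)
    exact e1.subsingleton_congr.symm
  · have e3 := (IsLocalizedModule.iso p.primeCompl
      (KaehlerDifferential.map A A C (Localization.AtPrime p))).extendScalarsOfIsLocalization
        p.primeCompl (Localization.AtPrime p)
    exact ⟨fun H => Module.Projective.of_equiv e3.symm, fun H => Module.Projective.of_equiv e3⟩

end smooth

end Groth.Agent.H23.SmoothQuot
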