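import Mathlib
import Groth.Agent.H23.AdicSplit
import Groth.Agent.H23.SmoothQuot

/-!
# Adic formal smoothness versus formal smoothness for local rings of quotients

For `B` Noetherian and formally smooth over `A`, `C = B/J` and `p` a prime of `C`: if `C_p` is
formally smooth over `A` for the adic topology of its maximal ideal then it is formally smooth.
Also base change of adic formal smoothness along a localization of the base.
-/

set_option autoImplicit false

namespace Groth.Agent.H23.AdicLocal

open TensorProduct KaehlerDifferential Groth.Agent.H23.AdicSplit Groth.Agent.H23.LeftInv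
  Groth.Agent.H23.SmoothQuot IsLocalRing

universe u


/-- Over a local ring, a map from a finite module to a projective module is split injective as soon
as it is injective on the fibre. -/
theorem leftInv_of_lTensor_residueField_injective {R : Type u} [CommRing R] [IsLocalRing R]
    {M N : Type u} [AddCommGroup M] [Module R M] [AddCommGroup N] [Module R N]
    [Module.Finite R M] [Module.Projective R N] (l : M →ₗ[R] N)
    (h : Function.Injective (l.lTensor (ResidueField R))) :
    ∃ l', l' ∘ₗ l = LinearMap.id := by
  obtain ⟨ι, _, a, b, hab⟩ := exists_finite_free_factor l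
  rw [leftInv_iff_of_factor l a b hab,
    IsLocalRing.split_injective_iff_lTensor_residueField_injective, LinearMap.lTensor_comp]
  refine (injective_iff_of_factor (l.lTensor (ResidueField R)) (a.lTensor (ResidueField R))
    (b.lTensor (ResidueField R)) ?_).mp h
  rw [← LinearMap.lTensor_comp, ← LinearMap.lTensor_comp, hab]

/-- Local case: a local Noetherian quotient of a formally smooth algebra which is formally smooth
for the adic topology of its maximal ideal is formally smooth. -/
theorem formallySmooth_of_adic_local {A B : Type u} [CommRing A] [CommRing B] [Algebra A B]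
    [IsNoetherianRing B] [Algebra.FormallySmooth A B] (J : Ideal B) [IsLocalRing (B ⧸ J)]
    (h : CAlgX.IsAdicFormallySmooth A (B ⧸ J) (maximalIdeal (B ⧸ J))) :
    Algebra.FormallySmooth A (B ⧸ J) := by
  set Q := maximalIdeal (B ⧸ J) with hQdef
  set I : Ideal B := Q.comap (Ideal.Quotient.mk J) with hIdef
  have hI : I.map (Ideal.Quotient.mk J) = Q :=
    Ideal.map_comap_of_surjective _ Ideal.Quotient.mk_surjective Q
  obtain ⟨g, hg⟩ := leftInv_of_adic I J Q (hI ▸ h) ⟨1, by rw [pow_one, hI]⟩
  have hsurj : Function.Surjective (algebraMap B (B ⧸ J)) := Ideal.Quotient.mk_surjective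
  have hsm : Algebra.FormallySmooth A (ext (A := A) hsurj).Ring := ‹_›
  rw [(ext (A := A) hsurj).formallySmooth_iff_split_injection]
  have hfin : Module.Finite (B ⧸ J) (ext (A := A) hsurj).Cotangent :=
    Algebra.Extension.Cotangent.finite (IsNoetherian.noetherian _)
  apply leftInv_of_lTensor_residueField_injective
  change Function.Injective ((ext (A := A) hsurj).cotangentComplex.lTensor ((B ⧸ J) ⧸ Q))
  have hcomp : TensorProduct.CompatibleSMul B (B ⧸ J) ((B ⧸ J) ⧸ Q) (ext (A := A) hsurj).Cotangent :=
    TensorProduct.CompatibleSMul.of_algebraMap_surjective _ _ hsurj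
  have hcomp' : TensorProduct.CompatibleSMul B (B ⧸ J) ((B ⧸ J) ⧸ Q)
      (ext (A := A) hsurj).CotangentSpace :=
    TensorProduct.CompatibleSMul.of_algebraMap_surjective _ _ hsurj
  let eM := TensorProduct.equivOfCompatibleSMul B (B ⧸ J) B ((B ⧸ J) ⧸ Q)
    (ext (A := A) hsurj).Cotangent
  let eN := TensorProduct.equivOfCompatibleSMul B (B ⧸ J) B ((B ⧸ J) ⧸ Q)
    (ext (A := A) hsurj).CotangentSpace
  let eK := LinearEquiv.lTensor ((B ⧸ J) ⧸ Q) (ext (A := A) hsurj).cotangentEquivCotangentKer
  have key : ∀ z, eN (((ext (A := A) hsurj).cotangentComplex.lTensor ((B ⧸ J) ⧸ Q)) z) =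
      (LinearMap.baseChange ((B ⧸ J) ⧸ Q) (kerCotangentToTensor A B (B ⧸ J))) (eK (eM z)) := by
    intro z
    induction z using TensorProduct.induction_on with
    | zero => simp
    | tmul c y =>
      obtain ⟨x, rfl⟩ := Algebra.Extension.Cotangent.mk_surjective y
      rw [LinearMap.lTensor_tmul, Algebra.Extension.cotangentComplex_mk]
      change c ⊗ₜ[B] ((1 : B ⧸ J) ⊗ₜ[B] KaehlerDifferential.D A B x.1) =
        (LinearMap.baseChange ((B ⧸ J) ⧸ Q) (kerCotangentToTensor A B (B ⧸ J)))
          (c ⊗ₜ[B] (RingHom.ker (algebraMap B (B ⧸ J))).toCotangent x)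
      rw [LinearMap.baseChange_tmul, kerCotangentToTensor_toCotangent]
    | add a b ha hb => simp only [map_add, ha, hb]
  rw [injective_iff_map_eq_zero]
  intro z hz
  have h1 := key z
  rw [hz, map_zero] at h1
  have h2 := congrArg g h1.symm
  rw [map_zero, ← LinearMap.comp_apply, hg, LinearMap.id_apply] at h2
  have h3 : eM z = 0 := eK.injective (h2.trans (map_zero eK).symm)
  exact eM.injective (h3.trans (map_zero eM).symm)

/-- Adic formal smoothness transports along algebra isomorphisms. -/
theorem adic_of_algEquiv {R S S' : Type u} [CommRing R] [CommRing S] [CommRing S'] [Algebra R S]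
    [Algebra R S'] (e : S ≃ₐ[R] S') (𝔫 : Ideal S) (𝔫' : Ideal S')
    (h𝔫 : ∀ y ∈ 𝔫', e.symm y ∈ 𝔫)
    (h : CAlgX.IsAdicFormallySmooth R S' 𝔫') : CAlgX.IsAdicFormallySmooth R S 𝔫 := by
  intro E _ _ N hN ψ hψ
  obtain ⟨k, hk⟩ := hψ
  have hmap : Ideal.map (e.symm : S' →+* S) (𝔫' ^ k) ≤ 𝔫 ^ k := by
    rw [Ideal.map_pow]
    apply Ideal.pow_right_mono
    rw [Ideal.map_le_iff_le_comap]
    intro y hy
    exact h𝔫 y hy
  obtain ⟨χ, hχ⟩ := h E N hN (ψ.comp (e.symm : S' →ₐ[R] S)) ⟨k, fun y hy => by
    rw [AlgHom.comp_apply]
    exact hk _ (hmap (Ideal.mem_map_of_mem _ hy))⟩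
  refine ⟨χ.comp (e : S →ₐ[R] S'), ?_⟩
  ext x
  have := AlgHom.congr_fun hχ (e x)
  rw [AlgHom.comp_apply, AlgHom.comp_apply] at this
  rw [AlgHom.comp_apply, AlgHom.comp_apply]
  have h2 : ψ ((e.symm : S' →ₐ[R] S) (e x)) = ψ x := congrArg ψ (e.symm_apply_apply x)
  exact this.trans h2

/-- For a localization of a quotient of a Noetherian formally smooth algebra, formal smoothness
for the adic topology of the maximal ideal implies formal smoothness. -/
theorem formallySmooth_of_adic_atPrime {A B C : Type u} [CommRing A] [CommRing B] [CommRing C]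
    [Algebra A B] [Algebra B C] [Algebra A C] [IsScalarTower A B C] [IsNoetherianRing B]
    [Algebra.FormallySmooth A B] (hsurj : Function.Surjective (algebraMap B C)) (p : Ideal C)
    [p.IsPrime]
    (h : CAlgX.IsAdicFormallySmooth A (Localization.AtPrime p)
      (maximalIdeal (Localization.AtPrime p))) :
    Algebra.FormallySmooth A (Localization.AtPrime p) := by
  have : Algebra.FormallySmooth B (Localization.AtPrime (p.comap (algebraMap B C))) :=
    Algebra.FormallySmooth.of_isLocalization (p.comap (algebraMap B C)).primeCompl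
  have : Algebra.FormallySmooth A (Localization.AtPrime (p.comap (algebraMap B C))) :=
    Algebra.FormallySmooth.comp A B _
  let ν₀ : Localization.AtPrime (p.comap (algebraMap B C)) →+* Localization.AtPrime p :=
    Localization.localRingHom (p.comap (algebraMap B C)) p (algebraMap B C) rfl
  have hν₀ : Function.Surjective ν₀ := RingHom.surjective_localRingHom_of_surjective _ hsurj p
  let ν : Localization.AtPrime (p.comap (algebraMap B C)) →ₐ[A] Localization.AtPrime p :=
    { ν₀ with
      commutes' := fun a => by
        change ν₀ (algebraMap A _ a) = _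
        rw [IsScalarTower.algebraMap_apply A B (Localization.AtPrime (p.comap (algebraMap B C))),
          Localization.localRingHom_to_map, ← IsScalarTower.algebraMap_apply,
          ← IsScalarTower.algebraMap_apply] }
  have hν : Function.Surjective ν := hν₀
  let e : (Localization.AtPrime (p.comap (algebraMap B C)) ⧸ RingHom.ker ν) ≃ₐ[A]
      Localization.AtPrime p := Ideal.quotientKerAlgEquivOfSurjective hν
  have hloc : IsLocalRing (Localization.AtPrime (p.comap (algebraMap B C)) ⧸ RingHom.ker ν) :=
    e.symm.toRingEquiv.isLocalRing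
  have h' : CAlgX.IsAdicFormallySmooth A
      (Localization.AtPrime (p.comap (algebraMap B C)) ⧸ RingHom.ker ν)
      (maximalIdeal _) := by
    apply adic_of_algEquiv e _ _ _ h
    intro y hy
    rw [mem_maximalIdeal, mem_nonunits_iff] at hy ⊢
    intro hu
    apply hy
    have := hu.map e
    rwa [AlgEquiv.apply_symm_apply] at this
  have h'' := formallySmooth_of_adic_local (RingHom.ker ν) h'
  exact Algebra.FormallySmooth.of_equiv e




section basechange

variable {A A' S : Type u} [CommRing A] [CommRing A'] [CommRing S] [Algebra A A'] [Algebra A S]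
  [Algebra A' S] [IsScalarTower A A' S] (M : Submonoid A) [IsLocalization M A']

include M in
/-- Formal smoothness over `A` gives adic formal smoothness over a localization of `A`. -/
theorem adic_of_formallySmooth_of_isLocalization [Algebra.FormallySmooth A S] (𝔫 : Ideal S) :
    CAlgX.IsAdicFormallySmooth A' S 𝔫 := by
  intro E _ _ N hN ψ _
  letI : Algebra A E := ((algebraMap A' E).comp (algebraMap A A')).toAlgebra
  have : IsScalarTower A A' E := IsScalarTower.of_algebraMap_eq' rfl
  obtain ⟨χ, hχ⟩ := Algebra.FormallySmooth.exists_lift N ⟨2, hN⟩ (ψ.restrictScalars A)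
  have hcomm : (χ : S →+* E).comp (algebraMap A' S) = algebraMap A' E := by
    apply IsLocalization.ringHom_ext M
    ext a
    simp only [RingHom.comp_apply]
    rw [← IsScalarTower.algebraMap_apply A A' S, ← IsScalarTower.algebraMap_apply A A' E]
    exact χ.commutes a
  refine ⟨{ (χ : S →+* E) with commutes' := fun a' => RingHom.congr_fun hcomm a' }, ?_⟩
  ext x
  exact AlgHom.congr_fun hχ x

include M in
/-- Adic formal smoothness over a localization of `A` gives adic formal smoothness over `A`. -/
theorem adic_of_adic_isLocalization (𝔫 : Ideal S) (h : CAlgX.IsAdicFormallySmooth A' S 𝔫) :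
    CAlgX.IsAdicFormallySmooth A S 𝔫 := by
  intro E _ _ N hN ψ hψ
  have hunit : ∀ m : M, IsUnit (algebraMap A E m) := by
    intro m
    rw [← IsNilpotent.isUnit_quotient_mk_iff (I := N) ⟨2, hN⟩]
    have h1 : Ideal.Quotient.mk N (algebraMap A E m) = ψ (algebraMap A S m) := by
      rw [ψ.commutes]; rfl
    rw [h1, IsScalarTower.algebraMap_apply A A' S]
    exact ((IsLocalization.map_units A' m).map (algebraMap A' S)).map ψ
  let φ : A' →+* E := IsLocalization.lift (M := M) (g := algebraMap A E) hunit
  letI : Algebra A' E := φ.toAlgebra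
  have hφ : ∀ a, algebraMap A' E (algebraMap A A' a) = algebraMap A E a :=
    fun a => IsLocalization.lift_eq _ a
  have : IsScalarTower A A' E := IsScalarTower.of_algebraMap_eq (fun a => (hφ a).symm)
  have hcomm : (ψ : S →+* E ⧸ N).comp (algebraMap A' S) = algebraMap A' (E ⧸ N) := by
    apply IsLocalization.ringHom_ext M
    ext a
    simp only [RingHom.comp_apply]
    rw [← IsScalarTower.algebraMap_apply A A' S, ← IsScalarTower.algebraMap_apply A A' (E ⧸ N)]
    exact ψ.commutes a
  let ψ' : S →ₐ[A'] E ⧸ N :=
    { (ψ : S →+* E ⧸ N) with commutes' := fun a' => RingHom.congr_fun hcomm a' }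
  obtain ⟨χ', hχ'⟩ := h E N hN ψ' hψ
  refine ⟨χ'.restrictScalars A, ?_⟩
  ext x
  exact AlgHom.congr_fun hχ' x

end basechange


end Groth.Agent.H23.AdicLocal
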