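import Mathlib
import Groth.Agent.H23.AdicSplit

/-!
# Variant of `leftInv_of_adic` using only the lifting problems actually needed
-/

set_option autoImplicit false

namespace Groth.Agent.H23.AdicSplit

universe u

open TensorProduct KaehlerDifferential

section converse2

variable {A B : Type u} [CommRing A] [CommRing B] [Algebra A B] (I J : Ideal B)
  (Q : Ideal (B ⧸ J))

/-- A left inverse of the conormal map mod `Q` from the solvability of specific lifting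
problems (with Artinian targets when `I` is maximal). -/
theorem leftInv_of_lift [IsNoetherianRing B]
    (hQ : ∃ n : ℕ, (I.map (Ideal.Quotient.mk J)) ^ n ≤ Q)
    (hlift : ∀ k₁ : ℕ, ∃ χ : (B ⧸ J) →ₐ[A]
        B ⧸ ((RingHom.ker (algebraMap B (B ⧸ J))) ^ 2 ⊔
          Q.comap (Ideal.Quotient.mk J) * RingHom.ker (algebraMap B (B ⧸ J)) ⊔ I ^ (k₁ + 1)),
      ∀ x : B, χ (Ideal.Quotient.mk J x) - Ideal.Quotient.mk _ x ∈
        (RingHom.ker (algebraMap B (B ⧸ J))).map (Ideal.Quotient.mk _)) :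
    ∃ g : ((B ⧸ J) ⧸ Q) ⊗[B] ((B ⧸ J) ⊗[B] Ω[B⁄A]) →ₗ[(B ⧸ J) ⧸ Q]
        ((B ⧸ J) ⧸ Q) ⊗[B] (RingHom.ker (algebraMap B (B ⧸ J))).Cotangent,
      g ∘ₗ LinearMap.baseChange ((B ⧸ J) ⧸ Q) (kerCotangentToTensor A B (B ⧸ J)) =
        LinearMap.id := by
  have h𝔍 : RingHom.ker (algebraMap B (B ⧸ J)) = J := by
    rw [Ideal.Quotient.algebraMap_eq, Ideal.mk_ker]
  set 𝔍 : Ideal B := RingHom.ker (algebraMap B (B ⧸ J)) with h𝔍def
  set Q' : Ideal B := Q.comap (Ideal.Quotient.mk J) with hQ'def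
  have hQ'0 : ∀ q ∈ Q', algebraMap B ((B ⧸ J) ⧸ Q) q = 0 := by
    intro q hq
    exact Ideal.Quotient.eq_zero_iff_mem.mpr hq
  have hIQ' : ∃ n : ℕ, I ^ n ≤ Q' := by
    obtain ⟨n, hn⟩ := hQ
    refine ⟨n, fun x hx => ?_⟩
    rw [hQ'def, Ideal.mem_comap]
    apply hn
    rw [← Ideal.map_pow]
    exact Ideal.mem_map_of_mem _ hx
  obtain ⟨k₀, hk₀⟩ := exists_pow_inf_le I 𝔍 Q' hIQ'
  have hk₁ : I ^ (k₀ + 1) ⊓ 𝔍 ≤ Q' * 𝔍 :=
    le_trans (inf_le_inf_right _ (Ideal.pow_le_pow_right (Nat.le_succ k₀))) hk₀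
  -- the test algebra
  set 𝔞 : Ideal B := 𝔍 ^ 2 ⊔ Q' * 𝔍 ⊔ I ^ (k₀ + 1) with h𝔞
  have hlift' : ∃ χ : (B ⧸ J) →ₐ[A] B ⧸ 𝔞, ∀ x : B,
      χ (Ideal.Quotient.mk J x) - Ideal.Quotient.mk 𝔞 x ∈ 𝔍.map (Ideal.Quotient.mk 𝔞) := hlift k₀
  obtain ⟨χ, hχ0⟩ := hlift'
  set K : Ideal (B ⧸ 𝔞) := 𝔍.map (Ideal.Quotient.mk 𝔞) with hK
  have hK2 : K ^ 2 = ⊥ := by
    rw [hK, ← Ideal.map_pow, eq_bot_iff, Ideal.map_le_iff_le_comap]
    intro x hx
    rw [Ideal.mem_comap, Ideal.mem_bot, Ideal.Quotient.eq_zero_iff_mem]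
    exact Ideal.mem_sup_left (Ideal.mem_sup_left hx)
  let f : B →ₐ[A] (B ⧸ 𝔞) := χ.comp (Ideal.Quotient.mkₐ A J)
  have hf : (Ideal.Quotient.mkₐ A K).comp f = IsScalarTower.toAlgHom A B ((B ⧸ 𝔞) ⧸ K) := by
    ext x
    change Ideal.Quotient.mk K (χ (Ideal.Quotient.mk J x)) = _
    rw [(Ideal.Quotient.eq).mpr (hχ0 x)]
    rfl
  let δ₀ : Derivation A B K := derivationToSquareZeroOfLift K hK2 f hf
  have hδ₀ : ∀ x ∈ 𝔍, ((-δ₀) x : B ⧸ 𝔞) = Ideal.Quotient.mk 𝔞 x := by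
    intro x hx
    have h1 : (δ₀ x : B ⧸ 𝔞) = f x - algebraMap B (B ⧸ 𝔞) x :=
      derivationToSquareZeroOfLift_apply K hK2 f hf x
    have h2 : f x = 0 := by
      change χ (Ideal.Quotient.mk J x) = 0
      have : Ideal.Quotient.mk J x = 0 := by
        rw [Ideal.Quotient.eq_zero_iff_mem]; exact h𝔍 ▸ hx
      rw [this, map_zero]
    rw [Derivation.neg_apply, Submodule.coe_neg, h1, h2, zero_sub, neg_neg]
    rfl
  -- the comparison map `K → C₀ ⊗ 𝔍/𝔍²`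
  let τ : 𝔍 →ₗ[B] ((B ⧸ J) ⧸ Q) ⊗[B] 𝔍.Cotangent :=
    (TensorProduct.mk B ((B ⧸ J) ⧸ Q) 𝔍.Cotangent 1) ∘ₗ 𝔍.toCotangent
  let πJ : 𝔍 →ₗ[B] K :=
    { toFun := fun x => ⟨Ideal.Quotient.mk 𝔞 x.1, Ideal.mem_map_of_mem _ x.2⟩
      map_add' := fun x y => by ext; simp
      map_smul' := fun b x => by ext; simp [Algebra.smul_def] }
  have hπJ : Function.Surjective πJ := by
    rintro ⟨y, hy⟩
    rw [hK, Ideal.mem_map_iff_of_surjective _ Ideal.Quotient.mk_surjective] at hy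
    obtain ⟨x, hx, rfl⟩ := hy
    exact ⟨⟨x, hx⟩, rfl⟩
  have hker : LinearMap.ker πJ ≤ LinearMap.ker τ := by
    intro x hx
    rw [LinearMap.mem_ker] at hx ⊢
    have hx0 : Ideal.Quotient.mk 𝔞 x.1 = 0 := congrArg Subtype.val hx
    rw [Ideal.Quotient.eq_zero_iff_mem, h𝔞] at hx0
    obtain ⟨ab, hab, c, hc, habc⟩ := Submodule.mem_sup.mp hx0
    have hab𝔍 : ab ∈ 𝔍 := by
      obtain ⟨a, ha, b, hb, rfl⟩ := Submodule.mem_sup.mp hab
      exact 𝔍.add_mem (Ideal.pow_le_self (by norm_num) ha) (Ideal.mul_le_right hb)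
    have hc𝔍 : c ∈ 𝔍 := by
      have : c = x.1 - ab := by rw [← habc]; ring
      rw [this]; exact 𝔍.sub_mem x.2 hab𝔍
    have hcQ : c ∈ Q' * 𝔍 := hk₁ ⟨hc, hc𝔍⟩
    apply tau_eq_zero 𝔍 Q' hQ'0 x
    rw [← habc]
    exact Ideal.add_mem _ hab (Ideal.mem_sup_right hcQ)
  let θ : K →ₗ[B] ((B ⧸ J) ⧸ Q) ⊗[B] 𝔍.Cotangent :=
    (Submodule.liftQ (LinearMap.ker πJ) τ hker) ∘ₗ
      (LinearMap.quotKerEquivOfSurjective πJ hπJ).symm.toLinearMap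
  have hθ : ∀ x : 𝔍, θ (πJ x) = τ x := by
    intro x
    have h1 : (LinearMap.quotKerEquivOfSurjective πJ hπJ).symm (πJ x) =
        Submodule.Quotient.mk x := by
      rw [LinearEquiv.symm_apply_eq, LinearMap.quotKerEquivOfSurjective_apply_mk]
    simp only [θ, LinearMap.comp_apply, LinearEquiv.coe_coe, h1, Submodule.liftQ_apply]
  let gB : Ω[B⁄A] →ₗ[B] ((B ⧸ J) ⧸ Q) ⊗[B] 𝔍.Cotangent :=
    θ ∘ₗ (-δ₀).liftKaehlerDifferential
  have hgB : ∀ x (hx : x ∈ 𝔍), gB (KaehlerDifferential.D A B x) =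
      (1 : (B ⧸ J) ⧸ Q) ⊗ₜ[B] 𝔍.toCotangent ⟨x, hx⟩ := by
    intro x hx
    have h1 : (-δ₀).liftKaehlerDifferential (KaehlerDifferential.D A B x) = πJ ⟨x, hx⟩ := by
      rw [Derivation.liftKaehlerDifferential_comp_D]
      ext
      exact hδ₀ x hx
    change θ ((-δ₀).liftKaehlerDifferential (KaehlerDifferential.D A B x)) = _
    rw [h1, hθ]
    rfl
  let g : ((B ⧸ J) ⧸ Q) ⊗[B] ((B ⧸ J) ⊗[B] Ω[B⁄A]) →ₗ[(B ⧸ J) ⧸ Q]
      ((B ⧸ J) ⧸ Q) ⊗[B] 𝔍.Cotangent :=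
    LinearMap.liftBaseChange ((B ⧸ J) ⧸ Q) ((LinearMap.liftBaseChange (B ⧸ J) gB).restrictScalars B)
  refine ⟨g, ?_⟩
  apply LinearMap.ext
  intro z
  induction z using TensorProduct.induction_on with
  | zero => simp
  | tmul c y =>
    obtain ⟨⟨x, hx⟩, rfl⟩ := Ideal.toCotangent_surjective _ y
    rw [LinearMap.comp_apply, LinearMap.baseChange_tmul, kerCotangentToTensor_toCotangent,
      LinearMap.id_apply]
    simp only [g, LinearMap.liftBaseChange_tmul, LinearMap.restrictScalars_apply, one_smul]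
    rw [hgB x hx, TensorProduct.smul_tmul', smul_eq_mul, mul_one]
  | add a b ha hb => rw [map_add, ha, hb, map_add]

end converse2

end Groth.Agent.H23.AdicSplit
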