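import Mathlib
import Groth.Agent.H23.AdicLocal
import Groth.Agent.H23.AdicSplit2

/-!
# Formal smoothness of a local quotient from the solvability of specific lifting problems
-/

set_option autoImplicit false

namespace Groth.Agent.H23.AdicLocal

open TensorProduct KaehlerDifferential Groth.Agent.H23.AdicSplit Groth.Agent.H23.LeftInv
  Groth.Agent.H23.SmoothQuot IsLocalRing

universe u

/-- Local case: a local Noetherian quotient `B/J` of a formally smooth algebra is formally smooth
as soon as the canonical maps `B/J → (B/𝔞)/K`, with `𝔞 = J² + 𝔪J + 𝔪^(k+1)`, lift to `B/𝔞`. -/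
theorem formallySmooth_of_lifts_local {A B : Type u} [CommRing A] [CommRing B] [Algebra A B]
    [IsNoetherianRing B] [Algebra.FormallySmooth A B] (J : Ideal B) [IsLocalRing (B ⧸ J)]
    (hlift : ∀ k₁ : ℕ, ∃ χ : (B ⧸ J) →ₐ[A]
        B ⧸ ((RingHom.ker (algebraMap B (B ⧸ J))) ^ 2 ⊔
          (maximalIdeal (B ⧸ J)).comap (Ideal.Quotient.mk J) *
            RingHom.ker (algebraMap B (B ⧸ J)) ⊔
            ((maximalIdeal (B ⧸ J)).comap (Ideal.Quotient.mk J)) ^ (k₁ + 1)),
      ∀ x : B, χ (Ideal.Quotient.mk J x) - Ideal.Quotient.mk _ x ∈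
        (RingHom.ker (algebraMap B (B ⧸ J))).map (Ideal.Quotient.mk _)) :
    Algebra.FormallySmooth A (B ⧸ J) := by
  set Q := maximalIdeal (B ⧸ J) with hQdef
  set I : Ideal B := Q.comap (Ideal.Quotient.mk J) with hIdef
  have hI : I.map (Ideal.Quotient.mk J) = Q :=
    Ideal.map_comap_of_surjective _ Ideal.Quotient.mk_surjective Q
  obtain ⟨g, hg⟩ := leftInv_of_lift I J Q ⟨1, by rw [pow_one, hI]⟩ hlift
  have hsurj : Function.Surjective (algebraMap B (B ⧸ J)) := Ideal.Quotient.mk_surjective
  have hsm : Algebra.FormallySmooth A (ext (A := A) hsurj).Ring := ‹_›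
  rw [(ext (A := A) hsurj).formallySmooth_iff_split_injection]
  have hfin : Module.Finite (B ⧸ J) (ext (A := A) hsurj).Cotangent :=
    Algebra.Extension.Cotangent.finite (IsNoetherian.noetherian _)
  apply leftInv_of_lTensor_residueField_injective
  change Function.Injective ((ext (A := A) hsurj).cotangentComplex.lTensor ((B ⧸ J) ⧸ Q))
  have hcomp : TensorProduct.CompatibleSMul B (B ⧸ J) ((B ⧸ J) ⧸ Q) (ext (A := A) hsurj).Cotangent :=
    TensorProduct.CompatibleSMul.of_algebraMap_surjective _ _ hsurj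
  have hcomp' : TensorProduct.CompatibleSMul B (B ⧸ J) ((B ⧸ J) ⧸ Q)
      (ext (A := A) hsurj).CotangentSpace :=
    TensorProduct.CompatibleSMul.of_algebraMap_surjective _ _ hsurj
  let eM := TensorProduct.equivOfCompatibleSMul B (B ⧸ J) B ((B ⧸ J) ⧸ Q)
    (ext (A := A) hsurj).Cotangent
  let eN := TensorProduct.equivOfCompatibleSMul B (B ⧸ J) B ((B ⧸ J) ⧸ Q)
    (ext (A := A) hsurj).CotangentSpace
  let eK := LinearEquiv.lTensor ((B ⧸ J) ⧸ Q) (ext (A := A) hsurj).cotangentEquivCotangentKer
  have key : ∀ z, eN (((ext (A := A) hsurj).cotangentComplex.lTensor ((B ⧸ J) ⧸ Q)) z) =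
      (LinearMap.baseChange ((B ⧸ J) ⧸ Q) (kerCotangentToTensor A B (B ⧸ J))) (eK (eM z)) := by
    intro z
    induction z using TensorProduct.induction_on with
    | zero => simp
    | tmul c y =>
      obtain ⟨x, rfl⟩ := Algebra.Extension.Cotangent.mk_surjective y
      rw [LinearMap.lTensor_tmul, Algebra.Extension.cotangentComplex_mk]
      change c ⊗ₜ[B] ((1 : B ⧸ J) ⊗ₜ[B] KaehlerDifferential.D A B x.1) =
        (LinearMap.baseChange ((B ⧸ J) ⧸ Q) (kerCotangentToTensor A B (B ⧸ J)))
          (c ⊗ₜ[B] (RingHom.ker (algebraMap B (B ⧸ J))).toCotangent x)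
      rw [LinearMap.baseChange_tmul, kerCotangentToTensor_toCotangent]
    | add a b ha hb => simp only [map_add, ha, hb]
  rw [injective_iff_map_eq_zero]
  intro z hz
  have h1 := key z
  rw [hz, map_zero] at h1
  have h2 := congrArg g h1.symm
  rw [map_zero, ← LinearMap.comp_apply, hg, LinearMap.id_apply] at h2
  have h3 : eM z = 0 := eK.injective (h2.trans (map_zero eK).symm)
  exact eM.injective (h3.trans (map_zero eM).symm)


end Groth.Agent.H23.AdicLocal
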