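import Mathlib
import Groth.Agent.H23.SmoothQuot
import Groth.Agent.S4530

/-!
# The Jacobian criterion for localizations of quotients of formally smooth algebras

For `B` formally smooth over `A`, `J ≤ q` ideals of `B` with `q` prime and `J` finitely generated,
`(B/J)_q` is formally smooth over `A` iff there are `f₁, …, f_m ∈ J` generating `J B_q` and
`A`-derivations `D₁, …, D_m` of `B` with `det (D_j f_i) ∉ q`.
-/

set_option autoImplicit false

namespace Groth.Agent.H23.Jacobian

open TensorProduct

universe u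

section sep

/-- Functionals coming from the dual of a projective module separate the points of a base
change. -/
theorem eq_zero_of_forall_lTensor {B : Type*} [CommRing B] {Ω : Type*} [AddCommGroup Ω]
    [Module B Ω] [Module.Projective B Ω] (κ : Type*) [CommRing κ] [Algebra B κ] (z : κ ⊗[B] Ω)
    (h : ∀ ℓ : Ω →ₗ[B] B, (ℓ.lTensor κ) z = 0) : z = 0 := by
  classical
  obtain ⟨s, hs⟩ := (Module.projective_def' (R := B) (P := Ω)).mp inferInstance
  have h1 : (s.lTensor κ) z = 0 := by
    apply (TensorProduct.finsuppRight B B κ B Ω).injective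
    ext i
    rw [finsuppRight_apply, map_zero, Finsupp.zero_apply, ← LinearMap.comp_apply,
      ← LinearMap.lTensor_comp]
    exact h _
  have h2 := congrArg ((Finsupp.linearCombination B id).lTensor κ) h1
  rw [← LinearMap.comp_apply, ← LinearMap.lTensor_comp, hs, LinearMap.lTensor_id, map_zero] at h2
  exact h2

end sep



open Groth.Agent.H23.SmoothQuot

/-- From a separating family of functionals one can extract a nonvanishing minor on any finite
linearly independent family. -/
theorem exists_det_ne_zero {K : Type*} [Field K] {W : Type*} [AddCommGroup W] [Module K W]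
    {ι : Type*} (φ : ι → (W →ₗ[K] K)) (hφ : ∀ z, (∀ i, φ i z = 0) → z = 0) {m : ℕ}
    (w : Fin m → W) (hw : LinearIndependent K w) :
    ∃ j : Fin m → ι, Matrix.det (Matrix.of fun a b => φ (j b) (w a)) ≠ 0 := by
  classical
  set ev : ι → (Fin m → K) := fun i a => φ i (w a) with hev
  have hspan : Submodule.span K (Set.range ev) = ⊤ := by
    by_contra hne
    obtain ⟨f, hf0, hf⟩ := Submodule.exists_le_ker_of_lt_top _ (lt_top_iff_ne_top.mpr hne)
    set c : Fin m → K := fun a => f (fun b => if a = b then 1 else 0) with hc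
    have hfx : ∀ x, f x = ∑ a, x a * c a := by
      intro x
      rw [LinearMap.pi_apply_eq_sum_univ f x]
      rfl
    have h1 : ∀ i, φ i (∑ a, c a • w a) = 0 := by
      intro i
      have h2 : f (ev i) = 0 := hf (Submodule.subset_span ⟨i, rfl⟩)
      rw [hfx] at h2
      rw [map_sum, ← h2]
      apply Finset.sum_congr rfl
      intro a _
      rw [map_smul, smul_eq_mul, mul_comm]
    have h0 := hφ _ h1
    have hc0 : ∀ a, c a = 0 := Fintype.linearIndependent_iff.mp hw c h0
    apply hf0
    apply LinearMap.ext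
    intro x
    rw [hfx]
    simp [hc0]
  obtain ⟨g, hg, -, hgli⟩ := Submodule.exists_fun_fin_finrank_span_eq K (Set.range ev)
  have hrank : Module.finrank K (Submodule.span K (Set.range ev)) = m := by
    rw [hspan, finrank_top]; simp
  set g' : Fin m → (Fin m → K) := g ∘ Fin.cast hrank.symm with hg'
  have hg'li : LinearIndependent K g' := hgli.comp _ (Fin.cast_injective _)
  have hg'mem : ∀ l, ∃ i, ev i = g' l := fun l => hg _
  choose j hj using hg'mem
  refine ⟨j, ?_⟩
  have hM : IsUnit (Matrix.of g') := Matrix.linearIndependent_rows_iff_isUnit.mp hg'li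
  have hdet : (Matrix.of g').det ≠ 0 := ((Matrix.isUnit_iff_isUnit_det _).mp hM).ne_zero
  have : (Matrix.of fun a b => φ (j b) (w a)) = (Matrix.of g').transpose := by
    ext a b
    simp only [Matrix.of_apply, Matrix.transpose_apply]
    rw [← hj b]
  rw [this, Matrix.det_transpose]
  exact hdet

section setup

variable {A B : Type u} [CommRing A] [CommRing B] [Algebra A B] (J q : Ideal B) [q.IsPrime]
  (hJq : J ≤ q) [hp : (q.map (Ideal.Quotient.mk J)).IsPrime]

/-- Surjectivity of `B → B/J`. -/
theorem hsurj : Function.Surjective (algebraMap B (B ⧸ J)) := Ideal.Quotient.mk_surjective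

/-- The extension `B → B/J`. -/
noncomputable abbrev PP : Algebra.Extension.{u} A (B ⧸ J) := ext (A := A) (hsurj J)

theorem ker_eq : (PP (A := A) J).ker = J := by
  change RingHom.ker (algebraMap B (B ⧸ J)) = J
  rw [Ideal.Quotient.algebraMap_eq, Ideal.mk_ker]

/-- The residue field at the image of `q`. -/
abbrev κκ : Type u := (q.map (Ideal.Quotient.mk J)).ResidueField

include hJq in
theorem res_eq_zero_iff (b : B) : algebraMap B (κκ J q) b = 0 ↔ b ∈ q := by
  rw [IsScalarTower.algebraMap_apply B (B ⧸ J) (κκ J q), Ideal.algebraMap_residueField_eq_zero,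
    Ideal.Quotient.algebraMap_eq, Ideal.mem_quotient_iff_mem hJq]

/-- The class of an element of `J` in the fibre of the conormal module. -/
noncomputable def cl : J →ₗ[B] κκ J q ⊗[B ⧸ J] (PP (A := A) J).Cotangent :=
  ((TensorProduct.mk (B ⧸ J) (κκ J q) (PP (A := A) J).Cotangent 1).restrictScalars B) ∘ₗ
    (Algebra.Extension.Cotangent.mk (P := PP (A := A) J)) ∘ₗ
      Submodule.inclusion (ker_eq (A := A) J).ge

theorem cl_apply (x : J) :
    cl (A := A) J q x = (1 : κκ J q) ⊗ₜ
      Algebra.Extension.Cotangent.mk ⟨x.1, (ker_eq (A := A) J).ge x.2⟩ := rfl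

theorem smul_cl (b : B) (x : J) :
    cl (A := A) J q (b • x) = algebraMap B (κκ J q) b • cl (A := A) J q x := by
  rw [map_smul, algebraMap_smul]

theorem span_cl : Submodule.span (κκ J q) (Set.range (cl (A := A) J q)) = ⊤ := by
  rw [eq_top_iff]
  rintro z -
  induction z using TensorProduct.induction_on with
  | zero => exact zero_mem _
  | tmul c y =>
    obtain ⟨x, rfl⟩ := Algebra.Extension.Cotangent.mk_surjective y
    have hx : x.1 ∈ J := (ker_eq (A := A) J).le x.2
    have : c ⊗ₜ[B ⧸ J] Algebra.Extension.Cotangent.mk x = c • cl (A := A) J q ⟨x.1, hx⟩ := by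
      rw [cl_apply, TensorProduct.smul_tmul', smul_eq_mul, mul_one]
    rw [this]
    exact Submodule.smul_mem _ _ (Submodule.subset_span ⟨_, rfl⟩)
  | add a b ha hb => exact add_mem ha hb

/-- The fibre of the conormal map, with values in `κ ⊗[B] Ω[B/A]`. -/
noncomputable def UU : κκ J q ⊗[B ⧸ J] (PP (A := A) J).Cotangent →ₗ[κκ J q] κκ J q ⊗[B] Ω[B⁄A] :=
  (AlgebraTensorModule.cancelBaseChange B (B ⧸ J) (κκ J q) (κκ J q) Ω[B⁄A]).toLinearMap ∘ₗ
    ((PP (A := A) J).cotangentComplex.baseChange (κκ J q))

theorem UU_cl (x : J) :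
    UU (A := A) J q (cl (A := A) J q x) = (1 : κκ J q) ⊗ₜ KaehlerDifferential.D A B x.1 := by
  rw [UU, cl_apply, LinearMap.comp_apply, LinearMap.baseChange_tmul,
    Algebra.Extension.cotangentComplex_mk]
  simp

theorem UU_injective_iff :
    Function.Injective (UU (A := A) J q) ↔
      Function.Injective ((PP (A := A) J).cotangentComplex.lTensor (κκ J q)) := by
  rw [UU, LinearMap.coe_comp, LinearEquiv.coe_coe, EquivLike.comp_injective,
    LinearMap.baseChange_eq_ltensor]

/-- The functional on the fibre induced by a linear form on `Ω[B/A]`. -/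
noncomputable def φφ (ℓ : Ω[B⁄A] →ₗ[B] B) : κκ J q ⊗[B] Ω[B⁄A] →ₗ[κκ J q] κκ J q :=
  (AlgebraTensorModule.rid B (κκ J q) (κκ J q)).toLinearMap ∘ₗ ℓ.baseChange (κκ J q)

theorem φφ_tmul (ℓ : Ω[B⁄A] →ₗ[B] B) (c : κκ J q) (ω : Ω[B⁄A]) :
    φφ (A := A) J q ℓ (c ⊗ₜ ω) = algebraMap B (κκ J q) (ℓ ω) * c := by
  rw [φφ, LinearMap.comp_apply, LinearMap.baseChange_tmul]
  simp [Algebra.smul_def]

theorem φφ_sep [Module.Projective B Ω[B⁄A]] (z : κκ J q ⊗[B] Ω[B⁄A])
    (h : ∀ ℓ, φφ (A := A) J q ℓ z = 0) : z = 0 := by
  apply Groth.Agent.H23.Jacobian.eq_zero_of_forall_lTensor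
  intro ℓ
  have := h ℓ
  rw [φφ, LinearMap.comp_apply, LinearEquiv.coe_coe, LinearEquiv.map_eq_zero_iff] at this
  rw [← LinearMap.baseChange_eq_ltensor]
  exact this

include hJq in
/-- If the `f i` generate `J B_q`, their classes span the fibre of the conormal module. -/
theorem span_of_gen {m : ℕ} (f : Fin m → B) (hf : ∀ i, f i ∈ J)
    (hgen : J.map (algebraMap B (Localization.AtPrime q)) =
      Ideal.span (Set.range fun i => algebraMap B (Localization.AtPrime q) (f i))) :
    Submodule.span (κκ J q) (Set.range fun i => cl (A := A) J q ⟨f i, hf i⟩) = ⊤ := by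
  rw [eq_top_iff, ← span_cl (A := A) J q, Submodule.span_le]
  rintro _ ⟨x, rfl⟩
  have h1 : algebraMap B (Localization.AtPrime q) x.1 ∈
      J.map (algebraMap B (Localization.AtPrime q)) := Ideal.mem_map_of_mem _ x.2
  have h2 : (Set.range fun i => algebraMap B (Localization.AtPrime q) (f i)) =
      (algebraMap B (Localization.AtPrime q)) '' (Set.range f) := by
    rw [← Set.range_comp]; rfl
  rw [hgen, h2, ← Ideal.map_span,
    IsLocalization.mem_map_algebraMap_iff q.primeCompl (Localization.AtPrime q)] at h1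
  obtain ⟨⟨⟨y, hy⟩, s⟩, hys⟩ := h1
  simp only at hys
  rw [← map_mul, IsLocalization.eq_iff_exists q.primeCompl (Localization.AtPrime q)] at hys
  obtain ⟨t, ht⟩ := hys
  obtain ⟨b, hb⟩ := (Ideal.mem_span_range_iff_exists_fun).mp hy
  have h3 : ((t : B) * (s : B)) • x = ∑ i, ((t : B) * b i) • (⟨f i, hf i⟩ : J) := by
    ext
    simp only [Submodule.coe_smul, smul_eq_mul, Submodule.coe_sum]
    rw [mul_assoc, mul_comm (s : B), ht, ← hb, Finset.mul_sum]
    apply Finset.sum_congr rfl
    intro i _
    ring
  have h4 := congrArg (cl (A := A) J q) h3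
  rw [smul_cl, map_sum] at h4
  have h5 : algebraMap B (κκ J q) ((t : B) * (s : B)) ≠ 0 := by
    rw [Ne, res_eq_zero_iff J q hJq]
    exact fun h => (Ideal.IsPrime.mem_or_mem ‹q.IsPrime› h).elim t.2 s.2
  rw [SetLike.mem_coe, ← Submodule.smul_mem_iff _ h5, h4]
  apply Submodule.sum_mem
  intro i _
  rw [smul_cl]
  exact Submodule.smul_mem _ _ (Submodule.subset_span ⟨i, rfl⟩)

include hJq in
/-- If the classes of the `f i` span the fibre of the conormal module, then every element of `J`
is, up to a factor outside `q`, a combination of the `f i` modulo `J ^ 2`. -/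
theorem exists_mul_sub_mem_sq {m : ℕ} (f : Fin m → B) (hf : ∀ i, f i ∈ J) (hJ : J.FG)
    (hspan : Submodule.span (κκ J q) (Set.range fun i => cl (A := A) J q ⟨f i, hf i⟩) = ⊤)
    (x : B) (hx : x ∈ J) :
    ∃ t ∉ q, ∃ b : Fin m → B, t * x - ∑ i, b i * f i ∈ J ^ 2 := by
  set P := PP (A := A) J with hP
  have hfin : Module.Finite (B ⧸ J) P.Cotangent :=
    Algebra.Extension.Cotangent.finite (by rw [ker_eq]; exact hJ)
  set mk' : ∀ y : B, y ∈ J → P.Cotangent := fun y hy =>
    Algebra.Extension.Cotangent.mk ⟨y, (ker_eq (A := A) J).ge hy⟩ with hmk'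
  set S : Submodule (B ⧸ J) P.Cotangent :=
    Submodule.span (B ⧸ J) (Set.range fun i => mk' (f i) (hf i)) with hS
  -- the fibre of the quotient vanishes
  have hsub : Subsingleton (κκ J q ⊗[B ⧸ J] (P.Cotangent ⧸ S)) := by
    have hsurj' : Function.Surjective (S.mkQ.baseChange (κκ J q)) := by
      rw [LinearMap.baseChange_eq_ltensor]
      exact LinearMap.lTensor_surjective _ (Submodule.mkQ_surjective S)
    have hzero : S.mkQ.baseChange (κκ J q) = 0 := by
      apply LinearMap.ext_on_range hspan
      intro i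
      rw [cl_apply, LinearMap.baseChange_tmul, LinearMap.zero_apply]
      have : S.mkQ (mk' (f i) (hf i)) = 0 := by
        rw [Submodule.mkQ_apply, Submodule.Quotient.mk_eq_zero]
        exact Submodule.subset_span ⟨i, rfl⟩
      rw [show Algebra.Extension.Cotangent.mk
        ⟨(⟨f i, hf i⟩ : J).1, (ker_eq (A := A) J).ge (⟨f i, hf i⟩ : J).2⟩ = mk' (f i) (hf i) from rfl,
        this, TensorProduct.tmul_zero]
    refine ⟨fun a b => ?_⟩
    obtain ⟨a, rfl⟩ := hsurj' a
    obtain ⟨b, rfl⟩ := hsurj' b
    rw [hzero, LinearMap.zero_apply, LinearMap.zero_apply]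
  have hnot : (⟨q.map (Ideal.Quotient.mk J), hp⟩ : PrimeSpectrum (B ⧸ J)) ∉
      Module.support (B ⧸ J) (P.Cotangent ⧸ S) := by
    rw [Module.mem_support_iff_nontrivial_residueField_tensorProduct, not_nontrivial_iff_subsingleton]
    exact hsub
  rw [Module.notMem_support_iff'] at hnot
  obtain ⟨r, hr, hrz⟩ := hnot (S.mkQ (mk' x hx))
  obtain ⟨t, rfl⟩ := Ideal.Quotient.mk_surjective r
  rw [Ideal.mem_quotient_iff_mem hJq] at hr
  rw [← map_smul, Submodule.mkQ_apply, Submodule.Quotient.mk_eq_zero, hS,
    Submodule.mem_span_range_iff_exists_fun] at hrz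
  obtain ⟨c, hc⟩ := hrz
  choose b hb using fun i => Ideal.Quotient.mk_surjective (c i)
  refine ⟨t, hr, b, ?_⟩
  have hmem : ∑ i, b i * f i ∈ J := Ideal.sum_mem _ fun i _ => Ideal.mul_mem_left _ _ (hf i)
  have htx : t * x ∈ J := Ideal.mul_mem_left _ _ hx
  have key : mk' (t * x) htx = mk' (∑ i, b i * f i) hmem := by
    have e1 : mk' (t * x) htx = (Ideal.Quotient.mk J t) • mk' x hx := by
      rw [← Ideal.Quotient.algebraMap_eq, algebraMap_smul, hmk', ← map_smul]
      rfl
    have e2 : mk' (∑ i, b i * f i) hmem = ∑ i, c i • mk' (f i) (hf i) := by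
      have : (⟨∑ i, b i * f i, (ker_eq (A := A) J).ge hmem⟩ : P.ker) =
          ∑ i, b i • (⟨f i, (ker_eq (A := A) J).ge (hf i)⟩ : P.ker) := by
        ext; simp
      rw [hmk']
      simp only
      rw [this, map_sum]
      apply Finset.sum_congr rfl
      intro i _
      rw [map_smul, ← hb i, ← Ideal.Quotient.algebraMap_eq, algebraMap_smul]
    rw [e1, e2, hc]
  have h2 : ∀ z, z ∈ P.ker ^ 2 → z ∈ J ^ 2 := fun z hz => by
    rw [ker_eq] at hz; exact hz
  exact h2 _ ((Algebra.Extension.Cotangent.mk_eq_mk_iff_sub_mem _ _).mp key)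

include hJq in
/-- Nakayama: if the classes of the `f i` span the fibre, the `f i` generate `J B_q`. -/
theorem gen_of_span {m : ℕ} (f : Fin m → B) (hf : ∀ i, f i ∈ J) (hJ : J.FG)
    (hspan : Submodule.span (κκ J q) (Set.range fun i => cl (A := A) J q ⟨f i, hf i⟩) = ⊤) :
    J.map (algebraMap B (Localization.AtPrime q)) =
      Ideal.span (Set.range fun i => algebraMap B (Localization.AtPrime q) (f i)) := by
  set alg := algebraMap B (Localization.AtPrime q) with halg
  apply le_antisymm
  · have hfg : (J.map alg).FG := hJ.map _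
    have hle : J.map alg ≤ IsLocalRing.maximalIdeal (Localization.AtPrime q) := by
      rw [← Localization.AtPrime.map_eq_maximalIdeal]
      exact Ideal.map_mono hJq
    apply Submodule.le_of_le_smul_of_le_jacobson_bot
      (I := IsLocalRing.maximalIdeal (Localization.AtPrime q)) hfg
    · rw [IsLocalRing.jacobson_eq_maximalIdeal _ bot_ne_top]
    · rw [Ideal.map_le_iff_le_comap]
      intro x hx
      obtain ⟨t, ht, b, hb⟩ := exists_mul_sub_mem_sq (A := A) J q hJq f hf hJ hspan x hx
      rw [Ideal.mem_comap]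
      have hunit : IsUnit (alg t) :=
        IsLocalization.map_units (Localization.AtPrime q) (⟨t, ht⟩ : q.primeCompl)
      have h1 : alg t * alg x ∈ Ideal.span (Set.range fun i => alg (f i)) ⊔
          IsLocalRing.maximalIdeal (Localization.AtPrime q) • J.map alg := by
        have e : alg t * alg x =
            ∑ i, alg (b i) * alg (f i) + alg (t * x - ∑ i, b i * f i) := by
          simp [map_sub, map_sum, map_mul]
        rw [e]
        apply Submodule.add_mem
        · apply Submodule.mem_sup_left
          apply Submodule.sum_mem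
          intro i _
          exact Ideal.mul_mem_left _ _ (Ideal.subset_span ⟨i, rfl⟩)
        · apply Submodule.mem_sup_right
          have h2 : alg (t * x - ∑ i, b i * f i) ∈ (J.map alg) ^ 2 := by
            rw [← Ideal.map_pow]; exact Ideal.mem_map_of_mem _ hb
          rw [pow_two] at h2
          rw [smul_eq_mul]
          exact Ideal.mul_mono_left hle h2
      obtain ⟨u, hu⟩ := hunit
      have e2 : alg x = ↑u⁻¹ * (alg t * alg x) := by
        rw [← hu, ← mul_assoc, Units.inv_mul, one_mul]
      rw [e2]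
      exact Ideal.mul_mem_left _ _ h1
  · rw [Ideal.span_le]
    rintro _ ⟨i, rfl⟩
    exact Ideal.mem_map_of_mem _ (hf i)

include hJq in
/-- The Jacobian criterion for `(B/J)_q` over `A`, with `B` formally smooth over `A`. -/
theorem main [Algebra.FormallySmooth A B] (hJ : J.FG) :
    Algebra.FormallySmooth A (Localization.AtPrime (q.map (Ideal.Quotient.mk J))) ↔
      ∃ (m : ℕ) (f : Fin m → B) (D : Fin m → Derivation A B B),
        (∀ i, f i ∈ J) ∧
        J.map (algebraMap B (Localization.AtPrime q)) =
          Ideal.span (Set.range fun i => algebraMap B (Localization.AtPrime q) (f i)) ∧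
        Matrix.det (Matrix.of fun i j => D j (f i)) ∉ q := by
  set P := PP (A := A) J with hP
  have hfin : Module.Finite (B ⧸ J) P.Cotangent :=
    Algebra.Extension.Cotangent.finite (by rw [ker_eq]; exact hJ)
  have hsm : Algebra.FormallySmooth A P.Ring := ‹_›
  have h0 : Algebra.FormallySmooth A (Localization.AtPrime (q.map (Ideal.Quotient.mk J))) ↔
      Function.Injective (UU (A := A) J q) := by
    rw [formallySmooth_atPrime_iff (hsurj J) (q.map (Ideal.Quotient.mk J)), UU_injective_iff]
    exact ((Groth.Agent.S4530.result P.cotangentComplex).1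
      ⟨q.map (Ideal.Quotient.mk J), hp⟩).out 0 1
  rw [h0]
  constructor
  · intro hinj
    have hfinV : Module.Finite (κκ J q)
        (Submodule.span (κκ J q) (Set.range (cl (A := A) J q))) := by
      rw [span_cl]; infer_instance
    obtain ⟨g, hg, hgspan, hgli⟩ := Submodule.exists_fun_fin_finrank_span_eq (κκ J q)
      (Set.range (cl (A := A) J q))
    choose f' hf' using hg
    have hw : LinearIndependent (κκ J q) (fun a => UU (A := A) J q (g a)) :=
      hgli.map' _ (LinearMap.ker_eq_bot.mpr hinj)
    obtain ⟨j, hj⟩ := exists_det_ne_zero (φφ (A := A) J q) (φφ_sep (A := A) J q) _ hw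
    refine ⟨_, fun i => (f' i).1, fun b => (j b).compDer (KaehlerDifferential.D A B),
      fun i => (f' i).2, ?_, ?_⟩
    · apply gen_of_span (A := A) J q hJq _ (fun i => (f' i).2) hJ
      have : (fun i => cl (A := A) J q ⟨(f' i).1, (f' i).2⟩) = g := funext hf'
      rw [this, hgspan, span_cl]
    · intro hmem
      apply hj
      have e : (Matrix.of fun a b => φφ (A := A) J q (j b) (UU (A := A) J q (g a))) =
          (algebraMap B (κκ J q)).mapMatrix (Matrix.of fun i j' =>
            ((j j').compDer (KaehlerDifferential.D A B)) (f' i).1) := by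
        ext a b
        simp only [Matrix.of_apply, RingHom.mapMatrix_apply, Matrix.map_apply]
        rw [← hf' a, UU_cl, φφ_tmul, mul_one]
        rfl
      rw [e, ← RingHom.map_det, res_eq_zero_iff J q hJq]
      exact hmem
  · rintro ⟨m, f, D, hf, hgen, hdet⟩
    have hspan := span_of_gen (A := A) J q hJq f hf hgen
    rw [injective_iff_map_eq_zero]
    intro v hv
    have hvmem : v ∈ Submodule.span (κκ J q) (Set.range fun i => cl (A := A) J q ⟨f i, hf i⟩) := by
      rw [hspan]; trivial
    obtain ⟨c, rfl⟩ := (Submodule.mem_span_range_iff_exists_fun (κκ J q)).mp hvmem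
    have hdet' : ((algebraMap B (κκ J q)).mapMatrix
        (Matrix.of fun i j => D j (f i))).det ≠ 0 := by
      rw [← RingHom.map_det, Ne, res_eq_zero_iff J q hJq]
      exact hdet
    have hc : c = 0 := by
      apply Matrix.eq_zero_of_vecMul_eq_zero hdet'
      ext j
      have h1 := congrArg (φφ (A := A) J q (D j).liftKaehlerDifferential) hv
      rw [map_sum, map_sum, map_zero] at h1
      rw [Pi.zero_apply, ← h1]
      simp only [Matrix.vecMul, dotProduct]
      apply Finset.sum_congr rfl
      intro i _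
      rw [map_smul, map_smul, UU_cl, φφ_tmul, mul_one, smul_eq_mul]
      simp
    simp [hc]

end setup


end Groth.Agent.H23.Jacobian
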