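import Mathlib.RingTheory.Flat.FaithfullyFlat.Basic
import Mathlib.RingTheory.Flat.FaithfullyFlat.Algebra
import Mathlib.RingTheory.RingHom.Flat
import Mathlib.RingTheory.RingHom.FaithfullyFlat

set_option autoImplicit false
universe u

namespace Groth.Agent.H23

open TensorProduct

/-- If `C` is faithfully flat over `B` and flat over `A`, then `B` is flat over `A`. -/
theorem flat_of_faithfullyFlat_of_flat (A B C : Type u) [CommRing A] [CommRing B] [CommRing C]
    [Algebra A B] [Algebra B C] [Algebra A C] [IsScalarTower A B C]
    [Module.FaithfullyFlat B C] [Module.Flat A C] : Module.Flat A B := by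
  rw [Module.Flat.iff_lTensor_preserves_injective_linearMap]
  intro N P _ _ _ _ f hf
  have h1 : Function.Injective (f.baseChange B) ↔ Function.Injective (f.lTensor B) := Iff.rfl
  rw [← h1, ← Module.FaithfullyFlat.lTensor_injective_iff_injective B C]
  have h2 : (f.baseChange B).lTensor C =
      ((AlgebraTensorModule.cancelBaseChange A B C C P).symm.toLinearMap.restrictScalars B) ∘ₗ
        ((f.baseChange C).restrictScalars B) ∘ₗ
        ((AlgebraTensorModule.cancelBaseChange A B C C N).toLinearMap.restrictScalars B) := by
    apply TensorProduct.ext'
    intro c x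
    induction x using TensorProduct.induction_on with
    | zero => simp
    | tmul b n =>
      simp only [LinearMap.lTensor_tmul, LinearMap.baseChange_tmul, LinearMap.coe_comp,
        LinearMap.coe_restrictScalars, LinearEquiv.coe_coe, Function.comp_apply,
        AlgebraTensorModule.cancelBaseChange_tmul, AlgebraTensorModule.cancelBaseChange_symm_tmul]
      rw [TensorProduct.smul_tmul, TensorProduct.smul_tmul', smul_eq_mul, mul_one]
    | add x y hx hy =>
      simp only [tmul_add, map_add, hx, hy]
  rw [h2]
  simp only [LinearMap.coe_comp, LinearMap.coe_restrictScalars, LinearEquiv.coe_coe,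
    EquivLike.injective_comp, EquivLike.comp_injective]
  exact Module.Flat.lTensor_preserves_injective_linearMap f hf

theorem RingHom.Flat.of_comp_of_faithfullyFlat {A B C : Type u} [CommRing A] [CommRing B]
    [CommRing C] (f : A →+* B) (g : B →+* C) (hg : g.FaithfullyFlat) (h : (g.comp f).Flat) :
    f.Flat := by
  algebraize [f, g, g.comp f]
  have : Module.FaithfullyFlat B C := hg
  exact flat_of_faithfullyFlat_of_flat A B C

end Groth.Agent.H23
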