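import Mathlib
import Groth.Prelude.Def_Found
import Groth.Agent.H26.RegHomDescent
import Groth.Agent.H26.RegHomBaseChange
import Groth.Agent.H26.SkFlat
import Groth.Agent.H14.GeomBC.RegAny

/-!
# Regular homomorphisms and localization of the base

If `S` is a localization of `A`, `C` is a Noetherian `S`-algebra and `A → C` is regular, then
`S → C` is regular.
-/

set_option autoImplicit false
set_option linter.style.haveILetI false
set_option linter.unusedSectionVars false
universe u

open TensorProduct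

namespace Groth.Agent.H23.GRDescent

open Groth.Agent.H26.RegHomDescent

set_option backward.isDefEq.respectTransparency false in
theorem isRegularHom_of_isLocalization (A S C : Type u) [CommRing A] [CommRing S] [CommRing C]
    [Algebra A S] [Algebra S C] [Algebra A C] [IsScalarTower A S C] (M : Submonoid A)
    [IsLocalization M S] [IsNoetherianRing C] (h : CAlg.IsRegularHom A C) :
    CAlg.IsRegularHom S C := by
  haveI := h.1
  refine ⟨(Module.flat_iff_of_isLocalization S M C).mpr h.1, fun 𝔮 h𝔮 => ?_⟩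
  haveI hNq : IsNoetherianRing (𝔮.Fiber C) := Groth.Agent.H26.SkFlat.isNoetherianRing_fiber C 𝔮
  refine ⟨hNq, fun k' _ _ hfin => ?_⟩
  letI : Algebra S k' :=
    ((algebraMap 𝔮.ResidueField k').comp (algebraMap S 𝔮.ResidueField)).toAlgebra
  haveI : IsScalarTower S 𝔮.ResidueField k' := IsScalarTower.of_algebraMap_eq (fun _ => rfl)
  letI : Algebra A k' := ((algebraMap S k').comp (algebraMap A S)).toAlgebra
  haveI : IsScalarTower A S k' := IsScalarTower.of_algebraMap_eq (fun _ => rfl)
  obtain ⟨𝔭, h𝔭, alg, tower⟩ :=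
    Groth.Agent.H26.RegHomBaseChange.exists_residueField_algebra' (R := A) k'
  have hN0 : IsNoetherianRing ((𝔮.Fiber C) ⊗[𝔮.ResidueField] k') :=
    IsNoetherianRing.of_finite (𝔮.Fiber C) _
  have hN1 : IsNoetherianRing (k' ⊗[𝔮.ResidueField] 𝔮.Fiber C) :=
    isNoetherianRing_of_ringEquiv _
      (Algebra.TensorProduct.comm 𝔮.ResidueField (𝔮.Fiber C) k').toRingEquiv
  let e : k' ⊗[𝔮.ResidueField] 𝔮.Fiber C ≃+* k' ⊗[𝔭.ResidueField] 𝔭.Fiber C :=
    ((tensorFiberEquiv S C k' 𝔮).symm.trans
      (IsLocalization.algebraTensorEquiv M S k' C).toRingEquiv).trans (tensorFiberEquiv A C k' 𝔭)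
  haveI : IsNoetherianRing (k' ⊗[𝔭.ResidueField] 𝔭.Fiber C) := isNoetherianRing_of_ringEquiv _ e
  have h1 :=
    Groth.Agent.H14.GeomBC.isRegularRing_tensor_of_isGeometricallyRegular_of_isNoetherianRing
      𝔭.ResidueField (𝔭.Fiber C) (h.2 𝔭).2 k'
  exact @IsRegularRing.of_ringEquiv _ _ _ _ e.symm h1

end Groth.Agent.H23.GRDescent
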