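import Mathlib

/-!
# Reduction of an adic completion modulo an open ideal

For a finitely generated ideal `I`, an `A`-module `M` and an ideal `J ⊇ Iⁿ`, the canonical map
`(A ⧸ J) ⊗ M → (A ⧸ J) ⊗ M̂` is bijective (`M̂` the `I`-adic completion).
-/

set_option autoImplicit false
set_option linter.style.haveILetI false
set_option linter.unusedSectionVars false
universe u v

namespace Groth.Agent.H23.ComplBaseChange

open TensorProduct

variable {A : Type u} [CommRing A] (I : Ideal A) (M : Type v) [AddCommGroup M] [Module A M]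

/-- `1 ⊗ x = 0` in `(A ⧸ J) ⊗ M` iff `x ∈ J M`. -/
theorem one_tmul_eq_zero_iff {N : Type*} [AddCommGroup N] [Module A N] (J : Ideal A) (x : N) :
    (1 : A ⧸ J) ⊗ₜ[A] x = 0 ↔ x ∈ (J • ⊤ : Submodule A N) := by
  rw [← (TensorProduct.quotTensorEquivQuotSMul N J).map_eq_zero_iff,
    TensorProduct.quotTensorEquivQuotSMul_mk_one_tmul, Submodule.Quotient.mk_eq_zero]

/-- every element of `(A ⧸ J) ⊗ N` is of the form `1 ⊗ x`. -/
theorem exists_one_tmul {N : Type*} [AddCommGroup N] [Module A N] (J : Ideal A)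
    (t : (A ⧸ J) ⊗[A] N) : ∃ x : N, t = (1 : A ⧸ J) ⊗ₜ[A] x := by
  induction t using TensorProduct.induction_on with
  | zero => exact ⟨0, (tmul_zero _ _).symm⟩
  | tmul c x =>
    obtain ⟨a, rfl⟩ := Ideal.Quotient.mk_surjective c
    refine ⟨a • x, ?_⟩
    rw [← TensorProduct.smul_tmul, Algebra.smul_def, mul_one, Ideal.Quotient.algebraMap_eq]
  | add s t hs ht =>
    obtain ⟨x, rfl⟩ := hs
    obtain ⟨y, rfl⟩ := ht
    exact ⟨x + y, (tmul_add _ _ _).symm⟩

theorem bijective_baseChange_of (hI : I.FG) (J : Ideal A) (n : ℕ) (hJ : I ^ n ≤ J) :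
    Function.Bijective ((AdicCompletion.of I M).baseChange (A ⧸ J)) := by
  have hker : ∀ y : AdicCompletion I M, AdicCompletion.eval I M n y = 0 →
      y ∈ (J • ⊤ : Submodule A (AdicCompletion I M)) := by
    intro y hy
    have h1 : y ∈ (I ^ n • ⊤ : Submodule A (AdicCompletion I M)) := by
      rw [AdicCompletion.pow_smul_top_eq_ker_eval hI]
      exact hy
    exact Submodule.smul_mono_left hJ h1
  constructor
  · rw [injective_iff_map_eq_zero]
    intro t ht
    obtain ⟨x, rfl⟩ := exists_one_tmul J t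
    rw [LinearMap.baseChange_tmul, one_tmul_eq_zero_iff] at ht
    rw [one_tmul_eq_zero_iff]
    -- apply `eval n`
    have h2 : ∀ y ∈ (J • ⊤ : Submodule A (AdicCompletion I M)),
        AdicCompletion.eval I M n y ∈
          (J • ⊤ : Submodule A (M ⧸ (I ^ n • ⊤ : Submodule A M))) := by
      intro y hy
      induction hy using Submodule.smul_induction_on' with
      | smul a ha m _ =>
        rw [map_smul]
        exact Submodule.smul_mem_smul ha trivial
      | add x _ y _ hx hy =>
        rw [map_add]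
        exact Submodule.add_mem _ hx hy
    have h3 := h2 _ ht
    rw [AdicCompletion.eval_of] at h3
    -- `mk x ∈ J (M / IⁿM)` implies `x ∈ J M`
    have h4 : (J • ⊤ : Submodule A (M ⧸ (I ^ n • ⊤ : Submodule A M))) =
        (J • ⊤ : Submodule A M).map (Submodule.mkQ (I ^ n • ⊤ : Submodule A M)) := by
      rw [Submodule.map_smul'', Submodule.map_top, Submodule.range_mkQ]
    rw [h4] at h3
    obtain ⟨x', hx', hxx'⟩ := h3
    have h5 : x - x' ∈ (I ^ n • ⊤ : Submodule A M) := by
      rw [← Submodule.Quotient.mk_eq_zero, Submodule.Quotient.mk_sub]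
      exact sub_eq_zero.mpr hxx'.symm
    have h6 : x - x' ∈ (J • ⊤ : Submodule A M) := Submodule.smul_mono_left hJ h5
    have := Submodule.add_mem _ h6 hx'
    rwa [sub_add_cancel] at this
  · intro t
    obtain ⟨y, rfl⟩ := exists_one_tmul J t
    obtain ⟨x, hx⟩ := Submodule.mkQ_surjective _ (AdicCompletion.eval I M n y)
    refine ⟨(1 : A ⧸ J) ⊗ₜ[A] x, ?_⟩
    rw [LinearMap.baseChange_tmul, ← sub_eq_zero, ← tmul_sub, one_tmul_eq_zero_iff]
    apply hker
    rw [map_sub, AdicCompletion.eval_of, hx, sub_self]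

end Groth.Agent.H23.ComplBaseChange
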