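import Mathlib
import Groth.Agent.H23.ComplBaseChange

/-!
# Surjections of flat algebras which are isomorphisms modulo an ideal

Let `g : R → S` be a surjective homomorphism of `B₀`-algebras with `R` Noetherian and `S` flat over
`B₀`, and `n` an ideal of `B₀` with `ker g ⊆ n R` and `n S ⊆ rad S`. Then `ker g` is killed by an
element `e` of `R` whose image in `S` is a unit; consequently `R_{g⁻¹ q} → S_q` is bijective for every
prime `q` of `S`.
-/

set_option autoImplicit false
set_option linter.style.haveILetI false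
set_option linter.unusedSectionVars false
universe u v w

namespace Groth.Agent.H23.FlatSurjLoc

open TensorProduct

theorem exists_unit_annihilator {B₀ : Type u} {R : Type v} {S : Type w} [CommRing B₀] [CommRing R]
    [CommRing S] [Algebra B₀ R] [Algebra B₀ S] [IsNoetherianRing R] [Module.Flat B₀ S]
    (g : R →ₐ[B₀] S) (hg : Function.Surjective g) (n : Ideal B₀)
    (hker : RingHom.ker (g : R →+* S) ≤ n.map (algebraMap B₀ R))
    (hrad : n.map (algebraMap B₀ S) ≤ Ideal.jacobson ⊥) :
    ∃ e : R, IsUnit (g e) ∧ ∀ x ∈ RingHom.ker (g : R →+* S), e * x = 0 := by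
  let I' : Submodule B₀ R := LinearMap.ker g.toLinearMap
  have hinj : Function.Injective (I'.subtype.lTensor (B₀ ⧸ n)) :=
    LinearMap.lTensor_injective_of_exact_of_flat g.toLinearMap hg I'.subtype
      I'.injective_subtype (LinearMap.exact_subtype_ker_map g.toLinearMap) (B₀ ⧸ n)
  -- `ker g ≤ (n R) • ker g`
  have hle : RingHom.ker (g : R →+* S) ≤ n.map (algebraMap B₀ R) • RingHom.ker (g : R →+* S) := by
    intro x hx
    have hxI' : x ∈ I' := hx
    have h1 : x ∈ (n • ⊤ : Submodule B₀ R) := by
      have h2 := hker hx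
      rw [Ideal.smul_top_eq_map]
      exact h2
    have h3 : (1 : B₀ ⧸ n) ⊗ₜ[B₀] (⟨x, hxI'⟩ : I') = 0 := by
      apply hinj
      rw [LinearMap.lTensor_tmul, (I'.subtype.lTensor (B₀ ⧸ n)).map_zero, Submodule.subtype_apply]
      exact (Groth.Agent.H23.ComplBaseChange.one_tmul_eq_zero_iff n x).mpr h1
    have h4 : (⟨x, hxI'⟩ : I') ∈ (n • ⊤ : Submodule B₀ I') :=
      (Groth.Agent.H23.ComplBaseChange.one_tmul_eq_zero_iff n _).mp h3
    have h5 : ∀ y : I', y ∈ (n • ⊤ : Submodule B₀ I') →
        (y : R) ∈ n.map (algebraMap B₀ R) • RingHom.ker (g : R →+* S) := by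
      intro y hy
      refine Submodule.smul_induction_on hy ?_ ?_
      · intro c hc z _
        have hz : (z : R) ∈ RingHom.ker (g : R →+* S) := z.2
        have hcz : ((c • z : I') : R) = algebraMap B₀ R c • (z : R) := by
          rw [Submodule.coe_smul, Algebra.smul_def, smul_eq_mul]
        rw [hcz]
        exact Submodule.smul_mem_smul (Ideal.mem_map_of_mem (algebraMap B₀ R) hc) hz
      · intro y z hy hz
        rw [Submodule.coe_add]
        exact Submodule.add_mem _ hy hz
    exact h5 _ h4
  obtain ⟨r, hr1, hr2⟩ := Submodule.exists_sub_one_mem_and_smul_eq_zero_of_fg_of_le_smul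
    (n.map (algebraMap B₀ R)) (RingHom.ker (g : R →+* S))
    (IsNoetherian.noetherian _) hle
  refine ⟨r, ?_, fun x hx => hr2 x hx⟩
  have h6 : g (r - 1) ∈ n.map (algebraMap B₀ S) := by
    have h7 : (n.map (algebraMap B₀ R)).map (g : R →+* S) = n.map (algebraMap B₀ S) := by
      rw [Ideal.map_map]
      congr 1
      exact g.comp_algebraMap
    rw [← h7]
    exact Ideal.mem_map_of_mem _ hr1
  have h8 := (Ideal.mem_jacobson_bot.mp (hrad h6)) 1
  rw [mul_one, map_sub, map_one, sub_add_cancel] at h8
  exact h8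

/-- if `ker g` is killed by an element mapping to a unit, then `g` induces isomorphisms on the
local rings. -/
theorem localRingHom_bijective {R S : Type u} [CommRing R] [CommRing S] (g : R →+* S)
    (hg : Function.Surjective g) (e : R) (he : IsUnit (g e))
    (hker : ∀ x ∈ RingHom.ker g, e * x = 0) (q : Ideal S) [q.IsPrime] :
    Function.Bijective (Localization.localRingHom (q.comap g) q g rfl) := by
  refine ⟨?_, RingHom.surjective_localRingHom_of_surjective g hg q⟩
  rw [injective_iff_map_eq_zero]
  intro z hz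
  obtain ⟨x, s, rfl⟩ := IsLocalization.exists_mk'_eq (q.comap g).primeCompl z
  rw [Localization.localRingHom_mk', IsLocalization.mk'_eq_zero_iff] at hz
  obtain ⟨t, ht⟩ := hz
  obtain ⟨t', ht'⟩ := hg (t : S)
  have ht'q : t' ∉ q.comap g := by
    intro h
    apply t.2
    rw [← ht']
    exact h
  have hmem : t' * x ∈ RingHom.ker g := by
    rw [RingHom.mem_ker, map_mul, ht']
    exact ht
  have h0 := hker _ hmem
  have heq : e ∉ q.comap g := by
    intro h
    exact (Ideal.IsPrime.ne_top ‹q.IsPrime›) (Ideal.eq_top_of_isUnit_mem _ h he)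
  rw [IsLocalization.mk'_eq_zero_iff]
  refine ⟨⟨e * t', ?_⟩, ?_⟩
  · exact (q.comap g).primeCompl.mul_mem heq ht'q
  · show e * t' * x = 0
    rw [mul_assoc]
    exact h0

end Groth.Agent.H23.FlatSurjLoc
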