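import Mathlib

/-!
# Inverting an integral element inside a subring

Let `ι : A → Q` be a ring map killing a prime `p`, `T ⊆ Q` a subring containing `ι A` and inverses
of the `ι a`, `a ∉ p`.  If `σ ∈ T` is a unit of `Q` which is a root of a polynomial over `A` with a
coefficient outside `p` (e.g. a monic polynomial), then `σ⁻¹ ∈ T`.
-/

set_option autoImplicit false
universe u v

namespace Groth.Agent.H23.IntegralUnit

open Polynomial

variable {A : Type u} {Q : Type v} [CommRing A] [CommRing Q] (ι : A →+* Q) (p : Ideal A)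
  (T : Subring Q)

theorem eval₂_mem (hT : ∀ a, ι a ∈ T) (σ : Q) (hσT : σ ∈ T) (P : A[X]) : P.eval₂ ι σ ∈ T := by
  rw [Polynomial.eval₂_eq_sum_range]
  exact Subring.sum_mem _ fun i _ => Subring.mul_mem _ (hT _) (Subring.pow_mem _ hσT _)

theorem exists_inverse_aux (h0 : ∀ a ∈ p, ι a = 0) (hu : ∀ a, a ∉ p → ∃ u ∈ T, ι a * u = 1)
    (hT : ∀ a, ι a ∈ T) (σ : Q) (hσT : σ ∈ T) (hσ : IsUnit σ) :
    ∀ (d : ℕ) (P : A[X]), P.natDegree ≤ d → (∃ i, P.coeff i ∉ p) → P.eval₂ ι σ = 0 →
      ∃ t ∈ T, σ * t = 1 := by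
  intro d
  induction d with
  | zero =>
    intro P hd ⟨i, hi⟩ hP
    have hPC : P = C (P.coeff 0) := Polynomial.eq_C_of_natDegree_le_zero hd
    have hi0 : i = 0 := by
      by_contra hne
      apply hi
      rw [hPC, Polynomial.coeff_C, if_neg hne]
      exact Ideal.zero_mem _
    subst hi0
    obtain ⟨u, huT, hu1⟩ := hu _ hi
    rw [hPC, Polynomial.eval₂_C] at hP
    rw [hP, zero_mul] at hu1
    exact ⟨0, T.zero_mem, by rw [mul_zero]; exact hu1⟩
  | succ d ih =>
    intro P hd ⟨i, hi⟩ hP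
    have hdec := Polynomial.divX_mul_X_add P
    have hev : (divX P).eval₂ ι σ * σ + ι (P.coeff 0) = 0 := by
      rw [← hP]
      conv_rhs => rw [← hdec]
      rw [Polynomial.eval₂_add, Polynomial.eval₂_mul, Polynomial.eval₂_X, Polynomial.eval₂_C]
    by_cases h00 : P.coeff 0 ∈ p
    · rw [h0 _ h00, add_zero] at hev
      have hE : (divX P).eval₂ ι σ = 0 := (hσ.mul_left_eq_zero).mp hev
      refine ih (divX P) ?_ ?_ hE
      · rw [Polynomial.natDegree_divX_eq_natDegree_tsub_one]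
        omega
      · rcases Nat.eq_zero_or_pos i with hi0 | hipos
        · subst hi0
          exact absurd h00 hi
        · refine ⟨i - 1, ?_⟩
          rw [Polynomial.coeff_divX, Nat.sub_add_cancel hipos]
          exact hi
    · obtain ⟨u, huT, hu1⟩ := hu _ h00
      refine ⟨-((divX P).eval₂ ι σ) * u, ?_, ?_⟩
      · exact T.mul_mem (T.neg_mem (eval₂_mem ι T hT σ hσT _)) huT
      · have h1 : σ * (divX P).eval₂ ι σ = -ι (P.coeff 0) := by
          rw [mul_comm]
          exact eq_neg_of_add_eq_zero_left hev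
        calc σ * (-((divX P).eval₂ ι σ) * u) = -(σ * (divX P).eval₂ ι σ) * u := by ring
          _ = ι (P.coeff 0) * u := by rw [h1, neg_neg]
          _ = 1 := hu1

/-- the inverse of an integral unit lies in the subring. -/
theorem exists_inverse (h0 : ∀ a ∈ p, ι a = 0) (hu : ∀ a, a ∉ p → ∃ u ∈ T, ι a * u = 1)
    (hT : ∀ a, ι a ∈ T) (hp : p ≠ ⊤) (σ : Q) (hσT : σ ∈ T) (hσ : IsUnit σ) (P : A[X])
    (hmonic : P.Monic) (hP : P.eval₂ ι σ = 0) : ∃ t ∈ T, σ * t = 1 := by
  refine exists_inverse_aux ι p T h0 hu hT σ hσT hσ P.natDegree P le_rfl ⟨P.natDegree, ?_⟩ hP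
  rw [Polynomial.coeff_natDegree, hmonic.leadingCoeff]
  exact fun h => hp ((Ideal.eq_top_iff_one _).mpr h)

end Groth.Agent.H23.IntegralUnit
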