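import Mathlib
import Groth.Agent.H44.AdicLemmas
import Groth.Agent.H89.ComplFinite
import Groth.Agent.H23.ComplBaseChange

/-!
# Universally finite differentials of a complete local algebra

General facts on adic completions (`exists_of_sub_mem`: density of `M` in `M̂`; `ext_of`: linear maps
from `M̂` to a Hausdorff module are determined on `M`; `lift`: extension of a linear map `M → Q` to
`M̂ → Q` for `Q` complete), and finiteness of the completed module of differentials `Ω̂_{S/k}` of a
complete Noetherian local ring whose residue field has finite-dimensional differentials over `k`.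
-/

set_option autoImplicit false
set_option linter.style.haveILetI false
set_option linter.unusedSectionVars false
universe u v w

namespace Groth.Agent.H23.UFDiff

open IsLocalRing TensorProduct KaehlerDifferential

section General

variable {A : Type u} [CommRing A] (I : Ideal A) {M : Type v} [AddCommGroup M] [Module A M]

/-- density of `M` in its completion. -/
theorem exists_of_sub_mem (hI : I.FG) (n : ℕ) (x : AdicCompletion I M) :
    ∃ y : M, x - AdicCompletion.of I M y ∈ (I ^ n • ⊤ : Submodule A (AdicCompletion I M)) := by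
  obtain ⟨y, hy⟩ := Submodule.mkQ_surjective _ (AdicCompletion.eval I M n x)
  refine ⟨y, ?_⟩
  rw [AdicCompletion.pow_smul_top_eq_ker_eval hI, LinearMap.mem_ker, map_sub,
    AdicCompletion.eval_of, hy, sub_self]

/-- linear maps send `Iⁿ M` into `Iⁿ Q`. -/
theorem map_mem_pow_smul {Q : Type w} [AddCommGroup Q] [Module A Q] (f : M →ₗ[A] Q) (n : ℕ)
    (x : M) (hx : x ∈ (I ^ n • ⊤ : Submodule A M)) : f x ∈ (I ^ n • ⊤ : Submodule A Q) := by
  have h1 : (I ^ n • ⊤ : Submodule A M).map f ≤ (I ^ n • ⊤ : Submodule A Q) := by
    rw [Submodule.map_smul'']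
    exact smul_mono_right _ le_top
  exact h1 ⟨x, hx, rfl⟩

/-- Linear maps from a completion to a Hausdorff module are determined by their values on `M`. -/
theorem ext_of (hI : I.FG) {Q : Type w} [AddCommGroup Q] [Module A Q] [IsHausdorff I Q]
    (f g : AdicCompletion I M →ₗ[A] Q)
    (h : ∀ y, f (AdicCompletion.of I M y) = g (AdicCompletion.of I M y)) : f = g := by
  refine LinearMap.ext fun x => ?_
  rw [← sub_eq_zero]
  refine IsHausdorff.haus ‹IsHausdorff I Q› _ fun n => ?_
  rw [SModEq.zero]
  obtain ⟨y, hy⟩ := exists_of_sub_mem I hI n x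
  have h1 : f x - g x = (f - g) (x - AdicCompletion.of I M y) := by
    rw [map_sub, LinearMap.sub_apply, LinearMap.sub_apply, h y]
    abel
  rw [h1]
  exact map_mem_pow_smul I (f - g) n _ hy

/-- extension of a linear map into a complete module to the completion. -/
noncomputable def lift {Q : Type w} [AddCommGroup Q] [Module A Q] [IsAdicComplete I Q]
    (f : M →ₗ[A] Q) : AdicCompletion I M →ₗ[A] Q :=
  (AdicCompletion.ofLinearEquiv I Q).symm.toLinearMap ∘ₗ (AdicCompletion.map I f).restrictScalars A

theorem lift_of {Q : Type w} [AddCommGroup Q] [Module A Q] [IsAdicComplete I Q]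
    (f : M →ₗ[A] Q) (y : M) : lift I f (AdicCompletion.of I M y) = f y := by
  show (AdicCompletion.ofLinearEquiv I Q).symm (AdicCompletion.map I f (AdicCompletion.of I M y)) = _
  rw [AdicCompletion.map_of, LinearEquiv.symm_apply_eq]
  rfl

end General

section Diff

variable {k S : Type u} [CommRing k] [CommRing S] [IsLocalRing S] [IsNoetherianRing S]
  [Algebra k S]

/-- `κ ⊗ Ω_{S/k}` is finite-dimensional when `Ω_{κ/k}` is. -/
theorem finite_tensor_residue
    [Module.Finite (ResidueField S) (Ω[ResidueField S⁄k])] :
    Module.Finite (ResidueField S) (ResidueField S ⊗[S] Ω[S⁄k]) := by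
  have hπ : Function.Surjective (algebraMap S (ResidueField S)) := Ideal.Quotient.mk_surjective
  have hex := KaehlerDifferential.exact_kerCotangentToTensor_mapBaseChange k S (ResidueField S) hπ
  have hsurj := KaehlerDifferential.mapBaseChange_surjective k S (ResidueField S) hπ
  haveI hfC : Module.Finite S (RingHom.ker (algebraMap S (ResidueField S))).Cotangent :=
    Module.Finite.of_surjective (RingHom.ker (algebraMap S (ResidueField S))).toCotangent
      (Ideal.toCotangent_surjective _)
  haveI : Module.Finite S (Ω[ResidueField S⁄k]) := Module.Finite.trans (ResidueField S) _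
  haveI : Module.Finite S (ResidueField S ⊗[S] Ω[S⁄k]) :=
    Module.Finite.of_exact (f := kerCotangentToTensor k S (ResidueField S))
      (g := (mapBaseChange k S (ResidueField S)).restrictScalars S) hex hsurj
  exact Module.Finite.of_restrictScalars_finite S _ _

/-- the completed module of differentials is finite. -/
theorem finite_complDiff [IsAdicComplete (maximalIdeal S) S]
    (hfin : Module.Finite (ResidueField S) (ResidueField S ⊗[S] Ω[S⁄k])) :
    Module.Finite S (AdicCompletion (maximalIdeal S) (Ω[S⁄k])) := by
  have hfg : (maximalIdeal S).FG := (maximalIdeal S).fg_of_isNoetherianRing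
  haveI hfin' : Module.Finite (S ⧸ maximalIdeal S) ((S ⧸ maximalIdeal S) ⊗[S] Ω[S⁄k]) := hfin
  have hbK : Function.Bijective
      ((AdicCompletion.of (maximalIdeal S) (Ω[S⁄k])).baseChange (S ⧸ maximalIdeal S)) :=
    Groth.Agent.H23.ComplBaseChange.bijective_baseChange_of (maximalIdeal S) (Ω[S⁄k]) hfg
      (maximalIdeal S) 1 (by rw [pow_one])
  let bK : (S ⧸ maximalIdeal S) ⊗[S] Ω[S⁄k] ≃ₗ[S ⧸ maximalIdeal S]
      (S ⧸ maximalIdeal S) ⊗[S] AdicCompletion (maximalIdeal S) (Ω[S⁄k]) :=
    LinearEquiv.ofBijective _ hbK
  haveI : Module.Finite (S ⧸ maximalIdeal S)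
      ((S ⧸ maximalIdeal S) ⊗[S] AdicCompletion (maximalIdeal S) (Ω[S⁄k])) :=
    Module.Finite.equiv bK
  haveI : Module.Finite S ((S ⧸ maximalIdeal S) ⊗[S] AdicCompletion (maximalIdeal S) (Ω[S⁄k])) :=
    Module.Finite.trans (S ⧸ maximalIdeal S) _
  haveI : Module.Finite S (AdicCompletion (maximalIdeal S) (Ω[S⁄k]) ⧸
      (maximalIdeal S • ⊤ : Submodule S (AdicCompletion (maximalIdeal S) (Ω[S⁄k])))) :=
    Module.Finite.equiv (TensorProduct.quotTensorEquivQuotSMul
        (AdicCompletion (maximalIdeal S) (Ω[S⁄k])) (maximalIdeal S))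
  haveI : IsHausdorff (maximalIdeal S) (AdicCompletion (maximalIdeal S) (Ω[S⁄k])) :=
    (AdicCompletion.isAdicComplete hfg).toIsHausdorff
  exact Groth.Agent.H44.finite_of_finite_quotient (maximalIdeal S) _ inferInstance

end Diff

end Groth.Agent.H23.UFDiff
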