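import Mathlib
import Groth.Agent.H26.ComplFlatMap
import Groth.Agent.H26.FormalFibreFinite
import Groth.Agent.H14.GeomBC.RegSep
import Groth.Agent.H13.PerfectReduced
import Groth.Agent.Lead.RegularLocalization
import Groth.Agent.Lead.RegularCompletion
import Groth.Agent.H96.RegAdicSmooth
import Groth.Agent.H23.FlatSurjLoc
import Groth.Agent.H23.UFDiff
import Groth.Agent.H44.AdicLemmas
import Groth.Agent.H23.IntegralUnit

/-!
# Generic formal fibres of local rings of finite algebras over a regular local ring of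
characteristic zero (EGA 0_IV 22.3.3, case (i))

`A` Noetherian, `B` a finite `A`-algebra, `n` a prime of `B`, `p = n ∩ A`, `C = B_n`.  We compare
`R = B ⊗_A (A_p)^` with the completion `Ĉ` of `C`: the natural map `R → Ĉ` is surjective and
induces isomorphisms on local rings.
-/

set_option autoImplicit false
set_option linter.style.haveILetI false
set_option linter.unusedSectionVars false
universe u

namespace Groth.Agent.H23.FormalFibreChar0

open IsLocalRing TensorProduct

section Setup

variable (A : Type u) {B : Type u} [CommRing A] [IsNoetherianRing A] [CommRing B] [Algebra A B]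
  [Module.Finite A B] [IsNoetherianRing B] (n : Ideal B) [n.IsPrime]

local notation "p" => Ideal.comap (algebraMap A B) n
local notation "Ap" => Localization.AtPrime (Ideal.comap (algebraMap A B) n)
local notation "C" => Localization.AtPrime n
local notation "Âp" => AdicCompletion
  (maximalIdeal (Localization.AtPrime (Ideal.comap (algebraMap A B) n)))
  (Localization.AtPrime (Ideal.comap (algebraMap A B) n))
local notation "Ĉ" => AdicCompletion (maximalIdeal (Localization.AtPrime n)) (Localization.AtPrime n)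

/-- the algebra structure `A_p → B_n`. -/
@[reducible] noncomputable def algApC : Algebra Ap C :=
  (Localization.localRingHom p n (algebraMap A B) rfl).toAlgebra

attribute [local instance] algApC

theorem algebraMap_ApC (x : Ap) :
    algebraMap Ap C x = Localization.localRingHom p n (algebraMap A B) rfl x := rfl

variable {A} in

instance isScalarTower_A_Ap_C : IsScalarTower A Ap C :=
  IsScalarTower.of_algebraMap_eq fun a => by
    rw [algebraMap_ApC, Localization.localRingHom_to_map, ← IsScalarTower.algebraMap_apply]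

instance isLocalHom_ApC : IsLocalHom (algebraMap Ap C) :=
  Localization.isLocalHom_localRingHom p n (algebraMap A B) rfl

/-- the map of completions `(A_p)^ → (B_n)^`. -/
noncomputable def hHom : Âp →+* Ĉ := Groth.Agent.H26.ComplFlatMap.complHom Ap C

theorem hHom_algebraMap (a : A) : hHom A n (algebraMap A Âp a) = algebraMap A Ĉ a := by
  rw [IsScalarTower.algebraMap_apply A Ap Âp, hHom,
    Groth.Agent.H26.ComplFlatMap.complHom_algebraMap, ← IsScalarTower.algebraMap_apply A Ap C,
    ← IsScalarTower.algebraMap_apply A C Ĉ]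

/-- as an `A`-algebra homomorphism. -/
noncomputable def hAlgHom : Âp →ₐ[A] Ĉ :=
  { hHom A n with commutes' := hHom_algebraMap A n }

/-- the comparison map `B ⊗_A (A_p)^ → (B_n)^`. -/
noncomputable def gHom : B ⊗[A] Âp →ₐ[B] Ĉ :=
  Algebra.TensorProduct.lift (Algebra.ofId B Ĉ) (hAlgHom A n) (fun _ _ => Commute.all _ _)

theorem gHom_tmul (b : B) (w : Âp) : gHom A n (b ⊗ₜ w) = algebraMap B Ĉ b * hHom A n w := by
  rw [gHom, Algebra.TensorProduct.lift_tmul]
  rfl

instance flat_A_Âp : Module.Flat A Âp := Module.Flat.trans A Ap Âp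

instance flat_B_Ĉ : Module.Flat B Ĉ := Module.Flat.trans B C Ĉ

instance isNoetherianRing_R : IsNoetherianRing (B ⊗[A] Âp) := by
  haveI : IsNoetherianRing (Âp ⊗[A] B) := IsNoetherianRing.of_finite Âp (Âp ⊗[A] B)
  exact isNoetherianRing_of_ringEquiv _ (Algebra.TensorProduct.comm A Âp B).toRingEquiv

theorem algebraMap_A_R (a : A) :
    algebraMap A (B ⊗[A] Âp) a = (1 : B) ⊗ₜ[A] algebraMap A Âp a := by
  rw [Algebra.algebraMap_eq_smul_one, Algebra.algebraMap_eq_smul_one (A := Âp),
    Algebra.TensorProduct.one_def, TensorProduct.tmul_smul]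

/-- elements of `A ∖ p` are units of `(A_p)^`. -/
theorem isUnit_algebraMap_Âp (s : A) (hs : s ∉ p) : IsUnit (algebraMap A Âp s) := by
  rw [IsScalarTower.algebraMap_apply A Ap Âp]
  exact (IsLocalization.map_units Ap
    (⟨s, hs⟩ : (Ideal.comap (algebraMap A B) n).primeCompl)).map (algebraMap Ap Âp)

/-- elements of `p` map into the maximal ideal of `(A_p)^`. -/
theorem algebraMap_Âp_mem (a : A) (ha : a ∈ p) : algebraMap A Âp a ∈ maximalIdeal Âp := by
  rw [IsScalarTower.algebraMap_apply A Ap Âp]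
  have h1 : algebraMap A Ap a ∈ maximalIdeal Ap := by
    rw [← Localization.AtPrime.map_eq_maximalIdeal]
    exact Ideal.mem_map_of_mem _ ha
  have h2 : (maximalIdeal Ap).map (algebraMap Ap Âp) ≤ maximalIdeal Âp :=
    IsLocalRing.map_maximalIdeal_le (algebraMap Ap Âp)
  exact h2 (Ideal.mem_map_of_mem _ h1)

/-- `b ⊗ z ∈ p R` for `z ∈ 𝔪 (A_p)^`. -/
theorem tmul_mem_map (b : B) (z : Âp)
    (hz : z ∈ (maximalIdeal Ap ^ 1 • ⊤ : Submodule Ap Âp)) :
    b ⊗ₜ[A] z ∈ (p).map (algebraMap A (B ⊗[A] Âp)) := by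
  rw [pow_one] at hz
  refine Submodule.smul_induction_on hz ?_ ?_
  · intro c hc z' _
    rw [← Localization.AtPrime.map_eq_maximalIdeal,
      IsLocalization.mem_map_algebraMap_iff (Ideal.comap (algebraMap A B) n).primeCompl] at hc
    obtain ⟨⟨a', s'⟩, has⟩ := hc
    obtain ⟨u, hu⟩ := (IsLocalization.map_units Ap s').exists_right_inv
    have hc' : c = algebraMap A Ap (a' : A) * u := by
      calc c = c * (algebraMap A Ap (s' : A) * u) := by rw [hu, mul_one]
        _ = (c * algebraMap A Ap (s' : A)) * u := by ring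
        _ = algebraMap A Ap (a' : A) * u := by rw [has]
    have h1 : b ⊗ₜ[A] (c • z') = algebraMap A (B ⊗[A] Âp) (a' : A) * (b ⊗ₜ[A] (u • z')) := by
      rw [hc', mul_smul, algebraMap_smul, TensorProduct.tmul_smul]
      exact Algebra.smul_def (a' : A) (b ⊗ₜ[A] (u • z'))
    rw [h1]
    exact Ideal.mul_mem_right _ _ (Ideal.mem_map_of_mem _ a'.2)
  · intro x y hx hy
    rw [TensorProduct.tmul_add]
    exact Ideal.add_mem _ hx hy

/-- every element of `B ⊗ (A_p)^` is, up to a unit from `A ∖ p`, congruent to an element of `B`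
modulo `p`. -/
theorem exists_smul_sub_mem (x : B ⊗[A] Âp) :
    ∃ s : A, s ∉ p ∧ ∃ b : B,
      s • x - b ⊗ₜ[A] (1 : Âp) ∈ (p).map (algebraMap A (B ⊗[A] Âp)) := by
  have hfg : (maximalIdeal Ap).FG := (maximalIdeal Ap).fg_of_isNoetherianRing
  induction x using TensorProduct.induction_on with
  | zero =>
    refine ⟨1, ?_, 0, ?_⟩
    · exact fun h => (Ideal.IsPrime.ne_top inferInstance) ((Ideal.eq_top_iff_one _).mpr h)
    · rw [smul_zero, TensorProduct.zero_tmul, sub_zero]
      exact Ideal.zero_mem _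
  | tmul b w =>
    obtain ⟨y, hy⟩ := Groth.Agent.H23.UFDiff.exists_of_sub_mem (maximalIdeal Ap) hfg 1 w
    obtain ⟨⟨a, s⟩, has⟩ := IsLocalization.surj (Ideal.comap (algebraMap A B) n).primeCompl y
    refine ⟨s, s.2, a • b, ?_⟩
    have h0 : algebraMap A Ap a = algebraMap A Ap (s : A) • y := by
      rw [smul_eq_mul, mul_comm]; exact has.symm
    have h1 : algebraMap A Âp a = (s : A) • AdicCompletion.of (maximalIdeal Ap) Ap y := by
      calc algebraMap A Âp a = algebraMap Ap Âp (algebraMap A Ap a) :=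
            IsScalarTower.algebraMap_apply A Ap Âp a
        _ = AdicCompletion.of (maximalIdeal Ap) Ap (algebraMap A Ap (s : A) • y) := by
            rw [h0, AdicCompletion.algebraMap_apply, Algebra.algebraMap_self, RingHom.id_apply]
        _ = algebraMap A Ap (s : A) • AdicCompletion.of (maximalIdeal Ap) Ap y := map_smul _ _ _
        _ = (s : A) • AdicCompletion.of (maximalIdeal Ap) Ap y := algebraMap_smul Ap _ _
    have h2 : (s : A) • (b ⊗ₜ[A] w) - (a • b) ⊗ₜ[A] (1 : Âp) =
        algebraMap A (B ⊗[A] Âp) (s : A) *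
          (b ⊗ₜ[A] (w - AdicCompletion.of (maximalIdeal Ap) Ap y)) := by
      rw [← Algebra.smul_def, TensorProduct.tmul_sub, smul_sub, TensorProduct.smul_tmul (a),
        ← Algebra.algebraMap_eq_smul_one, h1, TensorProduct.tmul_smul]
    rw [h2]
    exact Ideal.mul_mem_left _ _ (tmul_mem_map A n b _ hy)
  | add x₁ x₂ h₁ h₂ =>
    obtain ⟨s₁, hs₁, b₁, hb₁⟩ := h₁
    obtain ⟨s₂, hs₂, b₂, hb₂⟩ := h₂
    refine ⟨s₁ * s₂, ?_, s₂ • b₁ + s₁ • b₂, ?_⟩
    · intro h
      rcases (Ideal.IsPrime.mem_or_mem inferInstance h) with h | h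
      · exact hs₁ h
      · exact hs₂ h
    · have h3 : (s₁ * s₂) • (x₁ + x₂) - (s₂ • b₁ + s₁ • b₂) ⊗ₜ[A] (1 : Âp) =
          algebraMap A (B ⊗[A] Âp) s₂ * (s₁ • x₁ - b₁ ⊗ₜ[A] (1 : Âp)) +
          algebraMap A (B ⊗[A] Âp) s₁ * (s₂ • x₂ - b₂ ⊗ₜ[A] (1 : Âp)) := by
        rw [← Algebra.smul_def, ← Algebra.smul_def, TensorProduct.add_tmul, smul_sub, smul_sub,
          smul_add, ← TensorProduct.smul_tmul', ← TensorProduct.smul_tmul', smul_smul, smul_smul,
          mul_comm s₂ s₁]
        abel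
      rw [h3]
      exact Ideal.add_mem _ (Ideal.mul_mem_left _ _ hb₁) (Ideal.mul_mem_left _ _ hb₂)

theorem gHom_algebraMap_A (a : A) : gHom A n (algebraMap A (B ⊗[A] Âp) a) = algebraMap A Ĉ a := by
  rw [IsScalarTower.algebraMap_apply A B (B ⊗[A] Âp), AlgHom.commutes,
    ← IsScalarTower.algebraMap_apply A B Ĉ]

/-- `p Ĉ` is contained in the maximal ideal. -/
theorem map_p_le : (p).map (algebraMap A Ĉ) ≤ maximalIdeal Ĉ := by
  rw [Ideal.map_le_iff_le_comap]
  intro a ha
  rw [Ideal.mem_comap, ← hHom_algebraMap A n]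
  have h1 := algebraMap_Âp_mem A n a ha
  exact Groth.Agent.H26.ComplFlatMap.map_complHom_le Ap C (Ideal.mem_map_of_mem _ h1)

/-- `p R ⊆ n R`. -/
theorem map_p_le_map_n :
    (p).map (algebraMap A (B ⊗[A] Âp)) ≤ n.map (algebraMap B (B ⊗[A] Âp)) := by
  rw [Ideal.map_le_iff_le_comap]
  intro a ha
  rw [Ideal.mem_comap, IsScalarTower.algebraMap_apply A B (B ⊗[A] Âp)]
  exact Ideal.mem_map_of_mem _ ha

/-- elements of `B` mapping into the maximal ideal of `Ĉ` lie in `n`. -/
theorem mem_of_algebraMap_mem (b : B) (hb : algebraMap B Ĉ b ∈ maximalIdeal Ĉ) : b ∈ n := by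
  by_contra hbn
  have h1 : IsUnit (algebraMap B C b) :=
    IsLocalization.map_units C (⟨b, hbn⟩ : n.primeCompl)
  have h2 : IsUnit (algebraMap B Ĉ b) := by
    rw [IsScalarTower.algebraMap_apply B C Ĉ]
    exact h1.map _
  exact (mem_maximalIdeal _).mp hb h2

theorem ker_gHom_le :
    RingHom.ker (gHom A n : B ⊗[A] Âp →+* Ĉ) ≤ n.map (algebraMap B (B ⊗[A] Âp)) := by
  intro x hx
  have hx0 : gHom A n x = 0 := hx
  obtain ⟨s, hs, b, hb⟩ := exists_smul_sub_mem A n x
  have hgy : gHom A n (s • x - b ⊗ₜ[A] (1 : Âp)) ∈ (p).map (algebraMap A Ĉ) := by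
    have h1 : ((p).map (algebraMap A (B ⊗[A] Âp))).map (gHom A n : B ⊗[A] Âp →+* Ĉ) =
        (p).map (algebraMap A Ĉ) := by
      rw [Ideal.map_map]
      congr 1
      exact RingHom.ext (fun a => gHom_algebraMap_A A n a)
    rw [← h1]
    exact Ideal.mem_map_of_mem _ hb
  have hgb : gHom A n (b ⊗ₜ[A] (1 : Âp)) = algebraMap B Ĉ b := by
    rw [gHom_tmul, map_one, mul_one]
  have hsx' : s • x = algebraMap A (B ⊗[A] Âp) s * x := Algebra.smul_def s x
  have hgs : gHom A n (s • x) = 0 := by
    rw [hsx', map_mul, hx0, mul_zero]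
  have hbm : algebraMap B Ĉ b ∈ maximalIdeal Ĉ := by
    have h2 := map_p_le A n hgy
    rw [map_sub, hgs, zero_sub, hgb] at h2
    exact (Ideal.neg_mem_iff _).mp h2
  have hbn : b ∈ n := mem_of_algebraMap_mem n b hbm
  have hsx : s • x ∈ n.map (algebraMap B (B ⊗[A] Âp)) := by
    have h3 : s • x = (s • x - b ⊗ₜ[A] (1 : Âp)) + algebraMap B (B ⊗[A] Âp) b := by
      rw [Algebra.TensorProduct.algebraMap_apply, Algebra.algebraMap_self, RingHom.id_apply]
      abel
    rw [h3]
    exact Ideal.add_mem _ (map_p_le_map_n A n hb) (Ideal.mem_map_of_mem _ hbn)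
  obtain ⟨u, hu⟩ := (isUnit_algebraMap_Âp A n s hs).exists_right_inv
  have h4 : x = ((1 : B) ⊗ₜ[A] u) * (s • x) := by
    rw [mul_smul_comm, ← smul_mul_assoc, ← TensorProduct.tmul_smul, Algebra.smul_def, hu,
      ← Algebra.TensorProduct.one_def, one_mul]
  rw [h4]
  exact Ideal.mul_mem_left _ _ hsx

/-- `p C` is primary to the maximal ideal of `C = B_n`. -/
theorem exists_pow_le : ∃ N : ℕ, maximalIdeal C ^ N ≤ (p).map (algebraMap A C) := by
  haveI : Algebra.IsIntegral A B := Algebra.IsIntegral.of_finite A B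
  have hle : (p).map (algebraMap A C) ≤ maximalIdeal C := by
    rw [Ideal.map_le_iff_le_comap]
    intro a ha
    rw [Ideal.mem_comap, IsScalarTower.algebraMap_apply A B C,
      ← Localization.AtPrime.map_eq_maximalIdeal]
    exact Ideal.mem_map_of_mem _ ha
  have hrad : ((p).map (algebraMap A C)).radical = maximalIdeal C := by
    refine le_antisymm ?_ ?_
    · exact (Ideal.IsPrime.radical_le_iff (inferInstance : (maximalIdeal C).IsPrime)).mpr hle
    · rw [Ideal.radical_eq_sInf]
      refine le_sInf ?_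
      rintro P ⟨hP1, hP2⟩
      haveI := hP2
      let n₁ : Ideal B := P.comap (algebraMap B C)
      haveI : n₁.IsPrime := Ideal.comap_isPrime _ _
      have hn₁ : n₁ ≤ n := by
        have h1 : P ≤ maximalIdeal C := IsLocalRing.le_maximalIdeal (Ideal.IsPrime.ne_top hP2)
        have h2 : (maximalIdeal C).comap (algebraMap B C) = n :=
          Localization.AtPrime.under_maximalIdeal
        rw [← h2]
        exact Ideal.comap_mono h1
      have hcomap : n₁.comap (algebraMap A B) = n.comap (algebraMap A B) := by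
        refine le_antisymm (Ideal.comap_mono hn₁) ?_
        intro a ha
        show algebraMap B C (algebraMap A B a) ∈ P
        rw [← IsScalarTower.algebraMap_apply A B C]
        exact hP1 (Ideal.mem_map_of_mem _ ha)
      have heq : n₁ = n := by
        by_contra hne
        have hlt : n₁ < n := lt_of_le_of_ne hn₁ hne
        have := Ideal.IsIntegral.comap_lt_comap (R := A) hlt
        rw [hcomap] at this
        exact lt_irrefl _ this
      have hP : P = maximalIdeal C := by
        rw [← IsLocalization.map_under n.primeCompl C P,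
          ← Localization.AtPrime.map_eq_maximalIdeal]
        show Ideal.map (algebraMap B C) n₁ = _
        rw [heq]
      rw [hP]
  have hfg : ((p).map (algebraMap A C)).radical.FG := Ideal.fg_of_isNoetherianRing _
  obtain ⟨N, hN⟩ := Ideal.exists_radical_pow_le_of_fg _ hfg
  exact ⟨N, by rw [← hrad]; exact hN⟩

/-- elements of `B ∖ n` are invertible in the image of `R` modulo `p Ĉ`. -/
theorem exists_inv_mod (s : B) (hs : s ∉ n) :
    ∃ x : B ⊗[A] Âp, algebraMap B Ĉ s * gHom A n x - 1 ∈ (p).map (algebraMap A Ĉ) := by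
  haveI : Algebra.IsIntegral A B := Algebra.IsIntegral.of_finite A B
  let pĈ : Ideal Ĉ := (p).map (algebraMap A Ĉ)
  let ι : A →+* Ĉ ⧸ pĈ := (Ideal.Quotient.mk pĈ).comp (algebraMap A Ĉ)
  let T : Subring (Ĉ ⧸ pĈ) :=
    ((Ideal.Quotient.mk pĈ).comp (gHom A n : B ⊗[A] Âp →+* Ĉ)).range
  have hmemT : ∀ x : B ⊗[A] Âp, Ideal.Quotient.mk pĈ (gHom A n x) ∈ T := fun x => ⟨x, rfl⟩
  have h0 : ∀ a ∈ p, ι a = 0 := by
    intro a ha
    exact Ideal.Quotient.eq_zero_iff_mem.mpr (Ideal.mem_map_of_mem _ ha)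
  have hT : ∀ a, ι a ∈ T := by
    intro a
    have := hmemT (algebraMap A (B ⊗[A] Âp) a)
    rwa [gHom_algebraMap_A] at this
  have hu : ∀ a, a ∉ p → ∃ u ∈ T, ι a * u = 1 := by
    intro a ha
    obtain ⟨u', hu'⟩ := (isUnit_algebraMap_Âp A n a ha).exists_right_inv
    refine ⟨_, hmemT ((1 : B) ⊗ₜ[A] u'), ?_⟩
    show Ideal.Quotient.mk pĈ (algebraMap A Ĉ a) * Ideal.Quotient.mk pĈ (gHom A n (1 ⊗ₜ[A] u')) = 1
    rw [← map_mul, gHom_tmul, map_one, one_mul, ← hHom_algebraMap A n, ← map_mul, hu', map_one,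
      map_one]
  have hσT : Ideal.Quotient.mk pĈ (algebraMap B Ĉ s) ∈ T := by
    have := hmemT (s ⊗ₜ[A] (1 : Âp))
    rwa [gHom_tmul, map_one, mul_one] at this
  have hσ : IsUnit (Ideal.Quotient.mk pĈ (algebraMap B Ĉ s)) := by
    have h1 : IsUnit (algebraMap B C s) := IsLocalization.map_units C (⟨s, hs⟩ : n.primeCompl)
    rw [IsScalarTower.algebraMap_apply B C Ĉ]
    exact (h1.map _).map _
  obtain ⟨P, hmonic, hP⟩ := Algebra.IsIntegral.isIntegral (R := A) s
  have hP' : P.eval₂ ι (Ideal.Quotient.mk pĈ (algebraMap B Ĉ s)) = 0 := by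
    have h2 := Polynomial.hom_eval₂ P (algebraMap A B)
      ((Ideal.Quotient.mk pĈ).comp (algebraMap B Ĉ)) s
    rw [hP, map_zero] at h2
    have h3 : ((Ideal.Quotient.mk pĈ).comp (algebraMap B Ĉ)).comp (algebraMap A B) = ι := by
      refine RingHom.ext fun a => ?_
      show Ideal.Quotient.mk pĈ (algebraMap B Ĉ (algebraMap A B a)) =
        Ideal.Quotient.mk pĈ (algebraMap A Ĉ a)
      rw [← IsScalarTower.algebraMap_apply A B Ĉ]
    rw [h3] at h2
    exact h2.symm
  have hp : (p) ≠ ⊤ := Ideal.IsPrime.ne_top inferInstance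
  obtain ⟨t, ⟨x, rfl⟩, ht1⟩ := Groth.Agent.H23.IntegralUnit.exists_inverse ι (p) T h0 hu hT hp _
    hσT hσ P hmonic hP'
  refine ⟨x, ?_⟩
  rw [← Ideal.Quotient.eq_zero_iff_mem (I := pĈ), map_sub, map_mul, map_one, sub_eq_zero]
  exact ht1

/-- the image of `C` lies in `g(R) + p Ĉ`. -/
theorem exists_sub_mem_of_C (c : C) :
    ∃ x : B ⊗[A] Âp, algebraMap C Ĉ c - gHom A n x ∈ (p).map (algebraMap A Ĉ) := by
  obtain ⟨⟨b, s⟩, hbs⟩ := IsLocalization.surj n.primeCompl c
  obtain ⟨x₀, hx₀⟩ := exists_inv_mod A n (s : B) s.2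
  refine ⟨(b ⊗ₜ[A] (1 : Âp)) * x₀, ?_⟩
  have h1 : algebraMap B Ĉ b = algebraMap C Ĉ c * algebraMap B Ĉ (s : B) := by
    rw [IsScalarTower.algebraMap_apply B C Ĉ, IsScalarTower.algebraMap_apply B C Ĉ, ← map_mul,
      ← hbs]
  have h2 : algebraMap C Ĉ c - gHom A n ((b ⊗ₜ[A] (1 : Âp)) * x₀) =
      -(algebraMap C Ĉ c * (algebraMap B Ĉ (s : B) * gHom A n x₀ - 1)) := by
    rw [map_mul, gHom_tmul, map_one, mul_one, h1]
    ring
  rw [h2]
  exact (Ideal.neg_mem_iff _).mpr (Ideal.mul_mem_left _ _ hx₀)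

/-- every element of `Ĉ` lies in `g(R) + p Ĉ`. -/
theorem exists_sub_mem (y : Ĉ) :
    ∃ x : B ⊗[A] Âp, y - gHom A n x ∈ (p).map (algebraMap A Ĉ) := by
  obtain ⟨N, hN⟩ := exists_pow_le A n
  have hfg : (maximalIdeal C).FG := (maximalIdeal C).fg_of_isNoetherianRing
  obtain ⟨c, hc⟩ := Groth.Agent.H23.UFDiff.exists_of_sub_mem (maximalIdeal C) hfg N y
  obtain ⟨x, hx⟩ := exists_sub_mem_of_C A n c
  refine ⟨x, ?_⟩
  have h1 : y - AdicCompletion.of (maximalIdeal C) C c ∈ (p).map (algebraMap A Ĉ) := by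
    rw [Ideal.smul_top_eq_map] at hc
    have h2 : (maximalIdeal C ^ N).map (algebraMap C Ĉ) ≤ (p).map (algebraMap A Ĉ) := by
      refine (Ideal.map_mono hN).trans ?_
      rw [Ideal.map_map, ← IsScalarTower.algebraMap_eq A C Ĉ]
    exact h2 hc
  have h3 : AdicCompletion.of (maximalIdeal C) C c = algebraMap C Ĉ c := by
    rw [AdicCompletion.algebraMap_apply, Algebra.algebraMap_self, RingHom.id_apply]
  have h4 : y - gHom A n x = (y - AdicCompletion.of (maximalIdeal C) C c) +
      (algebraMap C Ĉ c - gHom A n x) := by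
    rw [h3]; abel
  rw [h4]
  exact Ideal.add_mem _ h1 hx

/-- the comparison map is surjective. -/
theorem gHom_surjective : Function.Surjective (gHom A n) := by
  letI algh : Algebra Âp Ĉ := (hHom A n).toAlgebra
  have hsmul : ∀ (w : Âp) (y : Ĉ), w • y = hHom A n w * y := fun _ _ => rfl
  haveI : IsScalarTower A Âp Ĉ := IsScalarTower.of_algebraMap_eq fun a =>
    (hHom_algebraMap A n a).symm
  have hmapm : (maximalIdeal Âp).map (algebraMap Âp Ĉ) ≤ maximalIdeal Ĉ :=
    Groth.Agent.H26.ComplFlatMap.map_complHom_le Ap C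
  -- Hausdorff
  haveI hH : IsHausdorff (maximalIdeal Âp) Ĉ := by
    refine ⟨fun x hx => ?_⟩
    refine IsHausdorff.haus (inferInstance : IsHausdorff (maximalIdeal Ĉ) Ĉ) x fun k => ?_
    have h1 := hx k
    rw [SModEq.zero] at h1 ⊢
    rw [Ideal.smul_top_eq_map] at h1
    rw [smul_eq_mul, Ideal.mul_top]
    have h2 : (maximalIdeal Âp ^ k).map (algebraMap Âp Ĉ) ≤ maximalIdeal Ĉ ^ k := by
      rw [Ideal.map_pow]
      exact Ideal.pow_right_mono hmapm k
    exact h2 h1
  -- the linear map
  let φ : Âp ⊗[A] B →ₗ[Âp] Ĉ :=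
    LinearMap.liftBaseChange Âp ((Algebra.linearMap B Ĉ).restrictScalars A)
  have hφ : ∀ x : B ⊗[A] Âp, φ (Algebra.TensorProduct.comm A B Âp x) = gHom A n x := by
    intro x
    induction x using TensorProduct.induction_on with
    | zero => rw [map_zero, map_zero, map_zero]
    | tmul b w =>
      rw [Algebra.TensorProduct.comm_tmul, LinearMap.liftBaseChange_tmul, gHom_tmul, hsmul,
        mul_comm]
      rfl
    | add x y hx hy => rw [map_add, map_add, map_add, hx, hy]
  have hple : ∀ z : Ĉ, z ∈ (p).map (algebraMap A Ĉ) →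
      z ∈ (maximalIdeal Âp • ⊤ : Submodule Âp Ĉ) := by
    intro z hz
    rw [Ideal.smul_top_eq_map]
    have h1 : (p).map (algebraMap A Ĉ) ≤ (maximalIdeal Âp).map (algebraMap Âp Ĉ) := by
      rw [Ideal.map_le_iff_le_comap]
      intro a ha
      rw [Ideal.mem_comap, IsScalarTower.algebraMap_apply A Âp Ĉ]
      exact Ideal.mem_map_of_mem _ (algebraMap_Âp_mem A n a ha)
    exact h1 hz
  have hsup : ∀ y : Ĉ, y ∈ LinearMap.range φ ⊔ (maximalIdeal Âp • ⊤ : Submodule Âp Ĉ) := by
    intro y
    obtain ⟨x, hx⟩ := exists_sub_mem A n y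
    have : y = gHom A n x + (y - gHom A n x) := by abel
    rw [this]
    exact Submodule.add_mem_sup ⟨_, hφ x⟩ (hple _ hx)
  have hsurjq : Function.Surjective
      ((maximalIdeal Âp • ⊤ : Submodule Âp Ĉ).mkQ ∘ₗ φ) := by
    intro q
    obtain ⟨y, rfl⟩ := Submodule.mkQ_surjective _ q
    obtain ⟨y₁, ⟨x₁, rfl⟩, y₂, hy₂, rfl⟩ := Submodule.mem_sup.mp (hsup y)
    refine ⟨x₁, ?_⟩
    have h0 : (maximalIdeal Âp • ⊤ : Submodule Âp Ĉ).mkQ y₂ = 0 := by
      rw [Submodule.mkQ_apply]
      exact (Submodule.Quotient.mk_eq_zero _).mpr hy₂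
    rw [LinearMap.comp_apply, map_add, h0, add_zero]
  haveI hfq : Module.Finite Âp (Ĉ ⧸ (maximalIdeal Âp • ⊤ : Submodule Âp Ĉ)) :=
    Module.Finite.of_surjective _ hsurjq
  haveI hfin : Module.Finite Âp Ĉ :=
    Groth.Agent.H44.finite_of_finite_quotient (maximalIdeal Âp) Ĉ hfq
  have htop : (⊤ : Submodule Âp Ĉ) ≤ LinearMap.range φ := by
    refine Submodule.le_of_le_smul_of_le_jacobson_bot Module.Finite.fg_top
      (IsLocalRing.jacobson_eq_maximalIdeal ⊥ bot_ne_top).ge ?_
    intro y _
    exact hsup y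
  intro y
  obtain ⟨x, hx⟩ := htop (Submodule.mem_top : y ∈ ⊤)
  refine ⟨(Algebra.TensorProduct.comm A B Âp).symm x, ?_⟩
  rw [← hφ, AlgEquiv.apply_symm_apply, hx]

end Setup

section Regular

variable (A : Type u) {B : Type u} [CommRing A] [IsRegularLocalRing A] [CharZero A] [CommRing B]
  [IsDomain B] [Algebra A B] [Module.Finite A B] (n : Ideal B) [n.IsPrime]

local notation "p" => Ideal.comap (algebraMap A B) n
local notation "Ap" => Localization.AtPrime (Ideal.comap (algebraMap A B) n)
local notation "C" => Localization.AtPrime n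
local notation "Âp" => AdicCompletion
  (maximalIdeal (Localization.AtPrime (Ideal.comap (algebraMap A B) n)))
  (Localization.AtPrime (Ideal.comap (algebraMap A B) n))
local notation "Ĉ" => AdicCompletion (maximalIdeal (Localization.AtPrime n)) (Localization.AtPrime n)

attribute [local instance] FractionRing.liftAlgebra

/-- the local rings of `B ⊗_A (A_p)^` at the primes over `0 ⊂ B` are regular
(characteristic zero). -/
theorem isRegularLocalRing_tensor_atPrime (hinj : Function.Injective (algebraMap A B))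
    (q : Ideal (B ⊗[A] Âp)) [q.IsPrime]
    (hq : q.comap (algebraMap B (B ⊗[A] Âp)) = ⊥) :
    IsRegularLocalRing (Localization.AtPrime q) := by
  haveI : IsDomain A := Groth.Agent.Lead.RLR.isDomain A
  haveI : FaithfulSMul A B := (faithfulSMul_iff_algebraMap_injective A B).mpr hinj
  haveI : Algebra.IsIntegral A B := Algebra.IsIntegral.of_finite A B
  -- `L/K` is finite separable
  have hB : ∀ b : B, IsIntegral (FractionRing A) (algebraMap B (FractionRing B) b) := fun b =>
    (IsIntegral.algebraMap (B := FractionRing B)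
      (Algebra.IsIntegral.isIntegral (R := A) b)).tower_top
  haveI h5 : Algebra.IsAlgebraic (FractionRing A) (FractionRing B) := by
    refine ⟨fun z => ?_⟩
    obtain ⟨x, y, _, rfl⟩ := IsFractionRing.div_surjective (A := B) z
    rw [div_eq_mul_inv]
    exact ((hB x).mul (hB y).inv).isAlgebraic
  haveI h6 : Algebra.EssFiniteType B (FractionRing B) :=
    Algebra.EssFiniteType.of_isLocalization (FractionRing B) (nonZeroDivisors B)
  haveI h7 : Algebra.FiniteType A B := inferInstance
  haveI h8 : Algebra.EssFiniteType A B := inferInstance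
  haveI h9 : Algebra.EssFiniteType A (FractionRing B) := Algebra.EssFiniteType.comp A B _
  haveI h10 : Algebra.EssFiniteType (FractionRing A) (FractionRing B) :=
    Algebra.EssFiniteType.of_comp A _ _
  haveI h11 : Algebra.IsGeometricallyReduced (FractionRing A) (FractionRing B) :=
    Groth.Agent.H13.isGeometricallyReduced_of_perfectField _ _
  -- regularity
  haveI r1 : IsRegularLocalRing Ap := Groth.Agent.Lead.RLR.isRegularLocalRing_localization A _
  haveI r2 : IsRegularLocalRing Âp := Groth.Agent.Lead.RLR.isRegularLocalRing_adicCompletion Ap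
  haveI r3 : IsRegularRing Âp :=
    ⟨fun P _ => Groth.Agent.Lead.RLR.isRegularLocalRing_localization Âp P⟩
  haveI r4 : IsRegularRing (Âp ⊗[A] FractionRing A) :=
    Groth.Agent.H14.GeomBC.isRegularRing_of_isLocalization
      (Algebra.algebraMapSubmonoid Âp (nonZeroDivisors A)) _
  haveI r5 : IsRegularRing (FractionRing A ⊗[A] Âp) :=
    IsRegularRing.of_ringEquiv (Algebra.TensorProduct.comm A Âp (FractionRing A)).toRingEquiv
  haveI r6 : IsRegularRing (FractionRing B ⊗[FractionRing A] (FractionRing A ⊗[A] Âp)) :=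
    Groth.Agent.H14.GeomBC.isRegularRing_tensor_of_isGeometricallyReduced _ _ _
  haveI r7 : IsRegularRing (FractionRing B ⊗[A] Âp) :=
    IsRegularRing.of_ringEquiv (Algebra.TensorProduct.cancelBaseChange A (FractionRing A)
      (FractionRing A) (FractionRing B) Âp).toRingEquiv
  exact (Groth.Agent.H26.FormalFibreFinite.forall_prime_iff
    (fun X [CommRing X] => IsRegularLocalRing X)
    (fun X Y _ _ e h => @IsRegularLocalRing.of_ringEquiv X _ h Y _ e) A B Âp (FractionRing B)).mp
    (fun 𝔔 _ => inferInstance) q hq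

end Regular

section Final

variable (A : Type u) {B : Type u} [CommRing A] [IsRegularLocalRing A] [CharZero A] [CommRing B]
  [IsDomain B] [Algebra A B] [Module.Finite A B] (n : Ideal B) [n.IsPrime]

local notation "C" => Localization.AtPrime n
local notation "Âp" => AdicCompletion
  (maximalIdeal (Localization.AtPrime (Ideal.comap (algebraMap A B) n)))
  (Localization.AtPrime (Ideal.comap (algebraMap A B) n))
local notation "Ĉ" => AdicCompletion (maximalIdeal (Localization.AtPrime n)) (Localization.AtPrime n)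

/-- **Generic formal fibres are regular** (characteristic zero): for a regular local ring `A` of
characteristic zero, a finite domain `B ⊇ A`, a prime `n` of `B` and a prime `q` of the completion
of `B_n` lying over `0`, the local ring `(B_n)^_q` is regular. -/
theorem isRegularLocalRing_completion_atPrime (hinj : Function.Injective (algebraMap A B))
    (q : Ideal Ĉ) [q.IsPrime] (hq : q.comap (algebraMap C Ĉ) = ⊥) :
    IsRegularLocalRing (Localization.AtPrime q) := by
  haveI : IsNoetherianRing B := IsNoetherianRing.of_finite A B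
  have hrad : n.map (algebraMap B Ĉ) ≤ Ideal.jacobson ⊥ := by
    rw [IsLocalRing.jacobson_eq_maximalIdeal ⊥ bot_ne_top, Ideal.map_le_iff_le_comap]
    intro b hb
    rw [Ideal.mem_comap, IsScalarTower.algebraMap_apply B C Ĉ]
    have h1 : algebraMap B C b ∈ maximalIdeal C := by
      rw [← Localization.AtPrime.map_eq_maximalIdeal]
      exact Ideal.mem_map_of_mem _ hb
    exact (IsLocalRing.map_maximalIdeal_le (algebraMap C Ĉ)) (Ideal.mem_map_of_mem _ h1)
  obtain ⟨e, he, hker⟩ := Groth.Agent.H23.FlatSurjLoc.exists_unit_annihilator (gHom A n)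
    (gHom_surjective A n) n (ker_gHom_le A n) hrad
  have hbij := Groth.Agent.H23.FlatSurjLoc.localRingHom_bijective
    (gHom A n : B ⊗[A] Âp →+* Ĉ) (gHom_surjective A n) e he hker q
  haveI : (q.comap (gHom A n : B ⊗[A] Âp →+* Ĉ)).IsPrime := Ideal.comap_isPrime _ _
  have hQ : (q.comap (gHom A n : B ⊗[A] Âp →+* Ĉ)).comap (algebraMap B (B ⊗[A] Âp)) = ⊥ := by
    rw [Ideal.comap_comap]
    have h1 : (gHom A n : B ⊗[A] Âp →+* Ĉ).comp (algebraMap B (B ⊗[A] Âp)) =
        (algebraMap C Ĉ).comp (algebraMap B C) := by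
      refine RingHom.ext fun b => ?_
      show gHom A n (algebraMap B (B ⊗[A] Âp) b) = algebraMap C Ĉ (algebraMap B C b)
      rw [AlgHom.commutes, ← IsScalarTower.algebraMap_apply B C Ĉ]
    rw [h1, ← Ideal.comap_comap, hq]
    have hinjC : Function.Injective (algebraMap B C) :=
      IsLocalization.injective C (Ideal.primeCompl_le_nonZeroDivisors n)
    rw [eq_bot_iff]
    intro b hb
    have : algebraMap B C b = 0 := hb
    rw [Ideal.mem_bot]
    exact hinjC (by rw [this, map_zero])
  haveI hreg := isRegularLocalRing_tensor_atPrime A n hinj _ hQ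
  exact IsRegularLocalRing.of_ringEquiv (RingEquiv.ofBijective _ hbij)

end Final

end Groth.Agent.H23.FormalFibreChar0
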