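import Mathlib
import Groth.Agent.H23.FormalFibreChar0

/-!
# Transfer lemmas for generic formal fibres

* `isRegularLocalRing_completion_atPrime_of_tensor` : `A` Noetherian, `B` a finite `A`-algebra
  domain with fraction field `K`, `n` a prime of `B`, `p = n ∩ A`.  If `K ⊗_A (A_p)^` is a regular
  ring, then `(B_n)^` is regular at all primes lying over `0`.
* `isRegularRing_tensor_of_forall` : conversely, if `(B_r)^` is regular at all primes over `0`
  then `(B_r)^ ⊗_B K` is a regular ring.
-/

set_option autoImplicit false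
set_option linter.style.haveILetI false
set_option linter.unusedSectionVars false
set_option linter.unusedVariables false
universe u

namespace Groth.Agent.H23.GRTransfer

open IsLocalRing TensorProduct Groth.Agent.H23.FormalFibreChar0

section T

variable (A : Type u) {B : Type u} [CommRing A] [IsNoetherianRing A] [CommRing B] [IsDomain B]
  [Algebra A B] [Module.Finite A B] (n : Ideal B) [n.IsPrime]
  (K : Type u) [Field K] [Algebra B K] [IsFractionRing B K] [Algebra A K] [IsScalarTower A B K]

local notation "C" => Localization.AtPrime n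
local notation "Âp" => AdicCompletion
  (maximalIdeal (Localization.AtPrime (Ideal.comap (algebraMap A B) n)))
  (Localization.AtPrime (Ideal.comap (algebraMap A B) n))
local notation "Ĉ" => AdicCompletion (maximalIdeal (Localization.AtPrime n)) (Localization.AtPrime n)

/-- **Transfer**: if `K ⊗_A (A_p)^` is regular, the generic formal fibre of `B_n` is regular. -/
theorem isRegularLocalRing_completion_atPrime_of_tensor
    (hreg : IsRegularRing (K ⊗[A] Âp))
    (q : Ideal Ĉ) [q.IsPrime] (hq : q.comap (algebraMap C Ĉ) = ⊥) :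
    IsRegularLocalRing (Localization.AtPrime q) := by
  haveI : IsNoetherianRing B := IsNoetherianRing.of_finite A B
  have hrad : n.map (algebraMap B Ĉ) ≤ Ideal.jacobson ⊥ := by
    rw [IsLocalRing.jacobson_eq_maximalIdeal ⊥ bot_ne_top, Ideal.map_le_iff_le_comap]
    intro b hb
    rw [Ideal.mem_comap, IsScalarTower.algebraMap_apply B C Ĉ]
    have h1 : algebraMap B C b ∈ maximalIdeal C := by
      rw [← Localization.AtPrime.map_eq_maximalIdeal]
      exact Ideal.mem_map_of_mem _ hb
    exact (IsLocalRing.map_maximalIdeal_le (algebraMap C Ĉ)) (Ideal.mem_map_of_mem _ h1)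
  obtain ⟨e, he, hker⟩ := Groth.Agent.H23.FlatSurjLoc.exists_unit_annihilator (gHom A n)
    (gHom_surjective A n) n (ker_gHom_le A n) hrad
  have hbij := Groth.Agent.H23.FlatSurjLoc.localRingHom_bijective
    (gHom A n : B ⊗[A] Âp →+* Ĉ) (gHom_surjective A n) e he hker q
  haveI : (q.comap (gHom A n : B ⊗[A] Âp →+* Ĉ)).IsPrime := Ideal.comap_isPrime _ _
  have hQ : (q.comap (gHom A n : B ⊗[A] Âp →+* Ĉ)).comap (algebraMap B (B ⊗[A] Âp)) = ⊥ := by
    rw [Ideal.comap_comap]
    have h1 : (gHom A n : B ⊗[A] Âp →+* Ĉ).comp (algebraMap B (B ⊗[A] Âp)) =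
        (algebraMap C Ĉ).comp (algebraMap B C) := by
      refine RingHom.ext fun b => ?_
      show gHom A n (algebraMap B (B ⊗[A] Âp) b) = algebraMap C Ĉ (algebraMap B C b)
      rw [AlgHom.commutes, ← IsScalarTower.algebraMap_apply B C Ĉ]
    rw [h1, ← Ideal.comap_comap, hq]
    have hinjC : Function.Injective (algebraMap B C) :=
      IsLocalization.injective C (Ideal.primeCompl_le_nonZeroDivisors n)
    rw [eq_bot_iff]
    intro b hb
    have : algebraMap B C b = 0 := hb
    rw [Ideal.mem_bot]
    exact hinjC (by rw [this, map_zero])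
  haveI hreg' : IsRegularLocalRing
      (Localization.AtPrime (q.comap (gHom A n : B ⊗[A] Âp →+* Ĉ))) :=
    (Groth.Agent.H26.FormalFibreFinite.forall_prime_iff
      (fun X [CommRing X] => IsRegularLocalRing X)
      (fun X Y _ _ e h => @IsRegularLocalRing.of_ringEquiv X _ h Y _ e) A B Âp K).mp
      (fun 𝔔 _ => hreg.isRegularLocalRing_localization 𝔔) _ hQ
  exact IsRegularLocalRing.of_ringEquiv (RingEquiv.ofBijective _ hbij)

end T

section R

variable (B : Type u) [CommRing B] [IsDomain B] [IsNoetherianRing B] (r : Ideal B) [r.IsPrime]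
  (K : Type u) [Field K] [Algebra B K] [IsFractionRing B K]

local notation "C" => Localization.AtPrime r
local notation "Ĉ" => AdicCompletion (maximalIdeal (Localization.AtPrime r)) (Localization.AtPrime r)

/-- **Converse**: if `(B_r)^` is regular at all primes over `0`, then `(B_r)^ ⊗_B K` is a
regular ring. -/
theorem isRegularRing_tensor_of_forall
    (h : ∀ (Q : Ideal Ĉ) [Q.IsPrime], Q.comap (algebraMap C Ĉ) = ⊥ →
      IsRegularLocalRing (Localization.AtPrime Q)) :
    IsRegularRing (Ĉ ⊗[B] K) := by
  let M : Submonoid Ĉ := Algebra.algebraMapSubmonoid Ĉ (nonZeroDivisors B)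
  haveI hloc : IsLocalization M (Ĉ ⊗[B] K) := IsLocalization.tensor K (nonZeroDivisors B)
  haveI : IsNoetherianRing Ĉ := inferInstance
  haveI : IsNoetherianRing (Ĉ ⊗[B] K) := IsLocalization.isNoetherianRing M _ inferInstance
  rw [isRegularRing_iff]
  intro 𝔔 h𝔔
  refine Groth.Agent.H26.FormalFibreFinite.forall_prime_of_isLocalization
    (fun X [CommRing X] => IsRegularLocalRing X)
    (fun X Y _ _ e h => @IsRegularLocalRing.of_ringEquiv X _ h Y _ e) M ?_ 𝔔
  intro q hq hdisj
  refine h q ?_
  rw [eq_bot_iff]
  intro c hc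
  rw [Ideal.mem_bot]
  by_contra hc0
  obtain ⟨⟨b, s⟩, hbs⟩ := IsLocalization.surj r.primeCompl c
  have hb : algebraMap B C b ∈ q.comap (algebraMap C Ĉ) := by
    rw [← hbs]
    exact Ideal.mul_mem_right _ _ hc
  have hinjC : Function.Injective (algebraMap B C) :=
    IsLocalization.injective C (Ideal.primeCompl_le_nonZeroDivisors r)
  have hb0 : b ≠ 0 := by
    rintro rfl
    rw [map_zero] at hbs
    have hs : IsUnit (algebraMap B C (s : B)) := IsLocalization.map_units C s
    exact hc0 ((hs.mul_left_eq_zero).mp hbs)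
  refine Set.disjoint_left.mp hdisj ⟨b, mem_nonZeroDivisors_of_ne_zero hb0, rfl⟩ ?_
  show algebraMap B Ĉ b ∈ q
  rw [IsScalarTower.algebraMap_apply B C Ĉ]
  exact hb

end R

end Groth.Agent.H23.GRTransfer
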