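import Mathlib
import Groth.Agent.H23.GRTransfer

/-!
# The property `GF` and the separable step

`GF B`: for every prime `r` of `B`, the completion `(B_r)^` is regular at all primes lying over
`0 ⊂ B_r` ("the generic formal fibres of the local rings of `B` are regular").
-/

set_option autoImplicit false
set_option linter.style.haveILetI false
set_option linter.unusedSectionVars false
set_option linter.unusedVariables false
universe u

namespace Groth.Agent.H23.GR

open IsLocalRing TensorProduct

/-- generic formal fibres of all local rings of `B` are regular. -/
def GF (B : Type u) [CommRing B] : Prop :=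
  ∀ (r : Ideal B) [r.IsPrime]
    (Q : Ideal (AdicCompletion (maximalIdeal (Localization.AtPrime r)) (Localization.AtPrime r)))
    [Q.IsPrime],
    Q.comap (algebraMap (Localization.AtPrime r)
      (AdicCompletion (maximalIdeal (Localization.AtPrime r)) (Localization.AtPrime r))) = ⊥ →
    IsRegularLocalRing (Localization.AtPrime Q)

/-- a regular ring has `GF`. -/
theorem GF_of_isRegularRing (B : Type u) [CommRing B] [IsRegularRing B] : GF B := by
  intro r _ Q _ _
  haveI r1 : IsRegularLocalRing (Localization.AtPrime r) := inferInstance
  haveI r2 : IsRegularLocalRing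
      (AdicCompletion (maximalIdeal (Localization.AtPrime r)) (Localization.AtPrime r)) :=
    Groth.Agent.Lead.RLR.isRegularLocalRing_adicCompletion _
  exact Groth.Agent.Lead.RLR.isRegularLocalRing_localization _ Q

attribute [local instance] FractionRing.liftAlgebra

/-- **Separable step.** -/
theorem GF_of_isSeparable (B C : Type u) [CommRing B] [IsDomain B] [IsNoetherianRing B]
    [CommRing C] [IsDomain C] [Algebra B C] [Module.Finite B C] [FaithfulSMul B C]
    [Algebra.IsSeparable (FractionRing B) (FractionRing C)] (hB : GF B) : GF C := by
  intro r' _ Q _ hQ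
  haveI : Algebra.IsIntegral B C := Algebra.IsIntegral.of_finite B C
  -- `Frac C / Frac B` is finite
  have hCint : ∀ c : C, IsIntegral (FractionRing B) (algebraMap C (FractionRing C) c) := fun c =>
    (IsIntegral.algebraMap (B := FractionRing C)
      (Algebra.IsIntegral.isIntegral (R := B) c)).tower_top
  haveI h6 : Algebra.EssFiniteType C (FractionRing C) :=
    Algebra.EssFiniteType.of_isLocalization (FractionRing C) (nonZeroDivisors C)
  haveI h7 : Algebra.FiniteType B C := inferInstance
  haveI h8 : Algebra.EssFiniteType B C := inferInstance
  haveI h9 : Algebra.EssFiniteType B (FractionRing C) := Algebra.EssFiniteType.comp B C _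
  haveI h10 : Algebra.EssFiniteType (FractionRing B) (FractionRing C) :=
    Algebra.EssFiniteType.of_comp B _ _
  haveI h11 : Algebra.IsGeometricallyReduced (FractionRing B) (FractionRing C) :=
    Groth.Agent.H13.isGeometricallyReduced_of_isSeparable _ _
  -- regularity of `(B_r)^ ⊗ Frac B`
  set r : Ideal B := Ideal.comap (algebraMap B C) r' with hr
  haveI r1 : IsRegularRing
      (AdicCompletion (maximalIdeal (Localization.AtPrime r)) (Localization.AtPrime r) ⊗[B]
        FractionRing B) :=
    Groth.Agent.H23.GRTransfer.isRegularRing_tensor_of_forall B r (FractionRing B)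
      (fun Q' _ hQ' => hB r Q' hQ')
  haveI r5 : IsRegularRing (FractionRing B ⊗[B]
      AdicCompletion (maximalIdeal (Localization.AtPrime r)) (Localization.AtPrime r)) :=
    IsRegularRing.of_ringEquiv (Algebra.TensorProduct.comm B
      (AdicCompletion (maximalIdeal (Localization.AtPrime r)) (Localization.AtPrime r))
      (FractionRing B)).toRingEquiv
  haveI r6 : IsRegularRing (FractionRing C ⊗[FractionRing B] (FractionRing B ⊗[B]
      AdicCompletion (maximalIdeal (Localization.AtPrime r)) (Localization.AtPrime r))) :=
    Groth.Agent.H14.GeomBC.isRegularRing_tensor_of_isGeometricallyReduced _ _ _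
  haveI r7 : IsRegularRing (FractionRing C ⊗[B]
      AdicCompletion (maximalIdeal (Localization.AtPrime r)) (Localization.AtPrime r)) :=
    IsRegularRing.of_ringEquiv (Algebra.TensorProduct.cancelBaseChange B (FractionRing B)
      (FractionRing B) (FractionRing C)
      (AdicCompletion (maximalIdeal (Localization.AtPrime r)) (Localization.AtPrime r))).toRingEquiv
  exact Groth.Agent.H23.GRTransfer.isRegularLocalRing_completion_atPrime_of_tensor B r'
    (FractionRing C) r7 Q hQ

end Groth.Agent.H23.GR
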