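import Mathlib
import Groth.Agent.H23.GRStepSep
import Groth.Agent.H23.GRDescent
import Groth.Agent.H26.FormalFibreFinite

/-!
# A criterion for regular formal fibres

`A` Noetherian.  If every finite `A`-algebra domain `D` has `GF D` (regular generic formal fibres
at all its primes), then `A_P → (A_P)^` is a regular homomorphism for every prime `P` of `A`.
-/

set_option autoImplicit false
set_option linter.style.haveILetI false
set_option linter.unusedSectionVars false
set_option linter.unusedVariables false
universe u

namespace Groth.Agent.H23.GR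

open IsLocalRing TensorProduct Groth.Agent.H23.FormalFibreChar0

theorem isRegularLocalRing_atPrime_of_eq {T : Type u} [CommRing T] (q q' : Ideal T) [q.IsPrime]
    [q'.IsPrime] (h : q = q') (hr : IsRegularLocalRing (Localization.AtPrime q')) :
    IsRegularLocalRing (Localization.AtPrime q) := by
  subst h
  exact hr

section X

variable (A : Type u) [CommRing A] [IsNoetherianRing A] (D : Type u) [CommRing D] [IsDomain D]
  [Algebra A D] [Module.Finite A D]

/-- core: the prime `q` of `D ⊗_A (A_P)^` over `0 ⊂ D` lies in a maximal ideal contracting to `n`,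
and `n ∩ A = P`. -/
theorem isRegularLocalRing_tensor_atPrime_aux (hD : GF D) (P : Ideal A) [P.IsPrime]
    (n : Ideal D) [n.IsPrime] (hn : n.comap (algebraMap A D) = P)
    (q : Ideal (D ⊗[A] AdicCompletion (maximalIdeal (Localization.AtPrime P))
      (Localization.AtPrime P))) [q.IsPrime]
    (hq : q.comap (algebraMap D (D ⊗[A] AdicCompletion (maximalIdeal (Localization.AtPrime P))
      (Localization.AtPrime P))) = ⊥)
    (𝔐 : Ideal (D ⊗[A] AdicCompletion (maximalIdeal (Localization.AtPrime P))
      (Localization.AtPrime P))) (h𝔐 : 𝔐 ≠ ⊤) (hq𝔐 : q ≤ 𝔐)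
    (h𝔐n : 𝔐.comap (algebraMap D (D ⊗[A] AdicCompletion (maximalIdeal (Localization.AtPrime P))
      (Localization.AtPrime P))) = n) :
    IsRegularLocalRing (Localization.AtPrime q) := by
  subst hn
  haveI : IsNoetherianRing D := IsNoetherianRing.of_finite A D
  set g := gHom A n with hg
  let gr : D ⊗[A] AdicCompletion (maximalIdeal (Localization.AtPrime (n.comap (algebraMap A D))))
      (Localization.AtPrime (n.comap (algebraMap A D))) →+*
      AdicCompletion (maximalIdeal (Localization.AtPrime n)) (Localization.AtPrime n) := g
  have hsurj : Function.Surjective g := gHom_surjective A n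
  have hrad : n.map (algebraMap D (AdicCompletion (maximalIdeal (Localization.AtPrime n))
      (Localization.AtPrime n))) ≤ Ideal.jacobson ⊥ := by
    rw [IsLocalRing.jacobson_eq_maximalIdeal ⊥ bot_ne_top, Ideal.map_le_iff_le_comap]
    intro b hb
    rw [Ideal.mem_comap, IsScalarTower.algebraMap_apply D (Localization.AtPrime n)
      (AdicCompletion (maximalIdeal (Localization.AtPrime n)) (Localization.AtPrime n))]
    have h1 : algebraMap D (Localization.AtPrime n) b ∈ maximalIdeal (Localization.AtPrime n) := by
      rw [← Localization.AtPrime.map_eq_maximalIdeal]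
      exact Ideal.mem_map_of_mem _ hb
    exact (IsLocalRing.map_maximalIdeal_le (algebraMap (Localization.AtPrime n)
      (AdicCompletion (maximalIdeal (Localization.AtPrime n)) (Localization.AtPrime n))))
      (Ideal.mem_map_of_mem _ h1)
  obtain ⟨e, he, hker⟩ := Groth.Agent.H23.FlatSurjLoc.exists_unit_annihilator g
    hsurj n (ker_gHom_le A n) hrad
  -- `ker g ≤ 𝔐`
  have hk𝔐 : RingHom.ker gr ≤ 𝔐 := by
    refine (ker_gHom_le A n).trans ?_
    rw [Ideal.map_le_iff_le_comap, h𝔐n]
  -- `e ∉ 𝔐`
  have he𝔐 : e ∉ 𝔐 := by
    intro hmem
    apply h𝔐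
    have h1 : (𝔐.map gr) = ⊤ :=
      Ideal.eq_top_of_isUnit_mem _ (Ideal.mem_map_of_mem gr hmem) he
    have h2 : (𝔐.map gr).comap gr = 𝔐 := by
      rw [Ideal.comap_map_of_surjective gr hsurj]
      exact sup_eq_left.mpr hk𝔐
    rw [← h2, h1, Ideal.comap_top]
  have heq : e ∉ q := fun h => he𝔐 (hq𝔐 h)
  have hkq : RingHom.ker gr ≤ q := by
    intro x hx
    have h0 : e * x ∈ q := by
      rw [hker x hx]
      exact Ideal.zero_mem _
    exact (Ideal.IsPrime.mem_or_mem ‹q.IsPrime› h0).resolve_left heq
  let Q := q.map gr
  haveI hQp : Q.IsPrime := Ideal.map_isPrime_of_surjective hsurj hkq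
  have hQq : q = Q.comap gr := by
    rw [Ideal.comap_map_of_surjective gr hsurj]
    exact (sup_eq_left.mpr hkq).symm
  have hQ0 : Q.comap (algebraMap (Localization.AtPrime n)
      (AdicCompletion (maximalIdeal (Localization.AtPrime n)) (Localization.AtPrime n))) = ⊥ := by
    rw [eq_bot_iff]
    intro c hc
    rw [Ideal.mem_bot]
    obtain ⟨⟨b, s⟩, hbs⟩ := IsLocalization.surj n.primeCompl c
    have hb : algebraMap D (Localization.AtPrime n) b ∈ Q.comap (algebraMap (Localization.AtPrime n)
        (AdicCompletion (maximalIdeal (Localization.AtPrime n)) (Localization.AtPrime n))) := by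
      rw [← hbs]
      exact Ideal.mul_mem_right _ _ hc
    have hb' : algebraMap D _ b ∈ q := by
      rw [hQq, Ideal.mem_comap]
      show g (algebraMap D _ b) ∈ Q
      rw [AlgHom.commutes, IsScalarTower.algebraMap_apply D (Localization.AtPrime n)
        (AdicCompletion (maximalIdeal (Localization.AtPrime n)) (Localization.AtPrime n))]
      exact hb
    have hb0 : b = 0 := by
      have : b ∈ q.comap (algebraMap D _) := hb'
      rw [hq] at this
      exact this
    rw [hb0, map_zero] at hbs
    have hs : IsUnit (algebraMap D (Localization.AtPrime n) (s : D)) :=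
      IsLocalization.map_units _ s
    exact (hs.mul_left_eq_zero).mp hbs
  haveI hreg : IsRegularLocalRing (Localization.AtPrime Q) := hD n Q hQ0
  have hbij := Groth.Agent.H23.FlatSurjLoc.localRingHom_bijective
    gr hsurj e he hker Q
  haveI : (Q.comap gr).IsPrime := Ideal.comap_isPrime _ _
  refine isRegularLocalRing_atPrime_of_eq q (Q.comap gr) hQq ?_
  exact IsRegularLocalRing.of_ringEquiv (RingEquiv.ofBijective _ hbij).symm

theorem algebraMap_mem_maximalIdeal_iff (P : Ideal A) [P.IsPrime] (a : A) :
    algebraMap A (AdicCompletion (maximalIdeal (Localization.AtPrime P)) (Localization.AtPrime P)) a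
      ∈ maximalIdeal (AdicCompletion (maximalIdeal (Localization.AtPrime P))
        (Localization.AtPrime P)) ↔ a ∈ P := by
  rw [IsScalarTower.algebraMap_apply A (Localization.AtPrime P)
    (AdicCompletion (maximalIdeal (Localization.AtPrime P)) (Localization.AtPrime P))]
  constructor
  · intro h
    by_contra ha
    have h1 : IsUnit (algebraMap A (Localization.AtPrime P) a) :=
      IsLocalization.map_units (Localization.AtPrime P) (⟨a, ha⟩ : P.primeCompl)
    exact (mem_maximalIdeal _).mp h (h1.map _)
  · intro ha
    have h1 : algebraMap A (Localization.AtPrime P) a ∈ maximalIdeal (Localization.AtPrime P) := by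
      rw [← Localization.AtPrime.map_eq_maximalIdeal]
      exact Ideal.mem_map_of_mem _ ha
    exact (IsLocalRing.map_maximalIdeal_le (algebraMap (Localization.AtPrime P)
      (AdicCompletion (maximalIdeal (Localization.AtPrime P)) (Localization.AtPrime P))))
      (Ideal.mem_map_of_mem _ h1)

/-- **Key lemma**: for a finite `A`-algebra domain `D` with `GF D`, the ring `D ⊗_A (A_P)^` is
regular at the primes lying over `0 ⊂ D`. -/
theorem isRegularLocalRing_tensor_atPrime_of_GF (hD : GF D) (P : Ideal A) [P.IsPrime]
    (q : Ideal (D ⊗[A] AdicCompletion (maximalIdeal (Localization.AtPrime P))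
      (Localization.AtPrime P))) [q.IsPrime]
    (hq : q.comap (algebraMap D (D ⊗[A] AdicCompletion (maximalIdeal (Localization.AtPrime P))
      (Localization.AtPrime P))) = ⊥) :
    IsRegularLocalRing (Localization.AtPrime q) := by
  obtain ⟨𝔐, h𝔐max, hq𝔐⟩ := Ideal.exists_le_maximal q (Ideal.IsPrime.ne_top ‹_›)
  haveI := h𝔐max
  haveI : (𝔐.comap (algebraMap D (D ⊗[A] AdicCompletion (maximalIdeal (Localization.AtPrime P))
      (Localization.AtPrime P)))).IsPrime := Ideal.comap_isPrime _ _
  refine isRegularLocalRing_tensor_atPrime_aux A D hD P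
    (𝔐.comap (algebraMap D (D ⊗[A] AdicCompletion (maximalIdeal (Localization.AtPrime P))
      (Localization.AtPrime P)))) ?_ q hq 𝔐 h𝔐max.ne_top hq𝔐 rfl
  let f : AdicCompletion (maximalIdeal (Localization.AtPrime P)) (Localization.AtPrime P) →+*
      D ⊗[A] AdicCompletion (maximalIdeal (Localization.AtPrime P)) (Localization.AtPrime P) :=
    (Algebra.TensorProduct.includeRight : _ →ₐ[A] _).toRingHom
  have hf : f.IsIntegral := by
    haveI : Algebra.IsIntegral
        (AdicCompletion (maximalIdeal (Localization.AtPrime P)) (Localization.AtPrime P))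
        (AdicCompletion (maximalIdeal (Localization.AtPrime P)) (Localization.AtPrime P) ⊗[A] D) :=
      Algebra.IsIntegral.of_finite _ _
    have h1 : (algebraMap
        (AdicCompletion (maximalIdeal (Localization.AtPrime P)) (Localization.AtPrime P))
        (AdicCompletion (maximalIdeal (Localization.AtPrime P)) (Localization.AtPrime P) ⊗[A] D)).IsIntegral :=
      algebraMap_isIntegral_iff.mpr inferInstance
    have h2 : ((Algebra.TensorProduct.comm A
        (AdicCompletion (maximalIdeal (Localization.AtPrime P)) (Localization.AtPrime P))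
        D).toRingEquiv.toRingHom).IsIntegral :=
      RingHom.isIntegral_of_surjective _ (Algebra.TensorProduct.comm A
        (AdicCompletion (maximalIdeal (Localization.AtPrime P)) (Localization.AtPrime P))
        D).toRingEquiv.surjective
    have h3 : f = ((Algebra.TensorProduct.comm A
        (AdicCompletion (maximalIdeal (Localization.AtPrime P)) (Localization.AtPrime P))
        D).toRingEquiv.toRingHom).comp (algebraMap
        (AdicCompletion (maximalIdeal (Localization.AtPrime P)) (Localization.AtPrime P))
        (AdicCompletion (maximalIdeal (Localization.AtPrime P)) (Localization.AtPrime P) ⊗[A] D)) := by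
      refine RingHom.ext fun w => ?_
      simp [f]
    rw [h3]
    exact RingHom.IsIntegral.trans _ _ h1 h2
  haveI hmax : (𝔐.comap f).IsMaximal := Ideal.isMaximal_comap_of_isIntegral_of_isMaximal' f hf 𝔐
  have h1 : 𝔐.comap f = maximalIdeal _ := IsLocalRing.eq_maximalIdeal hmax
  ext a
  rw [← algebraMap_mem_maximalIdeal_iff A P a, ← h1, Ideal.mem_comap, Ideal.mem_comap,
    Ideal.mem_comap]
  have h2 : f (algebraMap A _ a) = algebraMap D _ (algebraMap A D a) := by
    rw [← IsScalarTower.algebraMap_apply A D]
    exact (Algebra.TensorProduct.includeRight : _ →ₐ[A] _).commutes a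
  rw [h2]

end X

/-- **Criterion**: if all finite `A`-algebra domains have regular generic formal fibres, then the
completion maps of the local rings of `A` are regular. -/
theorem isRegularHom_completion_of_GF (A : Type u) [CommRing A] [IsNoetherianRing A]
    (h : ∀ (D : Type u) [CommRing D] [IsDomain D] [Algebra A D] [Module.Finite A D], GF D)
    (P : Ideal A) [P.IsPrime] :
    CAlg.IsRegularHom (Localization.AtPrime P)
      (AdicCompletion (maximalIdeal (Localization.AtPrime P)) (Localization.AtPrime P)) := by
  haveI : Module.Flat A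
      (AdicCompletion (maximalIdeal (Localization.AtPrime P)) (Localization.AtPrime P)) :=
    Module.Flat.trans A (Localization.AtPrime P) _
  have h1 : CAlg.IsRegularHom A
      (AdicCompletion (maximalIdeal (Localization.AtPrime P)) (Localization.AtPrime P)) :=
    Groth.Agent.H26.FormalFibreFinite.isRegularHom_of_finite_domains A _
      (fun p _ => Groth.Agent.H26.SkFlat.isNoetherianRing_fiber _ p)
      (fun D _ _ _ _ q _ hq => isRegularLocalRing_tensor_atPrime_of_GF A D (h D) P q hq)
  exact Groth.Agent.H23.GRDescent.isRegularHom_of_isLocalization A (Localization.AtPrime P) _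
    P.primeCompl h1

/-- a Noetherian ring all of whose finite domains have `GF` is a G-ring. -/
theorem isGRing_of_GF (A : Type u) [CommRing A] [IsNoetherianRing A]
    (h : ∀ (D : Type u) [CommRing D] [IsDomain D] [Algebra A D] [Module.Finite A D], GF D) :
    CAlg.IsGRing A :=
  ⟨inferInstance, fun P _ => isRegularHom_completion_of_GF A h P⟩

end Groth.Agent.H23.GR
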