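import Mathlib
import Groth.Agent.H23.GRStepSep

/-!
# The separable step with a polynomial hypothesis, and existence of separable powers
-/

set_option autoImplicit false
set_option linter.style.haveILetI false
set_option linter.unusedSectionVars false
set_option linter.unusedVariables false
universe u

namespace Groth.Agent.H23.GR

open IsLocalRing TensorProduct Polynomial

attribute [local instance] FractionRing.liftAlgebra

section SepPoly

variable (B C : Type u) [CommRing B] [IsDomain B] [CommRing C] [IsDomain C] [Algebra B C]
  [Module.Finite B C] [FaithfulSMul B C]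

theorem algebraMap_mem_adjoin_simple (y : C) (hgen : Algebra.adjoin B {y} = ⊤) (c : C) :
    algebraMap C (FractionRing C) c ∈
      IntermediateField.adjoin (FractionRing B) {algebraMap C (FractionRing C) y} := by
  have hc : c ∈ Algebra.adjoin B {y} := by rw [hgen]; exact Algebra.mem_top
  induction hc using Algebra.adjoin_induction with
  | mem x hx =>
    rw [Set.mem_singleton_iff] at hx
    rw [hx]
    exact IntermediateField.mem_adjoin_simple_self _ _
  | algebraMap b =>
    rw [← IsScalarTower.algebraMap_apply B C (FractionRing C),
      IsScalarTower.algebraMap_apply B (FractionRing B) (FractionRing C)]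
    exact IntermediateField.algebraMap_mem _ _
  | add x y _ _ hx hy =>
    rw [map_add]
    exact add_mem hx hy
  | mul x y _ _ hx hy =>
    rw [map_mul]
    exact mul_mem hx hy

theorem adjoin_simple_eq_top (y : C) (hgen : Algebra.adjoin B {y} = ⊤) :
    IntermediateField.adjoin (FractionRing B) {algebraMap C (FractionRing C) y} = ⊤ := by
  rw [eq_top_iff]
  rintro z -
  obtain ⟨c, c', hc', rfl⟩ := IsFractionRing.div_surjective (A := C) z
  exact div_mem (algebraMap_mem_adjoin_simple B C y hgen c)
    (algebraMap_mem_adjoin_simple B C y hgen c')

theorem isSeparable_frac_of_poly (y : C) (hgen : Algebra.adjoin B {y} = ⊤) (g : B[X])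
    (hg : aeval y g = 0) (hg' : aeval y (derivative g) ≠ 0) :
    Algebra.IsSeparable (FractionRing B) (FractionRing C) := by
  haveI : Algebra.IsIntegral B C := Algebra.IsIntegral.of_finite B C
  set y' := algebraMap C (FractionRing C) y with hy'
  have hinjC : Function.Injective (algebraMap C (FractionRing C)) :=
    IsFractionRing.injective C (FractionRing C)
  have hint : IsIntegral (FractionRing B) y' :=
    (IsIntegral.algebraMap (B := FractionRing C)
      (Algebra.IsIntegral.isIntegral (R := B) y)).tower_top
  have h1 : aeval y' (g.map (algebraMap B (FractionRing B))) = 0 := by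
    rw [aeval_map_algebraMap, hy', aeval_algebraMap_apply, hg, map_zero]
  have h2 : aeval y' (derivative (g.map (algebraMap B (FractionRing B)))) ≠ 0 := by
    rw [derivative_map, aeval_map_algebraMap, hy', aeval_algebraMap_apply]
    intro h0
    exact hg' (hinjC (by rw [h0, map_zero]))
  obtain ⟨h, hh⟩ := minpoly.dvd (FractionRing B) y' h1
  have h3 : aeval y' (derivative (minpoly (FractionRing B) y')) ≠ 0 := by
    intro h0
    apply h2
    rw [hh, derivative_mul, map_add, map_mul, map_mul, h0, minpoly.aeval, zero_mul, zero_mul,
      add_zero]
  have hsep : IsSeparable (FractionRing B) y' := by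
    show (minpoly (FractionRing B) y').Separable
    rw [separable_iff_derivative_ne_zero (minpoly.irreducible hint)]
    intro h0
    apply h3
    rw [h0, map_zero]
  haveI : Algebra.IsSeparable (FractionRing B)
      (IntermediateField.adjoin (FractionRing B) {y'}) :=
    (IntermediateField.isSeparable_adjoin_simple_iff_isSeparable _ _).mpr hsep
  rw [Algebra.isSeparable_def]
  intro x
  have hx : x ∈ IntermediateField.adjoin (FractionRing B) {y'} := by
    rw [adjoin_simple_eq_top B C y hgen]
    exact IntermediateField.mem_top
  have h4 := Algebra.IsSeparable.isSeparable (FractionRing B)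
    (⟨x, hx⟩ : IntermediateField.adjoin (FractionRing B) {y'})
  unfold IsSeparable at h4 ⊢
  rwa [IntermediateField.minpoly_eq] at h4

/-- **Separable step, polynomial form.** -/
theorem GF_of_sepPoly [IsNoetherianRing B] (y : C) (hgen : Algebra.adjoin B {y} = ⊤) (g : B[X])
    (hg : aeval y g = 0) (hg' : aeval y (derivative g) ≠ 0) (hB : GF B) : GF C := by
  haveI := isSeparable_frac_of_poly B C y hgen g hg hg'
  exact GF_of_isSeparable B C hB

/-- some `p`-power of an integral element is a root of a polynomial with nonvanishing
derivative. -/
theorem exists_sepPoly (p : ℕ) [hp : Fact p.Prime] [CharP B p] (y : C) :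
    ∃ (m : ℕ) (g : B[X]), aeval (y ^ p ^ m) g = 0 ∧ aeval (y ^ p ^ m) (derivative g) ≠ 0 := by
  haveI : Algebra.IsIntegral B C := Algebra.IsIntegral.of_finite B C
  haveI : CharP (FractionRing B) p :=
    charP_of_injective_algebraMap (IsFractionRing.injective B (FractionRing B)) p
  set y' := algebraMap C (FractionRing C) y with hy'
  have hinjC : Function.Injective (algebraMap C (FractionRing C)) :=
    IsFractionRing.injective C (FractionRing C)
  have hint : IsIntegral (FractionRing B) y' :=
    (IsIntegral.algebraMap (B := FractionRing C)
      (Algebra.IsIntegral.isIntegral (R := B) y)).tower_top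
  obtain ⟨m, g₀, hsep, hexp⟩ := exists_separable_of_irreducible p (minpoly.irreducible hint)
    hp.out.ne_zero
  have hroot : aeval (y' ^ p ^ m) g₀ = 0 := by
    rw [← expand_aeval, hexp, minpoly.aeval]
  have hder : aeval (y' ^ p ^ m) (derivative g₀) ≠ 0 := hsep.aeval_derivative_ne_zero hroot
  obtain ⟨b, hb, hspec⟩ := IsLocalization.integerNormalization_spec (nonZeroDivisors B) g₀
  rw [← algebraMap_smul (FractionRing B) b g₀] at hspec
  have hb0 : algebraMap B (FractionRing C) b ≠ 0 := by
    rw [IsScalarTower.algebraMap_apply B C (FractionRing C)]
    intro h0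
    have h1 : algebraMap B C b = 0 := hinjC (by rw [h0, map_zero])
    have h2 : b = 0 := (FaithfulSMul.algebraMap_injective B C) (by rw [h1, map_zero])
    exact nonZeroDivisors.ne_zero hb h2
  refine ⟨m, IsLocalization.integerNormalization (nonZeroDivisors B) g₀, ?_, ?_⟩
  · apply hinjC
    rw [map_zero, ← aeval_algebraMap_apply, map_pow, ← hy',
      ← aeval_map_algebraMap (FractionRing B), hspec, map_smul, hroot, smul_zero]
  · intro h0
    have h1 := congrArg (algebraMap C (FractionRing C)) h0
    rw [map_zero, ← aeval_algebraMap_apply, map_pow, ← hy',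
      ← aeval_map_algebraMap (FractionRing B), ← derivative_map, hspec, derivative_smul,
      map_smul, Algebra.smul_def, mul_eq_zero] at h1
    rcases h1 with h1 | h1
    · rw [← IsScalarTower.algebraMap_apply B (FractionRing B) (FractionRing C)] at h1
      exact hb0 h1
    · exact hder h1

end SepPoly

end Groth.Agent.H23.GR
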