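import Mathlib

/-!
# Extending a derivation of a ring to its `I`-adic completion

A derivation `D : R → R` maps `I^(n+1)` into `I^n`, hence is `I`-adically continuous and extends
to the completion.
-/

set_option autoImplicit false
set_option linter.unusedSectionVars false
set_option linter.style.haveILetI false
set_option linter.unusedVariables false
universe u

namespace Groth.Agent.H23.DerivCompl

open AdicCompletion

variable {R : Type u} [CommRing R] (I : Ideal R) (D : Derivation ℤ R R)

theorem map_mem_pow (n : ℕ) {x : R} (hx : x ∈ I ^ (n + 1)) : D x ∈ I ^ n := by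
  induction n generalizing x with
  | zero => simp
  | succ n ih =>
    rw [pow_succ] at hx
    refine Submodule.mul_induction_on hx ?_ ?_
    · intro a ha b hb
      rw [D.leibniz, smul_eq_mul, smul_eq_mul]
      refine Ideal.add_mem _ ((I ^ (n + 1)).mul_mem_right _ ha) ?_
      rw [pow_succ', ]
      exact Ideal.mul_mem_mul hb (ih ha)
    · intro a b ha hb
      rw [map_add]
      exact Ideal.add_mem _ ha hb

theorem mk_D_eq (n : ℕ) {r s : R}
    (h : Ideal.Quotient.mk (I ^ (n + 1)) r = Ideal.Quotient.mk (I ^ (n + 1)) s) :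
    Ideal.Quotient.mk (I ^ n) (D r) = Ideal.Quotient.mk (I ^ n) (D s) := by
  rw [Ideal.Quotient.eq] at h ⊢
  rw [← map_sub]
  exact map_mem_pow I D n h

theorem mk_eq_of_succ (n : ℕ) {r s : R}
    (h : Ideal.Quotient.mk (I ^ (n + 1)) r = Ideal.Quotient.mk (I ^ (n + 1)) s) :
    Ideal.Quotient.mk (I ^ n) r = Ideal.Quotient.mk (I ^ n) s := by
  rw [Ideal.Quotient.eq] at h ⊢
  exact Ideal.pow_le_pow_right (Nat.le_succ n) h

/-- the shifted sequence `n ↦ D (a (n+1))`. -/
noncomputable def dSeq (a : AdicCauchySequence I R) : AdicCauchySequence I R :=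
  ⟨fun n => D (a.val (n + 1)), by
    intro m n hmn
    have h1 : Ideal.Quotient.mk (I ^ (m + 1)) (a.val (m + 1)) =
        Ideal.Quotient.mk (I ^ (m + 1)) (a.val (n + 1)) :=
      (AdicCompletion.Ideal.mk_eq_mk I (Nat.succ_le_succ hmn) a).symm
    have h2 := mk_D_eq I D m h1
    rw [SModEq.def]
    have h : (I ^ m • ⊤ : Ideal R) = I ^ m := by simp
    rw [Ideal.Quotient.eq] at h2
    rw [Submodule.Quotient.eq, h]
    exact h2⟩

/-- the extended derivation, as a function. -/
noncomputable def dHat (x : AdicCompletion I R) : AdicCompletion I R :=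
  AdicCompletion.mk I R (dSeq I D (Classical.choose (AdicCompletion.mk_surjective I R x)))

theorem evalₐ_of_succ (n : ℕ) (x : AdicCompletion I R) (r : R)
    (h : evalₐ I (n + 1) x = Ideal.Quotient.mk (I ^ (n + 1)) r) :
    evalₐ I n x = Ideal.Quotient.mk (I ^ n) r := by
  obtain ⟨a, rfl⟩ := AdicCompletion.mk_surjective I R x
  rw [evalₐ_mk] at h ⊢
  rw [← AdicCompletion.Ideal.mk_eq_mk I (Nat.le_succ n) a]
  exact mk_eq_of_succ I n h

theorem evalₐ_dHat (n : ℕ) (x : AdicCompletion I R) (r : R)
    (h : evalₐ I (n + 1) x = Ideal.Quotient.mk (I ^ (n + 1)) r) :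
    evalₐ I n (dHat I D x) = Ideal.Quotient.mk (I ^ n) (D r) := by
  have hx := Classical.choose_spec (AdicCompletion.mk_surjective I R x)
  unfold dHat
  rw [evalₐ_mk]
  show Ideal.Quotient.mk (I ^ n)
    (D ((Classical.choose (AdicCompletion.mk_surjective I R x)).val (n + 1))) = _
  apply mk_D_eq I D n
  rw [← evalₐ_mk, hx, h]

theorem dHat_add (x y : AdicCompletion I R) : dHat I D (x + y) = dHat I D x + dHat I D y := by
  apply ext_evalₐ
  intro n
  obtain ⟨r, hr⟩ := Ideal.Quotient.mk_surjective (evalₐ I (n + 1) x)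
  obtain ⟨s, hs⟩ := Ideal.Quotient.mk_surjective (evalₐ I (n + 1) y)
  rw [map_add, evalₐ_dHat I D n x r hr.symm, evalₐ_dHat I D n y s hs.symm,
    evalₐ_dHat I D n (x + y) (r + s) (by rw [map_add, map_add, hr, hs]), map_add, map_add]

theorem dHat_zero : dHat I D 0 = 0 := by
  have := dHat_add I D 0 0
  rw [add_zero] at this
  exact left_eq_add.mp this

theorem dHat_mul (x y : AdicCompletion I R) :
    dHat I D (x * y) = x * dHat I D y + y * dHat I D x := by
  apply ext_evalₐ
  intro n
  obtain ⟨r, hr⟩ := Ideal.Quotient.mk_surjective (evalₐ I (n + 1) x)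
  obtain ⟨s, hs⟩ := Ideal.Quotient.mk_surjective (evalₐ I (n + 1) y)
  rw [map_add, map_mul, map_mul, evalₐ_dHat I D n x r hr.symm, evalₐ_dHat I D n y s hs.symm,
    evalₐ_dHat I D n (x * y) (r * s) (by rw [map_mul, map_mul, hr, hs]),
    evalₐ_of_succ I n x r hr.symm, evalₐ_of_succ I n y s hs.symm, D.leibniz, smul_eq_mul,
    smul_eq_mul, map_add, map_mul, map_mul]

theorem dHat_of (r : R) : dHat I D (of I R r) = of I R (D r) := by
  apply ext_evalₐ
  intro n
  rw [evalₐ_dHat I D n (of I R r) r (evalₐ_of I (n + 1) r), evalₐ_of]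

/-- **The extension of a derivation to the adic completion.** -/
noncomputable def extend : Derivation ℤ (AdicCompletion I R) (AdicCompletion I R) :=
  Derivation.mk'
    ((AddMonoidHom.mk' (dHat I D) (dHat_add I D)).toIntLinearMap)
    (fun a b => by
      show dHat I D (a * b) = a • dHat I D b + b • dHat I D a
      rw [dHat_mul, smul_eq_mul, smul_eq_mul])

theorem extend_apply (x : AdicCompletion I R) : extend I D x = dHat I D x := rfl

@[simp] theorem extend_of (r : R) : extend I D (of I R r) = of I R (D r) := dHat_of I D r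

theorem extend_algebraMap (r : R) :
    extend I D (algebraMap R (AdicCompletion I R) r) = algebraMap R (AdicCompletion I R) (D r) :=
  dHat_of I D r

end Groth.Agent.H23.DerivCompl
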