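import Mathlib
import Groth.Agent.H23.DerivCompl
import Groth.Agent.H11.DerivLoc

/-!
# `ℤ`-derivations with canonical instances

To avoid diamonds between the various `Algebra ℤ _` instances on localizations, completions and
tensor products, we fix the canonical instance `Ring.toIntAlgebra`.
-/

set_option autoImplicit false
set_option linter.unusedSectionVars false
set_option linter.style.haveILetI false
universe u v

namespace Groth.Agent.H23

/-- `ℤ`-derivations of a commutative ring, with the canonical `ℤ`-algebra structure. -/
abbrev IntDer (A : Type u) [CommRing A] : Type u :=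
  @Derivation ℤ A A Int.instCommSemiring _ _ (Ring.toIntAlgebra A) _ (AddCommGroup.toIntModule A)

namespace IntDer

variable {A : Type u} [CommRing A]

/-- build a derivation from an additive map satisfying the Leibniz rule. -/
noncomputable def ofAddHom (d : A →+ A) (h : ∀ a b, d (a * b) = a * d b + b * d a) : IntDer A :=
  Derivation.mk' d.toIntLinearMap (fun a b => by
    show d (a * b) = a • d b + b • d a
    rw [h, smul_eq_mul, smul_eq_mul])

@[simp] theorem ofAddHom_apply (d : A →+ A) (h : ∀ a b, d (a * b) = a * d b + b * d a) (a : A) :
    ofAddHom d h a = d a := rfl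

variable {R : Type u} {L : Type v} [CommRing R] [CommRing L] [Algebra R L]

/-- extension to a localization. -/
noncomputable def loc (M : Submonoid R) [IsLocalization M L] (D : IntDer R) : IntDer L :=
  Groth.Agent.H11.DerivLoc.extend M (LinearMap.compDer (Algebra.linearMap R L) D)

theorem loc_algebraMap (M : Submonoid R) [IsLocalization M L] (D : IntDer R) (r : R) :
    loc M D (algebraMap R L r) = algebraMap R L (D r) := by
  unfold loc
  rw [Groth.Agent.H11.DerivLoc.extend_algebraMap]
  rfl

/-- extension to the adic completion. -/
noncomputable def compl (I : Ideal R) (D : IntDer R) : IntDer (AdicCompletion I R) :=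
  ofAddHom (AddMonoidHom.mk' (Groth.Agent.H23.DerivCompl.dHat I D)
      (Groth.Agent.H23.DerivCompl.dHat_add I D))
    (fun a b => Groth.Agent.H23.DerivCompl.dHat_mul I D a b)

theorem compl_algebraMap (I : Ideal R) (D : IntDer R) (r : R) :
    compl I D (algebraMap R (AdicCompletion I R) r) =
      algebraMap R (AdicCompletion I R) (D r) :=
  Groth.Agent.H23.DerivCompl.dHat_of I D r

end IntDer

end Groth.Agent.H23
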