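import Mathlib
import Groth.Agent.H23.GRStepSep
import Groth.Agent.H23.DerivCompl
import Groth.Agent.H23.IntDer
import Groth.Agent.H46.RegularDeriv

/-!
# The `p`-th root step (Stacks 07PS, inductive step)

`B ⊆ C = B[a]` finite extension of Noetherian domains of characteristic `p`, `a^p = f ∈ B` not a
`p`-th power in `Frac B`, and a derivation `D` of `B` with `D f ≠ 0`.  Then `GF B → GF C`.
-/

set_option autoImplicit false
set_option linter.style.haveILetI false
set_option linter.unusedSectionVars false
set_option linter.unusedVariables false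
universe u

namespace Groth.Agent.H23.GR

open IsLocalRing TensorProduct Polynomial

attribute [local instance] FractionRing.liftAlgebra

section Deriv

variable (B : Type u) [CommRing B] [IsDomain B] [IsNoetherianRing B] (r : Ideal B) [r.IsPrime]

local notation "Br" => Localization.AtPrime r
local notation "B̂" => AdicCompletion (maximalIdeal (Localization.AtPrime r)) (Localization.AtPrime r)
local notation "K" => FractionRing B

/-- a derivation of `B` extends to `(B_r)^ ⊗_B Frac B`. -/
theorem exists_derivation_tensor (D : IntDer B) :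
    ∃ D' : IntDer (B̂ ⊗[B] K),
      ∀ b : B, D' (algebraMap B (B̂ ⊗[B] K) b) = algebraMap B (B̂ ⊗[B] K) (D b) := by
  let M : Submonoid B̂ := Algebra.algebraMapSubmonoid B̂ (nonZeroDivisors B)
  haveI hloc : IsLocalization M (B̂ ⊗[B] K) := IsLocalization.tensor K (nonZeroDivisors B)
  refine ⟨IntDer.loc M (IntDer.compl (maximalIdeal Br) (IntDer.loc r.primeCompl D)), fun b => ?_⟩
  rw [IsScalarTower.algebraMap_apply B B̂ (B̂ ⊗[B] K), IntDer.loc_algebraMap,
    IsScalarTower.algebraMap_apply B Br B̂, IntDer.compl_algebraMap, IntDer.loc_algebraMap,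
    ← IsScalarTower.algebraMap_apply B Br B̂, ← IsScalarTower.algebraMap_apply B B̂ (B̂ ⊗[B] K)]

theorem isUnit_algebraMap_tensor (b : B) (hb : b ≠ 0) :
    IsUnit (algebraMap B (B̂ ⊗[B] K) b) := by
  let M : Submonoid B̂ := Algebra.algebraMapSubmonoid B̂ (nonZeroDivisors B)
  haveI hloc : IsLocalization M (B̂ ⊗[B] K) := IsLocalization.tensor K (nonZeroDivisors B)
  rw [IsScalarTower.algebraMap_apply B B̂ (B̂ ⊗[B] K)]
  exact IsLocalization.map_units (B̂ ⊗[B] K)
    (⟨algebraMap B B̂ b, ⟨b, mem_nonZeroDivisors_of_ne_zero hb, rfl⟩⟩ : M)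

end Deriv

section Field

variable (p : ℕ) [hp : Fact p.Prime] (B C : Type u) [CommRing B] [IsDomain B]
  [CommRing C] [IsDomain C] [Algebra B C] [FaithfulSMul B C]

local notation "K" => FractionRing B
local notation "K'" => FractionRing C

/-- `Frac C ≅ (Frac B)[X]/(X^p - f)` when `C = B[a]`, `a^p = f` not a `p`-th power. -/
theorem exists_algEquiv_adjoinRoot (a : C) (f : B) (haf : a ^ p = algebraMap B C f)
    (hgen : Algebra.adjoin B {a} = ⊤)
    (hf : ∀ x : K, x ^ p ≠ algebraMap B K f) :
    Nonempty (AdjoinRoot (X ^ p - Polynomial.C (algebraMap B K f) : K[X]) ≃ₐ[K] K') := by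
  have hirr : Irreducible (X ^ p - Polynomial.C (algebraMap B K f) : K[X]) :=
    X_pow_sub_C_irreducible_of_prime hp.out hf
  haveI : Fact (Irreducible (X ^ p - Polynomial.C (algebraMap B K f) : K[X])) := ⟨hirr⟩
  have hroot : eval₂ (Algebra.ofId K K' : K →+* K') (algebraMap C K' a)
      (X ^ p - Polynomial.C (algebraMap B K f) : K[X]) = 0 := by
    rw [eval₂_sub, eval₂_pow, eval₂_X, eval₂_C, ← map_pow, haf, sub_eq_zero]
    show algebraMap C K' (algebraMap B C f) = algebraMap K K' (algebraMap B K f)
    rw [← IsScalarTower.algebraMap_apply B C K', ← IsScalarTower.algebraMap_apply B K K']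
  let φ : AdjoinRoot (X ^ p - Polynomial.C (algebraMap B K f) : K[X]) →ₐ[K] K' :=
    AdjoinRoot.liftAlgHom _ (Algebra.ofId K K') (algebraMap C K' a) hroot
  have hφroot : φ (AdjoinRoot.root _) = algebraMap C K' a := by
    simp [φ]
  have hinj : Function.Injective φ := fun x y h =>
    (RingHom.injective (φ : AdjoinRoot (X ^ p - Polynomial.C (algebraMap B K f) : K[X]) →+* K')) h
  have hC : ∀ c : C, algebraMap C K' c ∈ φ.range := by
    intro c
    have hc : c ∈ Algebra.adjoin B {a} := by rw [hgen]; exact Algebra.mem_top
    induction hc using Algebra.adjoin_induction with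
    | mem x hx =>
      rw [Set.mem_singleton_iff] at hx
      rw [hx]
      exact ⟨_, hφroot⟩
    | algebraMap b =>
      refine ⟨algebraMap K _ (algebraMap B K b), ?_⟩
      show φ (algebraMap K _ (algebraMap B K b)) = _
      rw [AlgHom.commutes, ← IsScalarTower.algebraMap_apply B K K',
        ← IsScalarTower.algebraMap_apply B C K']
    | add x y _ _ hx hy =>
      rw [map_add]
      exact add_mem hx hy
    | mul x y _ _ hx hy =>
      rw [map_mul]
      exact mul_mem hx hy
  have hsurj : Function.Surjective φ := by
    intro z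
    obtain ⟨c, c', hc', rfl⟩ := IsFractionRing.div_surjective (A := C) z
    obtain ⟨x, hx⟩ := hC c
    obtain ⟨x', hx'⟩ := hC c'
    have hx1 : φ x = algebraMap C K' c := hx
    have hx2 : φ x' = algebraMap C K' c' := hx'
    exact ⟨x / x', by rw [map_div₀, hx1, hx2]⟩
  exact ⟨AlgEquiv.ofBijective φ ⟨hinj, hsurj⟩⟩

end Field

section Main

variable (p : ℕ) [hp : Fact p.Prime] (B C : Type u) [CommRing B] [IsDomain B] [IsNoetherianRing B]
  [CharP B p] [CommRing C] [IsDomain C] [Algebra B C] [Module.Finite B C] [FaithfulSMul B C]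

/-- **Root step.** -/
theorem GF_of_root (a : C) (f : B) (haf : a ^ p = algebraMap B C f)
    (hgen : Algebra.adjoin B {a} = ⊤)
    (hf : ∀ x : FractionRing B, x ^ p ≠ algebraMap B (FractionRing B) f)
    (D : IntDer B) (hD : D f ≠ 0) (hB : GF B) : GF C := by
  intro r' _ Q _ hQ
  set r : Ideal B := Ideal.comap (algebraMap B C) r' with hr
  -- regularity of `R = (B_r)^ ⊗ Frac B`
  haveI r1 : IsRegularRing
      (AdicCompletion (maximalIdeal (Localization.AtPrime r)) (Localization.AtPrime r) ⊗[B]
        FractionRing B) :=
    Groth.Agent.H23.GRTransfer.isRegularRing_tensor_of_forall B r (FractionRing B)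
      (fun Q' _ hQ' => hB r Q' hQ')
  -- the derivation
  obtain ⟨D', hD'⟩ := exists_derivation_tensor B r D
  have hunit : IsUnit (D' (algebraMap B _ f)) := by
    rw [hD']
    exact isUnit_algebraMap_tensor B r (D f) hD
  have h46 := Groth.Agent.H46.isRegularRing_polynomial_quotient_of_derivation _
    (algebraMap B (AdicCompletion (maximalIdeal (Localization.AtPrime r))
      (Localization.AtPrime r) ⊗[B] FractionRing B) f) D' hunit (X ^ p)
  rw [Polynomial.map_pow, Polynomial.map_X] at h46
  -- the field extension
  obtain ⟨e⟩ := exists_algEquiv_adjoinRoot p B C a f haf hgen hf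
  -- base change of `AdjoinRoot`
  have hq : (X ^ p - Polynomial.C (algebraMap B (FractionRing B) f) : (FractionRing B)[X]).map
      (Algebra.TensorProduct.includeRight :
        FractionRing B →ₐ[B] AdicCompletion (maximalIdeal (Localization.AtPrime r))
          (Localization.AtPrime r) ⊗[B] FractionRing B).toRingHom =
      X ^ p - Polynomial.C (algebraMap B (AdicCompletion (maximalIdeal (Localization.AtPrime r))
        (Localization.AtPrime r) ⊗[B] FractionRing B) f) := by
    rw [Polynomial.map_sub, Polynomial.map_pow, Polynomial.map_X, Polynomial.map_C]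
    congr 2
    show (1 : AdicCompletion (maximalIdeal (Localization.AtPrime r))
      (Localization.AtPrime r)) ⊗ₜ[B] (algebraMap B (FractionRing B) f) = _
    rw [Algebra.algebraMap_eq_smul_one, TensorProduct.tmul_smul, Algebra.algebraMap_eq_smul_one]
    rfl
  let e1 := AdjoinRoot.tensorAlgEquiv (R := B) (T := AdicCompletion
    (maximalIdeal (Localization.AtPrime r)) (Localization.AtPrime r))
    (X ^ p - Polynomial.C (algebraMap B (FractionRing B) f) : (FractionRing B)[X]) _ hq
  haveI r2 : IsRegularRing (AdicCompletion (maximalIdeal (Localization.AtPrime r))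
      (Localization.AtPrime r) ⊗[B]
        AdjoinRoot (X ^ p - Polynomial.C (algebraMap B (FractionRing B) f) : (FractionRing B)[X])) := by
    haveI : IsRegularRing (AdjoinRoot (X ^ p - Polynomial.C (algebraMap B
      (AdicCompletion (maximalIdeal (Localization.AtPrime r))
        (Localization.AtPrime r) ⊗[B] FractionRing B) f))) := h46
    exact IsRegularRing.of_ringEquiv e1.symm.toRingEquiv
  let e2 : AdicCompletion (maximalIdeal (Localization.AtPrime r)) (Localization.AtPrime r) ⊗[B]
      AdjoinRoot (X ^ p - Polynomial.C (algebraMap B (FractionRing B) f) : (FractionRing B)[X]) ≃ₐ[B]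
      AdicCompletion (maximalIdeal (Localization.AtPrime r)) (Localization.AtPrime r) ⊗[B]
        FractionRing C :=
    Algebra.TensorProduct.congr AlgEquiv.refl (e.restrictScalars B)
  haveI r3 : IsRegularRing (AdicCompletion (maximalIdeal (Localization.AtPrime r))
      (Localization.AtPrime r) ⊗[B] FractionRing C) :=
    IsRegularRing.of_ringEquiv e2.toRingEquiv
  haveI r7 : IsRegularRing (FractionRing C ⊗[B]
      AdicCompletion (maximalIdeal (Localization.AtPrime r)) (Localization.AtPrime r)) :=
    IsRegularRing.of_ringEquiv (Algebra.TensorProduct.comm B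
      (AdicCompletion (maximalIdeal (Localization.AtPrime r)) (Localization.AtPrime r))
      (FractionRing C)).toRingEquiv
  exact Groth.Agent.H23.GRTransfer.isRegularLocalRing_completion_atPrime_of_tensor B r'
    (FractionRing C) r7 Q hQ

end Main

end Groth.Agent.H23.GR
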