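import Mathlib
import Groth.Agent.H23.GRSepPoly
import Groth.Agent.H23.GRStepRoot

/-!
# The tower argument (Stacks 07PS): `GF` for all finite domains over `A₀`

`A₀` a Noetherian ring of characteristic `p` with `GF A₀` such that every finite injective
`A₀`-domain `B` has the derivation property (`f ∈ B` not a `p`-th power in `Frac B` implies
`D f ≠ 0` for some derivation `D` of `B`).  Then every finite injective `A₀`-domain has `GF`.
-/

set_option autoImplicit false
set_option linter.style.haveILetI false
set_option linter.unusedSectionVars false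
set_option linter.unusedVariables false
universe u

namespace Groth.Agent.H23.GR

open IsLocalRing TensorProduct Polynomial

attribute [local instance] FractionRing.liftAlgebra

/-- the derivation property for finite injective `A₀`-domains. -/
def HasDer (p : ℕ) (A₀ : Type u) [CommRing A₀] : Prop :=
  ∀ (B : Type u) [CommRing B] [IsDomain B] [Algebra A₀ B] [Module.Finite A₀ B],
    Function.Injective (algebraMap A₀ B) → ∀ f : B,
      (∀ x : FractionRing B, x ^ p ≠ algebraMap B (FractionRing B) f) → ∃ D : IntDer B, D f ≠ 0

variable (p : ℕ) [hp : Fact p.Prime] (A₀ : Type u) [CommRing A₀] [IsNoetherianRing A₀] [CharP A₀ p]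

section Aux

variable (B C : Type u) [CommRing B] [CommRing C] [IsDomain C] [Algebra B C]

/-- generators of `C` over `B` also generate over an intermediate subalgebra. -/
theorem adjoin_eq_top_of_le (C₁ : Subalgebra B C) (y : C) (hgen : Algebra.adjoin B {y} = ⊤) :
    Algebra.adjoin C₁ {y} = ⊤ := by
  rw [eq_top_iff]
  rintro c -
  have hc : c ∈ Algebra.adjoin B {y} := by rw [hgen]; exact Algebra.mem_top
  induction hc using Algebra.adjoin_induction with
  | mem x hx => exact Algebra.subset_adjoin hx
  | algebraMap b =>
    have : algebraMap B C b = algebraMap C₁ C (algebraMap B C₁ b) := rfl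
    rw [this]
    exact Subalgebra.algebraMap_mem _ _
  | add x y _ _ hx hy => exact add_mem hx hy
  | mul x y _ _ hx hy => exact mul_mem hx hy

/-- the tautological generator of `B[z]`. -/
theorem adjoin_singleton_eq_top (z : C) :
    Algebra.adjoin B {(⟨z, Algebra.subset_adjoin (Set.mem_singleton z)⟩ : Algebra.adjoin B {z})} =
      ⊤ := by
  apply Subalgebra.map_injective (f := (Algebra.adjoin B {z}).val) Subtype.val_injective
  rw [AlgHom.map_adjoin, Algebra.map_top, Subalgebra.range_val, Set.image_singleton]
  rfl

end Aux

/-- **One generator**, by induction on the exponent `m` such that `y^(p^m)` is separable. -/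
theorem GF_of_adjoin_pow (hder : HasDer p A₀) (m : ℕ) :
    ∀ (B C : Type u) [CommRing B] [IsDomain B] [CommRing C] [IsDomain C] [Algebra A₀ B]
      [Algebra A₀ C] [Algebra B C] [IsScalarTower A₀ B C] [Module.Finite A₀ B]
      [Module.Finite A₀ C] [FaithfulSMul B C]
      (hinj : Function.Injective (algebraMap A₀ C)) (y : C) (hgen : Algebra.adjoin B {y} = ⊤)
      (g : B[X]) (hg : aeval (y ^ p ^ m) g = 0) (hg' : aeval (y ^ p ^ m) (derivative g) ≠ 0)
      (hB : GF B), GF C := by
  induction m with
  | zero =>
    intro B C _ _ _ _ _ _ _ _ _ _ _ hinj y hgen g hg hg' hB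
    haveI : IsNoetherianRing B := IsNoetherianRing.of_finite A₀ B
    haveI : Module.Finite B C := Module.Finite.of_restrictScalars_finite A₀ B C
    rw [pow_zero, pow_one] at hg hg'
    exact GF_of_sepPoly B C y hgen g hg hg' hB
  | succ m ih =>
    intro B C _ _ _ _ _ _ _ _ _ _ _ hinj y hgen g hg hg' hB
    haveI : IsNoetherianRing B := IsNoetherianRing.of_finite A₀ B
    -- the intermediate ring `C₁ = B[y^p]`
    let C₁ : Subalgebra B C := Algebra.adjoin B {y ^ p}
    let z₁ : C₁ := ⟨y ^ p, Algebra.subset_adjoin (Set.mem_singleton _)⟩
    haveI : IsNoetherian A₀ C := isNoetherian_of_isNoetherianRing_of_finite A₀ C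
    haveI hfin₁ : Module.Finite A₀ C₁ :=
      Module.Finite.of_injective (IsScalarTower.toAlgHom A₀ C₁ C).toLinearMap Subtype.val_injective
    have hinj₁ : Function.Injective (algebraMap A₀ C₁) := by
      intro a b hab
      apply hinj
      have := congrArg (algebraMap C₁ C) hab
      rwa [← IsScalarTower.algebraMap_apply, ← IsScalarTower.algebraMap_apply] at this
    haveI : FaithfulSMul B C₁ := by
      rw [faithfulSMul_iff_algebraMap_injective]
      intro a b hab
      apply FaithfulSMul.algebraMap_injective B C
      have := congrArg (algebraMap C₁ C) hab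
      rwa [← IsScalarTower.algebraMap_apply, ← IsScalarTower.algebraMap_apply] at this
    have hgen₁ : Algebra.adjoin B {z₁} = ⊤ := adjoin_singleton_eq_top B C (y ^ p)
    have hpow : (y ^ p) ^ p ^ m = y ^ p ^ (m + 1) := by
      rw [← pow_mul, ← pow_succ']
    have hg₁ : aeval (z₁ ^ p ^ m) g = 0 := by
      apply Subtype.val_injective
      rw [← Subalgebra.aeval_coe]
      show aeval ((y ^ p) ^ p ^ m) g = 0
      rw [hpow, hg]
    have hg₁' : aeval (z₁ ^ p ^ m) (derivative g) ≠ 0 := by
      intro h0
      apply hg'
      have := congrArg Subtype.val h0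
      rw [← Subalgebra.aeval_coe] at this
      rw [← hpow]
      exact this
    have hC₁ : GF C₁ := ih B C₁ hinj₁ z₁ hgen₁ g hg₁ hg₁' hB
    -- from `C₁` to `C = C₁[y]`
    haveI : IsNoetherianRing C₁ := IsNoetherianRing.of_finite A₀ C₁
    haveI : Module.Finite C₁ C := Module.Finite.of_restrictScalars_finite A₀ C₁ C
    haveI : CharP C₁ p := charP_of_injective_algebraMap hinj₁ p
    haveI : CharP C p := charP_of_injective_algebraMap hinj p
    have hgen' : Algebra.adjoin C₁ {y} = ⊤ := adjoin_eq_top_of_le B C C₁ y hgen
    by_cases hpw : ∃ x : FractionRing C₁, x ^ p = algebraMap C₁ (FractionRing C₁) z₁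
    · -- trivial extension of fraction fields
      obtain ⟨x, hx⟩ := hpw
      obtain ⟨t, s, hs, rfl⟩ := IsFractionRing.div_surjective (A := C₁) x
      have hs0 : s ≠ 0 := nonZeroDivisors.ne_zero hs
      haveI : CharP (FractionRing C) p :=
        charP_of_injective_algebraMap (IsFractionRing.injective C (FractionRing C)) p
      haveI : ExpChar (FractionRing C) p := ExpChar.prime hp.out
      have hinjC : Function.Injective (algebraMap C (FractionRing C)) :=
        IsFractionRing.injective C (FractionRing C)
      have h1 : (algebraMap C (FractionRing C) (t : C) / algebraMap C (FractionRing C) (s : C)) ^ p =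
          (algebraMap C (FractionRing C) y) ^ p := by
        have h2 := congrArg (algebraMap (FractionRing C₁) (FractionRing C)) hx
        rw [map_pow, map_div₀, ← IsScalarTower.algebraMap_apply C₁ (FractionRing C₁) (FractionRing C),
          ← IsScalarTower.algebraMap_apply C₁ (FractionRing C₁) (FractionRing C),
          ← IsScalarTower.algebraMap_apply C₁ (FractionRing C₁) (FractionRing C),
          IsScalarTower.algebraMap_apply C₁ C (FractionRing C),
          IsScalarTower.algebraMap_apply C₁ C (FractionRing C) s,
          IsScalarTower.algebraMap_apply C₁ C (FractionRing C) z₁] at h2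
        exact h2.trans (by rw [← map_pow]; rfl)
      have h3 := frobenius_inj (FractionRing C) p h1
      have hs' : algebraMap C (FractionRing C) (s : C) ≠ 0 := by
        intro h0
        exact hs0 (Subtype.val_injective (hinjC (h0.trans (map_zero _).symm)))
      have h4 : (s : C) * y = (t : C) := by
        apply hinjC
        rw [map_mul, ← h3, mul_div_cancel₀ _ hs']
      refine GF_of_sepPoly C₁ C y hgen' (Polynomial.C s * X - Polynomial.C t) ?_ ?_ hC₁
      · rw [map_sub, map_mul, aeval_C, aeval_X, aeval_C]
        show (s : C) * y - (t : C) = 0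
        rw [h4, sub_self]
      · rw [derivative_sub, derivative_C, sub_zero, derivative_C_mul, derivative_X, mul_one,
          aeval_C]
        show (s : C) ≠ 0
        exact fun h0 => hs0 (Subtype.val_injective h0)
    · push Not at hpw
      obtain ⟨D, hD⟩ := hder C₁ hinj₁ z₁ hpw
      exact GF_of_root p C₁ C y z₁ rfl hgen' hpw D hD hC₁


/-- **Finitely many generators**, by induction on their number. -/
theorem GF_of_generators (hder : HasDer p A₀) (hA : GF A₀) (m : ℕ) :
    ∀ (T : Type u) [CommRing T] [IsDomain T] [Algebra A₀ T] [Module.Finite A₀ T]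
      (hinj : Function.Injective (algebraMap A₀ T)) (s : Fin m → T)
      (hs : Algebra.adjoin A₀ (Set.range s) = ⊤), GF T := by
  induction m with
  | zero =>
    intro T _ _ _ _ hinj s hs
    haveI : IsDomain A₀ := hinj.isDomain _
    haveI : FaithfulSMul A₀ T := (faithfulSMul_iff_algebraMap_injective A₀ T).mpr hinj
    have hgen : Algebra.adjoin A₀ {(1 : T)} = ⊤ := by
      rw [eq_top_iff, ← hs]
      refine Algebra.adjoin_le ?_
      rintro _ ⟨i, rfl⟩
      exact i.elim0
    refine GF_of_sepPoly A₀ T 1 hgen (X - Polynomial.C 1) ?_ ?_ hA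
    · simp
    · simp
  | succ m ih =>
    intro T _ _ _ _ hinj s hs
    let S : Subalgebra A₀ T := Algebra.adjoin A₀ (Set.range fun i : Fin m => s i.castSucc)
    let s' : Fin m → S := fun i => ⟨s i.castSucc, Algebra.subset_adjoin ⟨i, rfl⟩⟩
    haveI : IsNoetherian A₀ T := isNoetherian_of_isNoetherianRing_of_finite A₀ T
    haveI hfinS : Module.Finite A₀ S :=
      Module.Finite.of_injective S.val.toLinearMap Subtype.val_injective
    have hinjS : Function.Injective (algebraMap A₀ S) := by
      intro a b hab
      apply hinj
      exact congrArg Subtype.val hab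
    have hs' : Algebra.adjoin A₀ (Set.range s') = ⊤ := by
      apply Subalgebra.map_injective (f := S.val) Subtype.val_injective
      rw [AlgHom.map_adjoin, Algebra.map_top, Subalgebra.range_val, ← Set.range_comp]
      rfl
    have hS : GF S := ih S hinjS s' hs'
    -- `T = S[y]`
    set y : T := s (Fin.last m) with hy
    have hgen : Algebra.adjoin S {y} = ⊤ := by
      rw [eq_top_iff]
      rintro t -
      have ht : t ∈ Algebra.adjoin A₀ (Set.range s) := by rw [hs]; exact Algebra.mem_top
      induction ht using Algebra.adjoin_induction with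
      | mem x hx =>
        obtain ⟨i, rfl⟩ := hx
        rcases Fin.eq_castSucc_or_eq_last i with ⟨j, rfl⟩ | rfl
        · exact Subalgebra.algebraMap_mem _ (s' j)
        · exact Algebra.subset_adjoin rfl
      | algebraMap a =>
        have : algebraMap A₀ T a = algebraMap S T (algebraMap A₀ S a) := rfl
        rw [this]
        exact Subalgebra.algebraMap_mem _ _
      | add x y _ _ hx hy => exact add_mem hx hy
      | mul x y _ _ hx hy => exact mul_mem hx hy
    haveI : Module.Finite S T := Module.Finite.of_restrictScalars_finite A₀ S T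
    haveI : CharP S p := charP_of_injective_algebraMap hinjS p
    obtain ⟨m', g, hg, hg'⟩ := exists_sepPoly S T p y
    exact GF_of_adjoin_pow p A₀ hder m' S T hinj y hgen g hg hg' hS

/-- **Main theorem of the tower argument.** -/
theorem GF_of_finite (hder : HasDer p A₀) (hA : GF A₀)
    (T : Type u) [CommRing T] [IsDomain T] [Algebra A₀ T] [Module.Finite A₀ T]
    (hinj : Function.Injective (algebraMap A₀ T)) : GF T := by
  classical
  obtain ⟨s, hs⟩ := ((inferInstance : Algebra.FiniteType A₀ T).out : (⊤ : Subalgebra A₀ T).FG)
  refine GF_of_generators p A₀ hder hA s.card T hinj (fun i => (s.equivFin.symm i : T)) ?_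
  rw [← hs]
  congr 1
  ext x
  constructor
  · rintro ⟨i, rfl⟩
    exact (s.equivFin.symm i).2
  · intro hx
    exact ⟨s.equivFin ⟨x, hx⟩, by simp⟩

end Groth.Agent.H23.GR
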