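import Mathlib
import Groth.Agent.H23.GRTower
import Groth.Agent.H23.GRCrit
import Groth.Agent.H23.FormalFibreChar0
import Groth.Agent.S0581
import Groth.Agent.H47.CoeffFieldP
import Groth.Agent.H96.CohenFinite2
import Groth.Agent.H47.PSReg
import Groth.Agent.H72.QFFormal1
import Groth.Agent.H72.HensGeomInt
import Groth.Agent.H22.FinitePart

/-!
# Complete Noetherian local domains have regular generic formal fibres (`GF`)

Assuming the derivation property `HasDer p k[[X_1..X_n]]` in characteristic `p`.
-/

set_option autoImplicit false
set_option linter.style.haveILetI false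
set_option linter.unusedSectionVars false
set_option linter.unusedVariables false
universe u

namespace Groth.Agent.H23.GR

open IsLocalRing TensorProduct

/-- power series rings over a field or a Cohen ring are regular local rings. -/
theorem isRegularLocalRing_ps (Λ : Type u) [CommRing Λ] (hΛ : IsField Λ ∨ CAlg.IsCohenRing Λ)
    (n : ℕ) : IsRegularLocalRing (MvPowerSeries (Fin n) Λ) := by
  rcases hΛ with hΛ | hΛ
  · letI : Field Λ := hΛ.toField
    have hm : maximalIdeal Λ = Ideal.span {(0 : Λ)} := by
      rw [IsLocalRing.maximalIdeal_eq_bot]; simp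
    obtain ⟨hreg, -⟩ := Groth.Agent.H47.PSReg.regular_ps (Λ := Λ) 0 hm 0
      (by simp) (fun _ => rfl) n
    exact hreg
  · obtain ⟨hdom, hdvr, hcomp, p, hp, hm⟩ := hΛ
    have hdim : ringKrullDim Λ = ((1 : ℕ) : WithBot ℕ∞) := by
      have := IsDiscreteValuationRing.ringKrullDim_eq_one Λ
      simpa using this
    obtain ⟨hreg, -⟩ := Groth.Agent.H47.PSReg.regular_ps (Λ := Λ) (p : Λ) hm 1 hdim
      (fun h => absurd h one_ne_zero) n
    exact hreg

theorem isRegularRing_of_isRegularLocalRing (R : Type u) [CommRing R] [IsRegularLocalRing R] :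
    IsRegularRing R :=
  ⟨fun P _ => Groth.Agent.Lead.RLR.isRegularLocalRing_localization R P⟩

section Main

variable (hder : ∀ (p : ℕ) [Fact p.Prime] (k : Type u) [Field k] [CharP k p] (n : ℕ),
  HasDer p (MvPowerSeries (Fin n) k))

include hder

/-- a complete Noetherian local domain has `GF`. -/
theorem GF_of_complete_local_domain (D : Type u) [CommRing D] [IsDomain D] [IsLocalRing D]
    [IsNoetherianRing D] [IsAdicComplete (maximalIdeal D) D] : GF D := by
  obtain ⟨q, hq⟩ := CharP.exists D
  rcases CharP.char_is_prime_or_zero D q with hqp | hq0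
  · -- characteristic `q`
    haveI : Fact q.Prime := ⟨hqp⟩
    obtain ⟨s, hs⟩ := Groth.Agent.H47.exists_coeffField_charP q D
    have hsurj : Function.Surjective ((residue D).comp s) := by
      rw [hs]
      exact Function.surjective_id
    obtain ⟨n, f, hinj, hfin, -⟩ :=
      Groth.Agent.H96.CohenFinite2.main_of_coeffField D (ResidueField D) s hsurj
    letI : Algebra (MvPowerSeries (Fin n) (ResidueField D)) D := f.toAlgebra
    haveI : Module.Finite (MvPowerSeries (Fin n) (ResidueField D)) D := hfin
    haveI : CharP (ResidueField D) q := RingHom.charP s s.injective q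
    haveI : CharP (MvPowerSeries (Fin n) (ResidueField D)) q := RingHom.charP f hinj q
    haveI : IsRegularLocalRing (MvPowerSeries (Fin n) (ResidueField D)) :=
      isRegularLocalRing_ps _ (Or.inl (Field.toIsField _)) n
    haveI : IsRegularRing (MvPowerSeries (Fin n) (ResidueField D)) :=
      isRegularRing_of_isRegularLocalRing _
    exact GF_of_finite q (MvPowerSeries (Fin n) (ResidueField D)) (hder q (ResidueField D) n)
      (GF_of_isRegularRing _) D hinj
  · -- characteristic zero
    subst hq0
    haveI : CharZero D := CharP.charP_to_charZero D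
    obtain ⟨Λ, _, n, f, hΛ, hinj, hfin, -⟩ := Groth.Agent.S0581.result D
    letI : Algebra (MvPowerSeries (Fin n) Λ) D := f.toAlgebra
    haveI : Module.Finite (MvPowerSeries (Fin n) Λ) D := hfin
    haveI : IsRegularLocalRing (MvPowerSeries (Fin n) Λ) := isRegularLocalRing_ps Λ hΛ n
    haveI : CharZero (MvPowerSeries (Fin n) Λ) := RingHom.charZero f
    intro r _ Q _ hQ
    exact Groth.Agent.H23.FormalFibreChar0.isRegularLocalRing_completion_atPrime
      (MvPowerSeries (Fin n) Λ) r hinj Q hQ

/-- every finite domain over a complete Noetherian local ring has `GF`. -/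
theorem GF_of_finite_of_complete_local (R : Type u) [CommRing R] [IsLocalRing R]
    [IsNoetherianRing R] [IsAdicComplete (maximalIdeal R) R]
    (D : Type u) [CommRing D] [IsDomain D] [Algebra R D] [Module.Finite R D] : GF D := by
  haveI : HenselianLocalRing R :=
    Groth.Agent.H22.FinitePart.henselianLocalRing_of_isAdicComplete R
  haveI : IsLocalRing D := Groth.Agent.H72.HensGeomInt.isLocalRing_of_finite_of_isDomain R D
  haveI : IsNoetherianRing D := IsNoetherianRing.of_finite R D
  haveI : IsAdicComplete (maximalIdeal D) D :=
    Groth.Agent.H72.QFFormal.isAdicComplete_of_finite_local R D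
  exact GF_of_complete_local_domain hder D

/-- **A complete Noetherian local ring is a G-ring.** -/
theorem isGRing_of_complete_local (R : Type u) [CommRing R] [IsLocalRing R]
    [IsNoetherianRing R] [IsAdicComplete (maximalIdeal R) R] : CAlg.IsGRing R :=
  isGRing_of_GF R (fun D _ _ _ _ => GF_of_finite_of_complete_local hder R D)

end Main

end Groth.Agent.H23.GR
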