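import Mathlib
import Groth.Agent.H23.GRComplete
import Groth.Agent.H73.GRDeriv

/-!
# Complete Noetherian local rings are G-rings (unconditional)
-/

set_option autoImplicit false
set_option linter.style.haveILetI false
set_option linter.unusedSectionVars false
set_option linter.unusedVariables false
universe u

namespace Groth.Agent.H23.GR

open IsLocalRing TensorProduct

/-- the derivation property of power series rings over fields of characteristic `p`. -/
theorem hasDer_ps (p : ℕ) [Fact p.Prime] (k : Type u) [Field k] [CharP k p] (n : ℕ) :
    HasDer p (MvPowerSeries (Fin n) k) := by
  intro B _ _ _ _ hinj f hf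
  exact Groth.Agent.H73.GRDeriv.exists_derivation p k n B hinj f hf

/-- every finite domain over a complete Noetherian local ring has regular generic formal
fibres. -/
theorem GF_of_finite_of_complete (R : Type u) [CommRing R] [IsLocalRing R]
    [IsNoetherianRing R] [IsAdicComplete (maximalIdeal R) R]
    (D : Type u) [CommRing D] [IsDomain D] [Algebra R D] [Module.Finite R D] : GF D :=
  GF_of_finite_of_complete_local (fun p _ k _ _ n => hasDer_ps p k n) R D

/-- **A complete Noetherian local ring is a G-ring.** -/
theorem isGRing_of_complete (R : Type u) [CommRing R] [IsLocalRing R]
    [IsNoetherianRing R] [IsAdicComplete (maximalIdeal R) R] : CAlg.IsGRing R :=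
  isGRing_of_complete_local (fun p _ k _ _ n => hasDer_ps p k n) R

end Groth.Agent.H23.GR
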