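import Mathlib
import Groth.Prelude.Def_Found
import Groth.Agent.H46.RegularDeriv
import Groth.Agent.H14.GeomBC.RegAny
import Groth.Agent.H26.SkFlat

/-!
# Regularity of `C → B` from regularity of `A → B` and a derivation

`C` is an `A`-algebra generated (as a ring-epimorphism target) by one element `x`, e.g. a
localization of `A[X]`; `B` is a `C`-algebra with an `A`-derivation `D` such that `D x = 1`.
If `A → B` is a regular homomorphism, then `L ⊗[C] B` is a regular ring for every field `L` over
`C` that is essentially of finite type over `A`.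
-/

set_option autoImplicit false
set_option linter.style.haveILetI false
set_option linter.unusedSectionVars false
set_option linter.unusedVariables false
universe u

namespace Groth.Agent.H23.PolyGRing

open TensorProduct

section Epi

variable (A C B L : Type u) [CommRing A] [CommRing C] [CommRing B] [CommRing L]
  [Algebra A C] [Algebra A B] [Algebra C B] [IsScalarTower A C B]
  [Algebra A L] [Algebra C L] [IsScalarTower A C L] (x : C)

/-- the element `1 ⊗ x − x ⊗ 1` of `L ⊗[A] B`. -/
noncomputable def ff : L ⊗[A] B :=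
  (1 : L) ⊗ₜ[A] algebraMap C B x - algebraMap C L x ⊗ₜ[A] (1 : B)

/-- `(L ⊗[A] B) / (1 ⊗ x − x ⊗ 1) ≃ L ⊗[C] B` when `A[x] → C` is an epimorphism. -/
theorem nonempty_quotient_equiv
    (hepi : ∀ (Q : Type u) [CommRing Q] (α β : C →+* Q),
      (∀ a, α (algebraMap A C a) = β (algebraMap A C a)) → α x = β x → α = β) :
    Nonempty (((L ⊗[A] B) ⧸ Ideal.span {ff A C B L x}) ≃+* L ⊗[C] B) := by
  set J : Ideal (L ⊗[A] B) := Ideal.span {ff A C B L x} with hJ
  let φ : L ⊗[A] B →ₐ[L] L ⊗[C] B := Algebra.TensorProduct.mapOfCompatibleSMul C A L L B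
  have hφf : φ (ff A C B L x) = 0 := by
    rw [ff, map_sub, Algebra.TensorProduct.mapOfCompatibleSMul_tmul,
      Algebra.TensorProduct.mapOfCompatibleSMul_tmul, sub_eq_zero]
    rw [Algebra.algebraMap_eq_smul_one, Algebra.algebraMap_eq_smul_one, TensorProduct.smul_tmul]
  have hφJ : ∀ a ∈ J, φ.toRingHom a = 0 := by
    intro a ha
    have : J ≤ RingHom.ker φ.toRingHom := by
      rw [hJ, Ideal.span_le, Set.singleton_subset_iff]
      exact hφf
    exact this ha
  let φbar : (L ⊗[A] B) ⧸ J →+* L ⊗[C] B := Ideal.Quotient.lift J φ.toRingHom hφJ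
  let αL : L →+* (L ⊗[A] B) ⧸ J :=
    (Ideal.Quotient.mk J).comp (Algebra.TensorProduct.includeLeft : L →ₐ[A] L ⊗[A] B).toRingHom
  let αB : B →+* (L ⊗[A] B) ⧸ J :=
    (Ideal.Quotient.mk J).comp (Algebra.TensorProduct.includeRight : B →ₐ[A] L ⊗[A] B).toRingHom
  have hαL : ∀ l, αL l = Ideal.Quotient.mk J (l ⊗ₜ[A] 1) := fun l => rfl
  have hαB : ∀ b, αB b = Ideal.Quotient.mk J (1 ⊗ₜ[A] b) := fun b => rfl
  have hagree : αB.comp (algebraMap C B) = αL.comp (algebraMap C L) := by
    apply hepi
    · intro a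
      simp only [RingHom.comp_apply, hαL, hαB]
      rw [← IsScalarTower.algebraMap_apply A C B, ← IsScalarTower.algebraMap_apply A C L,
        Algebra.algebraMap_eq_smul_one, Algebra.algebraMap_eq_smul_one (A := L),
        TensorProduct.smul_tmul]
    · simp only [RingHom.comp_apply, hαL, hαB]
      rw [← sub_eq_zero, ← map_sub, Ideal.Quotient.eq_zero_iff_mem]
      exact Ideal.subset_span rfl
  letI : Algebra C ((L ⊗[A] B) ⧸ J) := (αL.comp (algebraMap C L)).toAlgebra
  let fL : L →ₐ[C] (L ⊗[A] B) ⧸ J := { αL with commutes' := fun c => rfl }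
  let fB : B →ₐ[C] (L ⊗[A] B) ⧸ J :=
    { αB with commutes' := fun c => RingHom.congr_fun hagree c }
  let ψ : L ⊗[C] B →ₐ[C] (L ⊗[A] B) ⧸ J := Algebra.TensorProduct.productMap fL fB
  have hψ : ∀ l b, ψ (l ⊗ₜ[C] b) = Ideal.Quotient.mk J (l ⊗ₜ[A] b) := by
    intro l b
    rw [Algebra.TensorProduct.productMap_apply_tmul]
    change αL l * αB b = _
    rw [hαL, hαB, ← map_mul, Algebra.TensorProduct.tmul_mul_tmul, mul_one, one_mul]
  have hφbar : ∀ l b, φbar (Ideal.Quotient.mk J (l ⊗ₜ[A] b)) = l ⊗ₜ[C] b := by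
    intro l b
    rw [Ideal.Quotient.lift_mk]
    rfl
  refine ⟨RingEquiv.ofRingHom φbar ψ.toRingHom ?_ ?_⟩
  · -- φbar ∘ ψ = id
    refine RingHom.ext fun z => ?_
    induction z using TensorProduct.induction_on with
    | zero => simp
    | tmul l b =>
      change φbar (ψ (l ⊗ₜ[C] b)) = _
      rw [hψ, hφbar]
      rfl
    | add z w hz hw =>
      simp only [RingHom.comp_apply, map_add] at hz hw ⊢
      rw [hz, hw]
  · -- ψ ∘ φbar = id
    refine RingHom.ext fun z => ?_
    obtain ⟨z, rfl⟩ := Ideal.Quotient.mk_surjective z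
    induction z using TensorProduct.induction_on with
    | zero => simp
    | tmul l b =>
      change ψ (φbar (Ideal.Quotient.mk J (l ⊗ₜ[A] b))) = _
      rw [hφbar, hψ]
      rfl
    | add z w hz hw =>
      simp only [RingHom.comp_apply, map_add] at hz hw ⊢
      rw [hz, hw]

end Epi

section Der

variable (A B L : Type u) [CommRing A] [CommRing B] [CommRing L] [Algebra A B] [Algebra A L]

theorem lTensor_leibniz (D : Derivation A B B) (a b : L ⊗[A] B) :
    (LinearMap.lTensor L D.toLinearMap) (a * b) =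
      a • (LinearMap.lTensor L D.toLinearMap) b + b • (LinearMap.lTensor L D.toLinearMap) a := by
  induction a using TensorProduct.induction_on with
  | zero => simp
  | add a a' ha ha' =>
    rw [add_mul, map_add, ha, ha', add_smul, map_add, smul_add]
    abel
  | tmul l c =>
    induction b using TensorProduct.induction_on with
    | zero => simp
    | add b b' hb hb' =>
      rw [mul_add, map_add, hb, hb', add_smul, map_add, smul_add]
      abel
    | tmul l' c' =>
      rw [Algebra.TensorProduct.tmul_mul_tmul, LinearMap.lTensor_tmul, LinearMap.lTensor_tmul,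
        LinearMap.lTensor_tmul]
      simp only [Derivation.coeFn_coe, Derivation.leibniz, smul_eq_mul,
        Algebra.TensorProduct.tmul_mul_tmul, TensorProduct.tmul_add]
      rw [mul_comm l' l]

/-- the derivation `id ⊗ D` of `L ⊗[A] B`. -/
noncomputable def derT (D : Derivation A B B) :
    @Derivation ℤ (L ⊗[A] B) (L ⊗[A] B) _ _ _ (Ring.toIntAlgebra _) _ _ :=
  letI : Algebra ℤ (L ⊗[A] B) := Ring.toIntAlgebra _
  Derivation.mk' ((LinearMap.lTensor L D.toLinearMap).toAddMonoidHom.toIntLinearMap)
    (fun a b => lTensor_leibniz A B L D a b)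

theorem derT_tmul (D : Derivation A B B) (l : L) (b : B) :
    derT A B L D (l ⊗ₜ[A] b) = l ⊗ₜ[A] D b := rfl

end Der

section Core

variable (A C B : Type u) [CommRing A] [CommRing C] [CommRing B]
  [Algebra A C] [Algebra A B] [Algebra C B] [IsScalarTower A C B] (x : C)

/-- `L ⊗[A] B` is regular when `A → B` is a regular homomorphism and `L` is a field essentially
of finite type over `A`. -/
theorem isRegularRing_tensor_base (hAB : CAlg.IsRegularHom A B)
    (L : Type u) [Field L] [Algebra A L] [Algebra.EssFiniteType A L] :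
    IsRegularRing (L ⊗[A] B) := by
  let 𝔭 : Ideal A := RingHom.ker (algebraMap A L)
  haveI h𝔭 : 𝔭.IsPrime := RingHom.ker_isPrime _
  have h2 : 𝔭.primeCompl ≤ (IsUnit.submonoid L).comap (algebraMap A L) := by
    intro a ha
    change IsUnit (algebraMap A L a)
    rw [isUnit_iff_ne_zero]
    exact fun h0 => ha h0
  letI : Algebra 𝔭.ResidueField L :=
    (Ideal.ResidueField.lift 𝔭 (algebraMap A L) le_rfl h2).toAlgebra
  haveI : IsScalarTower A 𝔭.ResidueField L := IsScalarTower.of_algebraMap_eq (fun a =>
    (Ideal.ResidueField.lift_algebraMap 𝔭 (algebraMap A L) le_rfl h2 a).symm)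
  obtain ⟨hN, hG⟩ := hAB.2 𝔭
  haveI := hN
  haveI : Algebra.EssFiniteType 𝔭.ResidueField L := Algebra.EssFiniteType.of_comp A 𝔭.ResidueField L
  haveI : IsNoetherianRing ((𝔭.Fiber B) ⊗[𝔭.ResidueField] L) :=
    Algebra.EssFiniteType.isNoetherianRing (𝔭.Fiber B) ((𝔭.Fiber B) ⊗[𝔭.ResidueField] L)
  haveI : IsNoetherianRing (L ⊗[𝔭.ResidueField] (𝔭.Fiber B)) :=
    isNoetherianRing_of_ringEquiv _
      (Algebra.TensorProduct.comm 𝔭.ResidueField (𝔭.Fiber B) L).toRingEquiv
  haveI : IsRegularRing (L ⊗[𝔭.ResidueField] (𝔭.Fiber B)) :=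
    Groth.Agent.H14.GeomBC.isRegularRing_tensor_of_isGeometricallyRegular_of_isNoetherianRing
      𝔭.ResidueField (𝔭.Fiber B) hG L
  exact IsRegularRing.of_ringEquiv
    (Algebra.TensorProduct.cancelBaseChange A 𝔭.ResidueField L L B).toRingEquiv

/-- **Core**: regularity of the fibres of `C → B`. -/
theorem isRegularRing_tensor
    (hepi : ∀ (Q : Type u) [CommRing Q] (α β : C →+* Q),
      (∀ a, α (algebraMap A C a) = β (algebraMap A C a)) → α x = β x → α = β)
    (D : Derivation A B B) (hD : D (algebraMap C B x) = 1)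
    (hAB : CAlg.IsRegularHom A B)
    (L : Type u) [Field L] [Algebra A L] [Algebra C L] [IsScalarTower A C L]
    [Algebra.EssFiniteType A L] :
    IsRegularRing (L ⊗[C] B) := by
  haveI : IsRegularRing (L ⊗[A] B) := isRegularRing_tensor_base A B hAB L
  have hDf : derT A B L D (ff A C B L x) = 1 := by
    rw [ff, map_sub, derT_tmul, derT_tmul, hD, D.map_one_eq_zero, TensorProduct.tmul_zero,
      sub_zero]
    rfl
  haveI : IsRegularRing ((L ⊗[A] B) ⧸ Ideal.span {ff A C B L x}) := by
    apply Groth.Agent.H46.isRegularRing_quotient_of_derivation _ _ (derT A B L D)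
    rw [hDf, map_one]
    exact isUnit_one
  obtain ⟨e⟩ := nonempty_quotient_equiv A C B L x hepi
  exact IsRegularRing.of_ringEquiv e

/-- `C → B` is a regular homomorphism when `A → B` is, `C` is generated over `A` by `x` (up to
epimorphism) and `d/dx` extends to `B`. -/
theorem isRegularHom_of_derivation [IsNoetherianRing B] [Module.Flat C B]
    [Algebra.EssFiniteType A C]
    (hepi : ∀ (Q : Type u) [CommRing Q] (α β : C →+* Q),
      (∀ a, α (algebraMap A C a) = β (algebraMap A C a)) → α x = β x → α = β)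
    (D : Derivation A B B) (hD : D (algebraMap C B x) = 1)
    (hAB : CAlg.IsRegularHom A B) : CAlg.IsRegularHom C B := by
  refine ⟨inferInstance, fun P hP => ⟨Groth.Agent.H26.SkFlat.isNoetherianRing_fiber B P, ?_⟩⟩
  intro k' _ _ hfin
  haveI := hfin
  letI : Algebra C k' := ((algebraMap P.ResidueField k').comp (algebraMap C P.ResidueField)).toAlgebra
  haveI : IsScalarTower C P.ResidueField k' := IsScalarTower.of_algebraMap_eq (fun _ => rfl)
  letI : Algebra A k' := ((algebraMap C k').comp (algebraMap A C)).toAlgebra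
  haveI : IsScalarTower A C k' := IsScalarTower.of_algebraMap_eq (fun _ => rfl)
  haveI : Algebra.EssFiniteType C k' := Algebra.EssFiniteType.comp C P.ResidueField k'
  haveI : Algebra.EssFiniteType A k' := Algebra.EssFiniteType.comp A C k'
  haveI : IsRegularRing (k' ⊗[C] B) := isRegularRing_tensor A C B x hepi D hD hAB k'
  exact IsRegularRing.of_ringEquiv
    (Algebra.TensorProduct.cancelBaseChange C P.ResidueField k' k' B).symm.toRingEquiv

end Core

end Groth.Agent.H23.PolyGRing
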