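import Mathlib
import Groth.Agent.H23.PolyGRing
import Groth.Agent.H23.IntDer
import Groth.Agent.H57.GRingMax
import Groth.Agent.H46.PowerSeriesSmooth
import Groth.Agent.S9318
import Groth.Agent.H14.HensProp.FinGRing

/-!
# A polynomial ring over a G-ring is a G-ring (given André's theorem for local rings)
-/

set_option autoImplicit false
set_option linter.style.haveILetI false
set_option linter.unusedSectionVars false
set_option linter.unusedVariables false
universe u

namespace Groth.Agent.H23.PolyGRing

open TensorProduct IsLocalRing Polynomial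

/-- the statement of S9314 (André's theorem for local rings with regular completion map). -/
def Andre : Prop :=
  ∀ {A B : Type u} [CommRing A] [CommRing B] [IsLocalRing A] [IsLocalRing B] [IsNoetherianRing A]
    [IsNoetherianRing B] [Algebra A B] [IsLocalHom (algebraMap A B)],
    CAlg.IsRegularHom A (AdicCompletion (IsLocalRing.maximalIdeal A) A) →
    CAlgX.IsAdicFormallySmooth A B (IsLocalRing.maximalIdeal B) → CAlg.IsRegularHom A B

/-- an integral derivation vanishing on the image of `A` is `A`-linear. -/
noncomputable def toDerivation {A B : Type u} [CommRing A] [CommRing B] [Algebra A B]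
    (D : Groth.Agent.H23.IntDer B) (h : ∀ a : A, D (algebraMap A B a) = 0) : Derivation A B B :=
  Derivation.mk'
    { toFun := D
      map_add' := fun x y => map_add D x y
      map_smul' := fun a x => by
        show D (a • x) = a • D x
        rw [Algebra.smul_def, Derivation.leibniz, h a, smul_zero, add_zero, smul_eq_mul,
          Algebra.smul_def] }
    (fun a b => Derivation.leibniz D a b)

theorem toDerivation_apply {A B : Type u} [CommRing A] [CommRing B] [Algebra A B]
    (D : Groth.Agent.H23.IntDer B) (h : ∀ a : A, D (algebraMap A B a) = 0) (b : B) :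
    toDerivation D h b = D b := rfl

theorem intDer_mul {B : Type u} [CommRing B] (D : Groth.Agent.H23.IntDer B) (a b : B) :
    D (a * b) = a * D b + b * D a := by
  have h := D.leibniz a b
  rw [smul_eq_mul, smul_eq_mul] at h
  exact h

/-- `d/dX` as an integral derivation. -/
noncomputable def dX (R : Type u) [CommRing R] : Groth.Agent.H23.IntDer R[X] :=
  Groth.Agent.H23.IntDer.ofAddHom (Polynomial.derivative (R := R)).toAddMonoidHom
    (fun a b => by
      show derivative (a * b) = a * derivative b + b * derivative a
      rw [Polynomial.derivative_mul]; ring)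

theorem dX_apply (R : Type u) [CommRing R] (f : R[X]) : dX R f = derivative f := rfl

set_option maxHeartbeats 1000000 in
/-- the completion map of `R[X]_n` is regular, for a G-ring `R`. -/
theorem isRegularHom_cpl_atPrime_polynomial (hAndre : Andre.{u}) (R : Type u) [CommRing R]
    (hR : CAlg.IsGRing R) (n : Ideal R[X]) [n.IsPrime] :
    CAlg.IsRegularHom (Localization.AtPrime n)
      (AdicCompletion (maximalIdeal (Localization.AtPrime n)) (Localization.AtPrime n)) := by
  haveI : IsNoetherianRing R := hR.1
  set p : Ideal R := n.comap (C : R →+* R[X]) with hp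
  haveI : p.IsPrime := Ideal.comap_isPrime _ _
  set A := Localization.AtPrime p with hA
  set Cn := Localization.AtPrime n with hCn
  haveI : IsNoetherianRing A := IsLocalization.isNoetherianRing p.primeCompl A inferInstance
  haveI : IsNoetherianRing Cn := IsLocalization.isNoetherianRing n.primeCompl Cn inferInstance
  -- the algebra structure `A → Cn`
  letI algACn : Algebra A Cn := (Localization.localRingHom p n (C : R →+* R[X]) rfl).toAlgebra
  haveI : IsLocalHom (algebraMap A Cn) :=
    Localization.isLocalHom_localRingHom p n (C : R →+* R[X]) rfl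
  haveI tow1 : IsScalarTower R A Cn := IsScalarTower.of_algebraMap_eq (fun r => by
    change algebraMap R Cn r = Localization.localRingHom p n (C : R →+* R[X]) rfl (algebraMap R A r)
    rw [Localization.localRingHom_to_map]
    rfl)
  haveI : Algebra.EssFiniteType R Cn := Algebra.EssFiniteType.comp R R[X] Cn
  haveI : Algebra.EssFiniteType A Cn := Algebra.EssFiniteType.of_comp R A Cn
  haveI : Algebra.FormallySmooth R Cn := Algebra.FormallySmooth.comp R R[X] Cn
  haveI : Algebra.FormallySmooth A Cn := Algebra.FormallySmooth.localization_base p.primeCompl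
  -- the completion
  have hne : maximalIdeal Cn ≠ ⊤ := Ideal.IsPrime.ne_top inferInstance
  have hfg : (maximalIdeal Cn).FG := Ideal.fg_of_isNoetherianRing _
  set B := AdicCompletion (maximalIdeal Cn) Cn with hB
  haveI : IsLocalRing B := Groth.Agent.Lead.RLR.isLocalRing_adicCompletion Cn _ hne
  haveI : IsNoetherianRing B := Groth.Agent.Lead.RLR.isNoetherianRing_adicCompletion' Cn _
  haveI : IsLocalHom (algebraMap Cn B) :=
    Groth.Agent.Lead.RLR.isLocalHom_algebraMap_adicCompletion Cn _ hne
  have hmax : maximalIdeal B = (maximalIdeal Cn).map (algebraMap Cn B) :=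
    Groth.Agent.Lead.RLR.maximalIdeal_adicCompletion_eq_map Cn _ hne
  haveI : IsLocalHom (algebraMap A B) := by
    rw [IsScalarTower.algebraMap_eq A Cn B]
    exact RingHom.isLocalHom_comp _ _
  -- adic formal smoothness
  have h1 : CAlgX.IsAdicFormallySmooth A Cn (maximalIdeal Cn) :=
    Groth.Agent.H46.isAdicFormallySmooth_of_formallySmooth _
  have h2 : CAlgX.IsAdicFormallySmooth A B (maximalIdeal B) := by
    rw [hmax]
    exact (Groth.Agent.S9318.result (maximalIdeal Cn) hfg).mp h1
  have hAB : CAlg.IsRegularHom A B := hAndre (hR.2 p) h2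
  -- the derivation
  let D1 : Groth.Agent.H23.IntDer Cn := Groth.Agent.H23.IntDer.loc n.primeCompl (dX R)
  let D2 : Groth.Agent.H23.IntDer B := Groth.Agent.H23.IntDer.compl (maximalIdeal Cn) D1
  have hD2 : ∀ f : R[X], D2 (algebraMap Cn B (algebraMap R[X] Cn f)) =
      algebraMap Cn B (algebraMap R[X] Cn (derivative f)) := by
    intro f
    rw [Groth.Agent.H23.IntDer.compl_algebraMap, Groth.Agent.H23.IntDer.loc_algebraMap, dX_apply]
  have hD2R : ∀ r : R, D2 (algebraMap R B r) = 0 := by
    intro r
    have : algebraMap R B r = algebraMap Cn B (algebraMap R[X] Cn (C r)) := by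
      rw [IsScalarTower.algebraMap_apply R Cn B, IsScalarTower.algebraMap_apply R R[X] Cn]
      rfl
    rw [this, hD2, derivative_C, map_zero, map_zero]
  have hD2A : ∀ a : A, D2 (algebraMap A B a) = 0 := by
    intro a
    obtain ⟨r, s, rfl⟩ := IsLocalization.exists_mk'_eq p.primeCompl a
    have hs : IsUnit (algebraMap R B (s : R)) := by
      rw [IsScalarTower.algebraMap_apply R A B]
      exact (IsLocalization.map_units A s).map _
    have h3 : algebraMap A B (IsLocalization.mk' A r s) * algebraMap R B (s : R) =
        algebraMap R B r := by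
      rw [IsScalarTower.algebraMap_apply R A B, IsScalarTower.algebraMap_apply R A B, ← map_mul,
        IsLocalization.mk'_spec]
    have h4 := congrArg D2 h3
    have h5 := intDer_mul D2 (algebraMap A B (IsLocalization.mk' A r s)) (algebraMap R B (s : R))
    rw [h5, hD2R, hD2R, mul_zero, zero_add] at h4
    exact (hs.mul_right_eq_zero).mp h4
  let D : Derivation A B B := toDerivation D2 hD2A
  set x : Cn := algebraMap R[X] Cn X with hx
  have hD : D (algebraMap Cn B x) = 1 := by
    rw [toDerivation_apply, hx, hD2, derivative_X, map_one, map_one]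
  have hepi : ∀ (Q : Type u) [CommRing Q] (α β : Cn →+* Q),
      (∀ a, α (algebraMap A Cn a) = β (algebraMap A Cn a)) → α x = β x → α = β := by
    intro Q _ α β hαβ hxx
    refine IsLocalization.ringHom_ext n.primeCompl ?_
    refine Polynomial.ringHom_ext (fun r => ?_) ?_
    · have hC : algebraMap R[X] Cn (C r) = algebraMap A Cn (algebraMap R A r) := by
        rw [← IsScalarTower.algebraMap_apply R A Cn, IsScalarTower.algebraMap_apply R R[X] Cn]
        rfl
      simp only [RingHom.comp_apply]
      rw [hC, hαβ]
    · simpa [hx] using hxx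
  exact isRegularHom_of_derivation A Cn B x hepi D hD hAB

/-- a polynomial ring over a G-ring is a G-ring. -/
theorem isGRing_polynomial (hAndre : Andre.{u}) (R : Type u) [CommRing R] (hR : CAlg.IsGRing R) :
    CAlg.IsGRing R[X] := by
  haveI : IsNoetherianRing R := hR.1
  exact ⟨inferInstance, fun n _ => isRegularHom_cpl_atPrime_polynomial hAndre R hR n⟩

/-- a quotient (or isomorphic copy) of a G-ring is a G-ring. -/
theorem isGRing_of_surjective (R T : Type u) [CommRing R] [CommRing T] (f : R →+* T)
    (hf : Function.Surjective f) (hR : CAlg.IsGRing R) : CAlg.IsGRing T := by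
  haveI : IsNoetherianRing R := hR.1
  haveI : IsNoetherianRing T := isNoetherianRing_of_surjective R T f hf
  refine ⟨inferInstance, fun n hn => ?_⟩
  set m : Ideal R := n.comap f with hm
  haveI : m.IsPrime := Ideal.comap_isPrime _ _
  haveI : IsNoetherianRing (Localization.AtPrime m) :=
    IsLocalization.isNoetherianRing m.primeCompl _ inferInstance
  letI : Algebra (Localization.AtPrime m) (Localization.AtPrime n) :=
    (Localization.localRingHom m n f rfl).toAlgebra
  have hsurj : Function.Surjective (algebraMap (Localization.AtPrime m) (Localization.AtPrime n)) :=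
    RingHom.surjective_localRingHom_of_surjective f hf n
  haveI : Module.Finite (Localization.AtPrime m) (Localization.AtPrime n) :=
    Module.Finite.of_surjective (Algebra.linearMap _ _) hsurj
  exact Groth.Agent.H14.HensProp.FinGRing.isRegularHom_cpl_of_finite (Localization.AtPrime m)
    (Localization.AtPrime n) (hR.2 m)

theorem isGRing_mvPolynomial (hAndre : Andre.{u}) (R : Type u) [CommRing R] (hR : CAlg.IsGRing R)
    (n : ℕ) : CAlg.IsGRing (MvPolynomial (Fin n) R) := by
  induction n with
  | zero =>
    exact isGRing_of_surjective R (MvPolynomial (Fin 0) R)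
      (MvPolynomial.isEmptyAlgEquiv R (Fin 0)).symm.toRingEquiv.toRingHom
      (MvPolynomial.isEmptyAlgEquiv R (Fin 0)).symm.surjective hR
  | succ n ih =>
    have h1 := isGRing_polynomial hAndre (MvPolynomial (Fin n) R) ih
    exact isGRing_of_surjective (MvPolynomial (Fin n) R)[X] (MvPolynomial (Fin (n + 1)) R)
      (MvPolynomial.finSuccEquiv R n).symm.toRingEquiv.toRingHom
      (MvPolynomial.finSuccEquiv R n).symm.surjective h1

/-- **a finite type algebra over a G-ring is a G-ring** (given André's theorem). -/
theorem isGRing_of_finiteType (hAndre : Andre.{u}) (R : Type u) [CommRing R]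
    (hR : CAlg.IsGRing R) (S : Type u) [CommRing S] [Algebra R S] [Algebra.FiniteType R S] :
    CAlg.IsGRing S := by
  obtain ⟨n, f, hf⟩ := Algebra.FiniteType.iff_quotient_mvPolynomial''.mp
    (inferInstance : Algebra.FiniteType R S)
  exact isGRing_of_surjective (MvPolynomial (Fin n) R) S f.toRingHom hf
    (isGRing_mvPolynomial hAndre R hR n)

end Groth.Agent.H23.PolyGRing
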