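import Mathlib
import Groth.Agent.H23.GRSepPoly
import Groth.Agent.H23.IntDer
import Groth.Agent.H13.GenReg
import Groth.Agent.H46.RegularDeriv
import Groth.Agent.H54.PolyReg

/-!
# Generic regularity (`GR`): the separable step and the root step
-/

set_option autoImplicit false
set_option linter.style.haveILetI false
set_option linter.unusedSectionVars false
set_option linter.unusedVariables false
universe u

namespace Groth.Agent.H23.GR

open IsLocalRing TensorProduct Polynomial Groth.Agent.H13.GenReg

attribute [local instance] FractionRing.liftAlgebra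

section Sep

variable (B C : Type u) [CommRing B] [IsDomain B] [CommRing C] [IsDomain C] [Algebra B C]
  [Module.Finite B C] [FaithfulSMul B C]

/-- **Separable step** for generic regularity. -/
theorem GR_of_sepPoly [IsNoetherianRing B] (y : C) (hgen : Algebra.adjoin B {y} = ⊤) (g : B[X])
    (hg : aeval y g = 0) (hg' : aeval y (derivative g) ≠ 0) (hB : GR B) : GR C := by
  haveI := isSeparable_frac_of_poly B C y hgen g hg hg'
  haveI : Algebra.FormallyEtale (FractionRing B) (FractionRing C) :=
    Algebra.FormallyEtale.of_isSeparable _ _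
  haveI : Algebra.FormallySmooth (FractionRing B) (FractionRing C) := inferInstance
  haveI : Algebra.FormallyEtale B (FractionRing B) :=
    Algebra.FormallyEtale.of_isLocalization (nonZeroDivisors B)
  haveI : Algebra.FormallySmooth B (FractionRing B) := inferInstance
  haveI : Algebra.FormallySmooth B (FractionRing C) :=
    Algebra.FormallySmooth.comp B (FractionRing B) (FractionRing C)
  exact gr_of_formallySmooth B C (FaithfulSMul.algebraMap_injective B C) hB

end Sep

section Root

variable (p : ℕ) [hp : Fact p.Prime] (B C : Type u) [CommRing B] [IsDomain B]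
  [CommRing C] [IsDomain C] [Algebra B C] [FaithfulSMul B C]

/-- if `a^p = f` with `f` not a `p`-th power in `Frac B`, every polynomial over `B` vanishing at
`a` is divisible by `X^p - f`. -/
theorem dvd_of_aeval_eq_zero (a : C) (f : B) (haf : a ^ p = algebraMap B C f)
    (hf : ∀ x : FractionRing B, x ^ p ≠ algebraMap B (FractionRing B) f) (h₀ : B[X])
    (h0 : aeval a h₀ = 0) : (X ^ p - Polynomial.C f : B[X]) ∣ h₀ := by
  have hirr : Irreducible (X ^ p - Polynomial.C (algebraMap B (FractionRing B) f) :
      (FractionRing B)[X]) := X_pow_sub_C_irreducible_of_prime hp.out hf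
  have hmonicK : (X ^ p - Polynomial.C (algebraMap B (FractionRing B) f) :
      (FractionRing B)[X]).Monic := monic_X_pow_sub_C _ hp.out.ne_zero
  have hmonic : (X ^ p - Polynomial.C f : B[X]).Monic := monic_X_pow_sub_C _ hp.out.ne_zero
  set a'' := algebraMap C (FractionRing C) a with ha''
  have hroot : aeval a'' (X ^ p - Polynomial.C (algebraMap B (FractionRing B) f) :
      (FractionRing B)[X]) = 0 := by
    rw [map_sub, map_pow, aeval_X, aeval_C, ha'', ← map_pow, haf, sub_eq_zero,
      ← IsScalarTower.algebraMap_apply B C (FractionRing C),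
      ← IsScalarTower.algebraMap_apply B (FractionRing B) (FractionRing C)]
  have hmin := minpoly.eq_of_irreducible_of_monic hirr hroot hmonicK
  have h1 : aeval a'' (h₀.map (algebraMap B (FractionRing B))) = 0 := by
    rw [aeval_map_algebraMap, ha'', aeval_algebraMap_apply, h0, map_zero]
  have h2 : (X ^ p - Polynomial.C (algebraMap B (FractionRing B) f) : (FractionRing B)[X]) ∣
      h₀.map (algebraMap B (FractionRing B)) := by
    rw [hmin]
    exact minpoly.dvd _ _ h1
  have hmap : (X ^ p - Polynomial.C f : B[X]).map (algebraMap B (FractionRing B)) =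
      X ^ p - Polynomial.C (algebraMap B (FractionRing B) f) := by
    rw [Polynomial.map_sub, Polynomial.map_pow, Polynomial.map_X, Polynomial.map_C]
  rw [← hmap] at h2
  exact (Polynomial.map_dvd_map (algebraMap B (FractionRing B))
    (IsFractionRing.injective B (FractionRing B)) hmonic).mp h2

/-- `C = B[a] ≅ B[X]/(X^p - f)`. -/
theorem exists_ringEquiv_quotient (a : C) (f : B) (haf : a ^ p = algebraMap B C f)
    (hgen : Algebra.adjoin B {a} = ⊤)
    (hf : ∀ x : FractionRing B, x ^ p ≠ algebraMap B (FractionRing B) f) :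
    ∃ e : (B[X] ⧸ Ideal.span {(X ^ p - Polynomial.C f : B[X])}) ≃+* C,
      ∀ h : B[X], e (Ideal.Quotient.mk _ h) = aeval a h := by
  have hker : ∀ x ∈ Ideal.span {(X ^ p - Polynomial.C f : B[X])},
      ((aeval a : B[X] →ₐ[B] C) : B[X] →+* C) x = 0 := by
    intro x hx
    obtain ⟨c, rfl⟩ := Ideal.mem_span_singleton.mp hx
    show aeval a ((X ^ p - Polynomial.C f) * c) = 0
    rw [map_mul, map_sub, map_pow, aeval_X, aeval_C, haf, sub_self, zero_mul]
  let φ : (B[X] ⧸ Ideal.span {(X ^ p - Polynomial.C f : B[X])}) →+* C :=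
    Ideal.Quotient.lift _ ((aeval a : B[X] →ₐ[B] C) : B[X] →+* C) hker
  have hφ : ∀ h : B[X], φ (Ideal.Quotient.mk _ h) = aeval a h := fun h => rfl
  have hinj : Function.Injective φ := by
    rw [injective_iff_map_eq_zero]
    intro x hx
    obtain ⟨h, rfl⟩ := Ideal.Quotient.mk_surjective x
    rw [hφ] at hx
    rw [Ideal.Quotient.eq_zero_iff_mem, Ideal.mem_span_singleton]
    exact dvd_of_aeval_eq_zero p B C a f haf hf h hx
  have hsurj : Function.Surjective φ := by
    intro c
    have hc : c ∈ Algebra.adjoin B {a} := by rw [hgen]; exact Algebra.mem_top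
    rw [Algebra.adjoin_singleton_eq_range_aeval] at hc
    obtain ⟨h, rfl⟩ := hc
    exact ⟨Ideal.Quotient.mk _ h, rfl⟩
  exact ⟨RingEquiv.ofBijective φ ⟨hinj, hsurj⟩, hφ⟩

end Root

section Quot

theorem isRegularRing_of_isRegularLocalRing' (R : Type u) [CommRing R] [IsRegularLocalRing R] :
    IsRegularRing R :=
  ⟨fun P _ => Groth.Agent.Lead.RLR.isRegularLocalRing_localization R P⟩

/-- local version of `H46.isRegularLocalRing_localization_quotient_of_derivation`. -/
theorem isRegularLocalRing_localization_quotient_of_derivation' (R : Type u) [CommRing R]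
    (f : R) (D : Derivation ℤ R R) (P : Ideal R) [hPprime : P.IsPrime]
    [IsRegularLocalRing (Localization.AtPrime P)]
    (hfP : f ∈ P) (hDf : D f ∉ P) :
    IsRegularLocalRing (Localization.AtPrime P ⧸
      (Ideal.span {f}).map (algebraMap R (Localization.AtPrime P))) := by
  have e1 : (Ideal.span {f}).map (algebraMap R (Localization.AtPrime P)) =
      Ideal.span {algebraMap R (Localization.AtPrime P) f} := by
    rw [Ideal.map_span, Set.image_singleton]
  rw [e1]
  apply Groth.Agent.H46.isRegularLocalRing_quotient_of_not_mem_sq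
  · exact (IsLocalization.AtPrime.to_map_mem_maximal_iff (Localization.AtPrime P) P f).mpr hfP
  · intro hmem
    rw [← Localization.AtPrime.map_eq_maximalIdeal, ← Ideal.map_pow,
      IsLocalization.algebraMap_mem_map_algebraMap_iff P.primeCompl] at hmem
    obtain ⟨s, hs, hsf⟩ := hmem
    have h2 := Groth.Agent.H46.derivation_mem_of_mem_sq D P hsf
    rw [D.leibniz, smul_eq_mul, smul_eq_mul] at h2
    have h3 : s * D f ∈ P := by
      have h4 : f * D s ∈ P := P.mul_mem_right _ hfP
      exact (Ideal.add_mem_iff_left P h4).mp h2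
    rcases hPprime.mem_or_mem h3 with h5 | h5
    · exact hs h5
    · exact hDf h5

variable (p : ℕ) (B : Type u) [CommRing B] [IsDomain B] [IsNoetherianRing B]

/-- pointwise regularity of `B[X]/(X^p - f)` away from `g · D f`. -/
theorem isRegularLocalRing_quotient_atPrime (f : B) (D : Derivation ℤ B B) (g : B)
    (hg : ∀ (Q : Ideal B) [Q.IsPrime], g ∉ Q → IsRegularLocalRing (Localization.AtPrime Q))
    (𝔭 : Ideal (B[X] ⧸ Ideal.span {(X ^ p - Polynomial.C f : B[X])})) [𝔭.IsPrime]
    (h𝔭 : Ideal.Quotient.mk _ (Polynomial.C (g * D f)) ∉ 𝔭) :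
    IsRegularLocalRing (Localization.AtPrime 𝔭) := by
  refine Groth.Agent.H46.isRegularLocalRing_localization_quotient
    (Ideal.span {(X ^ p - Polynomial.C f : B[X])}) 𝔭 ?_
  set P := 𝔭.comap (Ideal.Quotient.mk (Ideal.span {(X ^ p - Polynomial.C f : B[X])})) with hP
  haveI hPprime : P.IsPrime := Ideal.comap_isPrime _ _
  have hgP : Polynomial.C (g * D f) ∉ P := h𝔭
  have hg0 : g ∉ P.comap (Polynomial.C : B →+* B[X]) := by
    intro hmem
    apply hgP
    rw [map_mul]
    exact Ideal.mul_mem_right _ _ hmem
  haveI : (P.comap (Polynomial.C : B →+* B[X])).IsPrime := Ideal.comap_isPrime _ _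
  haveI r1 : IsRegularLocalRing (Localization.AtPrime (P.comap (Polynomial.C : B →+* B[X]))) :=
    hg _ hg0
  haveI r2 : IsRegularRing (Localization.AtPrime (P.comap (Polynomial.C : B →+* B[X]))) :=
    isRegularRing_of_isRegularLocalRing' _
  haveI r3 : IsRegularLocalRing (Localization.AtPrime P) :=
    Groth.Agent.H54.isRegularLocalRing_localization_polynomial P
  let D' : @Derivation ℤ B[X] B[X] _ _ _ (Ring.toIntAlgebra _) _ _ :=
    Derivation.mk' ((Groth.Agent.H46.polyDer D).toLinearMap.toAddMonoidHom.toIntLinearMap)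
      (fun a b => (Groth.Agent.H46.polyDer D).leibniz a b)
  have hD' : ∀ q, D' q = Groth.Agent.H46.polyDer D q := fun _ => rfl
  have h1 : D' (X ^ p - Polynomial.C f : B[X]) = Polynomial.C (-(D f)) := by
    rw [hD']
    ext i
    rw [Groth.Agent.H46.polyDer_coeff, Polynomial.coeff_sub, map_sub, Polynomial.coeff_C,
      Polynomial.coeff_C, Polynomial.coeff_X_pow]
    have h0 : D (if i = p then (1 : B) else 0) = 0 := by
      split_ifs
      · exact D.map_one_eq_zero
      · exact map_zero D
    rw [h0, zero_sub]
    split_ifs <;> simp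
  refine isRegularLocalRing_localization_quotient_of_derivation' B[X]
    (X ^ p - Polynomial.C f) D' P ?_ ?_
  · show Ideal.Quotient.mk _ (X ^ p - Polynomial.C f : B[X]) ∈ 𝔭
    have h0 : Ideal.Quotient.mk (Ideal.span {(X ^ p - Polynomial.C f : B[X])})
        (X ^ p - Polynomial.C f : B[X]) = 0 :=
      Ideal.Quotient.eq_zero_iff_mem.mpr (Ideal.subset_span rfl)
    rw [h0]
    exact Ideal.zero_mem _
  · rw [h1]
    intro hmem
    apply hgP
    rw [map_mul]
    refine Ideal.mul_mem_left _ _ ?_
    have : Polynomial.C (D f) = -Polynomial.C (-(D f)) := by rw [map_neg, neg_neg]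
    rw [this]
    exact (Ideal.neg_mem_iff _).mpr hmem

end Quot

section RootStep

variable (p : ℕ) [hp : Fact p.Prime] (B C : Type u) [CommRing B] [IsDomain B] [IsNoetherianRing B]
  [CharP B p] [CommRing C] [IsDomain C] [Algebra B C] [Module.Finite B C] [FaithfulSMul B C]

/-- **Root step** for generic regularity. -/
theorem GR_of_root (a : C) (f : B) (haf : a ^ p = algebraMap B C f)
    (hgen : Algebra.adjoin B {a} = ⊤)
    (hf : ∀ x : FractionRing B, x ^ p ≠ algebraMap B (FractionRing B) f)
    (D : IntDer B) (hD : D f ≠ 0) (hB : GR B) : GR C := by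
  obtain ⟨g, hg0, hg⟩ := hB
  obtain ⟨e, he⟩ := exists_ringEquiv_quotient p B C a f haf hgen hf
  refine GR.of_ringEquiv e ⟨Ideal.Quotient.mk _ (Polynomial.C (g * D f)), ?_, fun 𝔭 _ h𝔭 =>
    isRegularLocalRing_quotient_atPrime p B f D g hg 𝔭 h𝔭⟩
  intro h0
  have h1 := congrArg e h0
  rw [he, aeval_C, map_zero] at h1
  have hne : g * D f ≠ 0 := mul_ne_zero hg0 hD
  exact hne (FaithfulSMul.algebraMap_injective B C (h1.trans (map_zero _).symm))

end RootStep

end Groth.Agent.H23.GR
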