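import Mathlib
import Groth.Agent.H23.GRStepGR
import Groth.Agent.H23.TowerGen
import Groth.Agent.H23.GRMain
import Groth.Agent.H13.J2Crit

/-!
# Complete Noetherian local rings are J-2

Generic regularity (`H13.GenReg.GR`) of complete Noetherian local domains via the tower argument,
then EGA IV 6.12.4 (`H13.J2Crit`).
-/

set_option autoImplicit false
set_option linter.style.haveILetI false
set_option linter.unusedSectionVars false
set_option linter.unusedVariables false
universe u

namespace Groth.Agent.H23.GR

open IsLocalRing TensorProduct Polynomial Groth.Agent.H13.GenReg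

attribute [local instance] FractionRing.liftAlgebra

/-- the tower argument for generic regularity. -/
theorem GR_of_finite (p : ℕ) [hp : Fact p.Prime] (A₀ : Type u) [CommRing A₀] [IsNoetherianRing A₀]
    [CharP A₀ p] (hder : HasDer p A₀) (hA : GR A₀)
    (T : Type u) [CommRing T] [IsDomain T] [Algebra A₀ T] [Module.Finite A₀ T]
    (hinj : Function.Injective (algebraMap A₀ T)) : GR T :=
  Gen.P_of_finite p A₀ (fun X _ => GR X)
    (fun B C _ _ _ _ _ _ _ _ y hgen g hg hg' hB => GR_of_sepPoly B C y hgen g hg hg' hB)
    (fun B C _ _ _ _ _ _ _ _ _ a f haf hgen hf D hD hB =>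
      GR_of_root p B C a f haf hgen hf D hD hB) hder hA T hinj

/-- a regular domain is generically regular. -/
theorem GR_of_isRegularRing (B : Type u) [CommRing B] [Nontrivial B] [IsRegularRing B] : GR B :=
  ⟨1, one_ne_zero, fun Q _ _ => inferInstance⟩

/-- a complete Noetherian local domain is generically regular. -/
theorem GR_of_complete_local_domain (D : Type u) [CommRing D] [IsDomain D] [IsLocalRing D]
    [IsNoetherianRing D] [IsAdicComplete (maximalIdeal D) D] : GR D := by
  obtain ⟨q, hq⟩ := CharP.exists D
  rcases CharP.char_is_prime_or_zero D q with hqp | hq0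
  · haveI : Fact q.Prime := ⟨hqp⟩
    obtain ⟨s, hs⟩ := Groth.Agent.H47.exists_coeffField_charP q D
    have hsurj : Function.Surjective ((residue D).comp s) := by
      rw [hs]
      exact Function.surjective_id
    obtain ⟨n, f, hinj, hfin, -⟩ :=
      Groth.Agent.H96.CohenFinite2.main_of_coeffField D (ResidueField D) s hsurj
    letI : Algebra (MvPowerSeries (Fin n) (ResidueField D)) D := f.toAlgebra
    haveI : Module.Finite (MvPowerSeries (Fin n) (ResidueField D)) D := hfin
    haveI : CharP (ResidueField D) q := RingHom.charP s s.injective q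
    haveI : CharP (MvPowerSeries (Fin n) (ResidueField D)) q := RingHom.charP f hinj q
    haveI : IsRegularLocalRing (MvPowerSeries (Fin n) (ResidueField D)) :=
      isRegularLocalRing_ps _ (Or.inl (Field.toIsField _)) n
    haveI : IsRegularRing (MvPowerSeries (Fin n) (ResidueField D)) :=
      isRegularRing_of_isRegularLocalRing _
    exact GR_of_finite q (MvPowerSeries (Fin n) (ResidueField D)) (hasDer_ps q (ResidueField D) n)
      (GR_of_isRegularRing _) D hinj
  · subst hq0
    haveI : CharZero D := CharP.charP_to_charZero D
    obtain ⟨Λ, _, n, f, hΛ, hinj, hfin, -⟩ := Groth.Agent.S0581.result D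
    letI : Algebra (MvPowerSeries (Fin n) Λ) D := f.toAlgebra
    haveI : Module.Finite (MvPowerSeries (Fin n) Λ) D := hfin
    haveI : IsRegularLocalRing (MvPowerSeries (Fin n) Λ) := isRegularLocalRing_ps Λ hΛ n
    haveI : IsRegularRing (MvPowerSeries (Fin n) Λ) := isRegularRing_of_isRegularLocalRing _
    haveI : CharZero (MvPowerSeries (Fin n) Λ) := RingHom.charZero f
    haveI : IsDomain (MvPowerSeries (Fin n) Λ) := hinj.isDomain f
    haveI : FaithfulSMul (MvPowerSeries (Fin n) Λ) D :=
      (faithfulSMul_iff_algebraMap_injective _ D).mpr hinj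
    haveI : Algebra.IsIntegral (MvPowerSeries (Fin n) Λ) D := Algebra.IsIntegral.of_finite _ D
    have hB : ∀ b : D, IsIntegral (FractionRing (MvPowerSeries (Fin n) Λ))
        (algebraMap D (FractionRing D) b) := fun b =>
      (IsIntegral.algebraMap (B := FractionRing D)
        (Algebra.IsIntegral.isIntegral (R := MvPowerSeries (Fin n) Λ) b)).tower_top
    haveI h5 : Algebra.IsAlgebraic (FractionRing (MvPowerSeries (Fin n) Λ)) (FractionRing D) := by
      refine ⟨fun z => ?_⟩
      obtain ⟨x, y, _, rfl⟩ := IsFractionRing.div_surjective (A := D) z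
      rw [div_eq_mul_inv]
      exact ((hB x).mul (hB y).inv).isAlgebraic
    haveI : Algebra.IsSeparable (FractionRing (MvPowerSeries (Fin n) Λ)) (FractionRing D) :=
      inferInstance
    haveI : Algebra.FormallyEtale (FractionRing (MvPowerSeries (Fin n) Λ)) (FractionRing D) :=
      Algebra.FormallyEtale.of_isSeparable _ _
    haveI : Algebra.FormallySmooth (FractionRing (MvPowerSeries (Fin n) Λ)) (FractionRing D) :=
      inferInstance
    haveI : Algebra.FormallyEtale (MvPowerSeries (Fin n) Λ)
        (FractionRing (MvPowerSeries (Fin n) Λ)) :=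
      Algebra.FormallyEtale.of_isLocalization (nonZeroDivisors (MvPowerSeries (Fin n) Λ))
    haveI : Algebra.FormallySmooth (MvPowerSeries (Fin n) Λ)
        (FractionRing (MvPowerSeries (Fin n) Λ)) := inferInstance
    haveI : Algebra.FormallySmooth (MvPowerSeries (Fin n) Λ) (FractionRing D) :=
      Algebra.FormallySmooth.comp _ (FractionRing (MvPowerSeries (Fin n) Λ)) (FractionRing D)
    exact gr_of_formallySmooth (MvPowerSeries (Fin n) Λ) D hinj (GR_of_isRegularRing _)

/-- **A complete Noetherian local ring is J-2.** -/
theorem isJ2_of_complete (R : Type u) [CommRing R] [IsLocalRing R] [IsNoetherianRing R]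
    [IsAdicComplete (maximalIdeal R) R] : EGA4.IsJ2 R := by
  refine Groth.Agent.H13.J2Crit.isJ2_of_forall_finite_gr R (fun D _ _ _ hfin => ?_)
  haveI := hfin
  haveI : HenselianLocalRing R :=
    Groth.Agent.H22.FinitePart.henselianLocalRing_of_isAdicComplete R
  haveI : IsLocalRing D := Groth.Agent.H72.HensGeomInt.isLocalRing_of_finite_of_isDomain R D
  haveI : IsNoetherianRing D := IsNoetherianRing.of_finite R D
  haveI : IsAdicComplete (maximalIdeal D) D :=
    Groth.Agent.H72.QFFormal.isAdicComplete_of_finite_local R D
  exact GR_of_complete_local_domain D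

end Groth.Agent.H23.GR
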