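import Groth.Prelude.Def_EGA41
import Groth.Prelude.Def_CAlgX
import Mathlib.RingTheory.Ideal.Quotient.Nilpotent
import Mathlib.RingTheory.Smooth.Basic

set_option autoImplicit false
universe u

namespace Groth.Agent.H23

/-- If `π ∘ u` kills `𝔫 ^ k` and `J ^ t = 0` then `u` kills `𝔫 ^ (k * t)`. -/
theorem kills_pow_of_comp_mk {B S : Type*} [CommRing B] [CommRing S] (𝔫 : Ideal B) (J : Ideal S)
    (u : B →+* S) (k t : ℕ) (hk : ∀ x ∈ 𝔫 ^ k, Ideal.Quotient.mk J (u x) = 0) (ht : J ^ t = ⊥) :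
    ∀ x ∈ 𝔫 ^ (k * t), u x = 0 := by
  have h1 : Ideal.map u (𝔫 ^ k) ≤ J := by
    rw [Ideal.map_le_iff_le_comap]
    intro x hx
    rw [Ideal.mem_comap]
    exact Ideal.Quotient.eq_zero_iff_mem.mp (hk x hx)
  have h2 : Ideal.map u (𝔫 ^ (k * t)) ≤ ⊥ := by
    rw [pow_mul, Ideal.map_pow, ← ht]
    exact Ideal.pow_right_mono h1 t
  intro x hx
  have := h2 (Ideal.mem_map_of_mem u hx)
  simpa using this

/-- Nilpotent lifting from square-zero lifting, with continuity conditions. -/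
theorem adicSmooth_nilpotent_of_sqZero {A B : Type u} [CommRing A] [CommRing B] [Algebra A B]
    (𝔫 : Ideal B) (h : CAlgX.IsAdicFormallySmooth A B 𝔫)
    (C : Type u) [CommRing C] [Algebra A C] (J : Ideal C) (hJ : IsNilpotent J)
    (u : B →ₐ[A] C ⧸ J) (hu : ∃ k : ℕ, ∀ x ∈ 𝔫 ^ k, u x = 0) :
    ∃ v : B →ₐ[A] C, (Ideal.Quotient.mkₐ A J).comp v = u := by
  revert u
  revert ‹Algebra A C›
  have hJ' := hJ
  revert hJ'
  apply Ideal.IsNilpotent.induction_on (S := C) J hJ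
    (P := fun S _ I => IsNilpotent I → ∀ [Algebra A S] (u : B →ₐ[A] S ⧸ I),
      (∃ k : ℕ, ∀ x ∈ 𝔫 ^ k, u x = 0) → ∃ v : B →ₐ[A] S, (Ideal.Quotient.mkₐ A I).comp v = u)
  · intro S _ I hI _ _ u hu
    exact h S I hI u hu
  · intro S _ I J hIJ h₁ h₂ hJnil _ g hg
    obtain ⟨t, ht⟩ := hJnil
    have hInil : IsNilpotent I := ⟨t, by
      rw [Ideal.zero_eq_bot, eq_bot_iff, ← Ideal.zero_eq_bot, ← ht]
      exact Ideal.pow_right_mono hIJ t⟩
    have hJ'nil : (J.map (Ideal.Quotient.mk I)) ^ t = ⊥ := by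
      rw [← Ideal.map_pow, ht, Ideal.zero_eq_bot, Ideal.map_bot]
    let e : ((S ⧸ I) ⧸ J.map (Ideal.Quotient.mk I)) ≃ₐ[A] S ⧸ J :=
      { (DoubleQuot.quotQuotEquivQuotSup I J).trans
          (Ideal.quotEquivOfEq (sup_eq_right.mpr hIJ)) with
        commutes' := fun x => rfl }
    obtain ⟨k, hk⟩ := hg
    obtain ⟨g', e1⟩ := h₂ ⟨t, hJ'nil⟩ (e.symm.toAlgHom.comp g) ⟨k, fun x hx => by
      simp [hk x hx]⟩
    have hg' : ∃ k : ℕ, ∀ x ∈ 𝔫 ^ k, g' x = 0 := by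
      refine ⟨k * t, kills_pow_of_comp_mk 𝔫 (J.map (Ideal.Quotient.mk I)) g'.toRingHom k t ?_ hJ'nil⟩
      intro x hx
      have := congrArg (fun φ => φ x) e1
      simp only [AlgHom.comp_apply, Ideal.Quotient.mkₐ_eq_mk] at this
      rw [AlgHom.toRingHom_eq_coe, RingHom.coe_coe, this]
      simp [hk x hx]
    obtain ⟨g'', rfl⟩ := h₁ hInil g' hg'
    replace e1 := congr_arg e.toAlgHom.comp e1
    conv_rhs at e1 =>
      rw [← AlgHom.comp_assoc, AlgEquiv.comp_symm, AlgHom.id_comp]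
    exact ⟨g'', e1⟩

end Groth.Agent.H23
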