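import Groth.Agent.H23.AdicOfFlat
import Groth.Agent.H23.AdicLocal
import Groth.Agent.S4537
import Groth.Agent.S4542
import Groth.Agent.S4515
import Groth.Agent.H47.CohenArtin

/-!
# Uniqueness of flat complete lifts with formally smooth reduction (EGA 0_IV 19.7.2, uniqueness)

* `isAdicComplete_of_le`: a Noetherian ring complete for `𝔫` is complete for every `I ≤ 𝔫`;
* `exists_algEquiv_of_flat_lifts`: two flat complete Noetherian local `A`-algebras `B`, `B'` with
  the same reduction `R` modulo `J` (adically formally smooth over `A/J`) are `A`-isomorphic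
  compatibly with the reductions.
-/

set_option autoImplicit false
set_option linter.style.haveILetI false

namespace Groth.Agent.H23.FlatLiftUnique

open IsLocalRing

universe u

section Complete

variable {B : Type*} [CommRing B] [IsNoetherianRing B]

/-- A Noetherian ring complete for the `𝔫`-adic topology is complete for the `I`-adic topology of
every ideal `I ≤ 𝔫`. -/
theorem isAdicComplete_of_le (𝔫 I : Ideal B) [IsAdicComplete 𝔫 B] (hI : I ≤ 𝔫) :
    IsAdicComplete I B := by
  have hjac : 𝔫 ≤ Ideal.jacobson ⊥ := IsAdicComplete.le_jacobson_bot 𝔫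
  haveI : IsHausdorff I B := IsHausdorff.of_le_jacobson I B (hI.trans hjac)
  refine { prec' := ?_ }
  intro f hf
  have hf' : ∀ {m n}, m ≤ n → f m ≡ f n [SMOD (𝔫 ^ m • ⊤ : Submodule B B)] := by
    intro m n hmn
    have h1 := hf hmn
    rw [SModEq.sub_mem] at h1 ⊢
    exact (Submodule.smul_mono_left (Ideal.pow_right_mono hI m)) h1
  obtain ⟨L, hL⟩ := IsPrecomplete.prec (I := 𝔫) inferInstance hf'
  refine ⟨L, fun n => ?_⟩
  rw [SModEq.sub_mem]
  haveI : IsHausdorff 𝔫 (B ⧸ (I ^ n)) := IsHausdorff.of_le_jacobson 𝔫 _ hjac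
  have h0 : Ideal.Quotient.mk (I ^ n) (f n - L) = 0 := by
    apply IsHausdorff.haus' (I := 𝔫)
    intro k
    rw [SModEq.zero]
    have h1 : f n - f (max n k) ∈ I ^ n := by
      have := hf (le_max_left n k)
      rw [SModEq.sub_mem] at this
      simpa using this
    have h2 : f (max n k) - L ∈ 𝔫 ^ k := by
      have := hL (max n k)
      rw [SModEq.sub_mem] at this
      have h3 : f (max n k) - L ∈ 𝔫 ^ (max n k) := by simpa using this
      exact Ideal.pow_le_pow_right (le_max_right n k) h3
    have h4 : Ideal.Quotient.mk (I ^ n) (f n - L) =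
        (f (max n k) - L) • (1 : B ⧸ (I ^ n)) := by
      have h5 : f n - L = (f n - f (max n k)) + (f (max n k) - L) := by ring
      rw [h5, map_add, Ideal.Quotient.eq_zero_iff_mem.2 h1, zero_add, Algebra.smul_def, mul_one]
      rfl
    rw [h4]
    exact Submodule.smul_mem_smul h2 Submodule.mem_top
  have h6 := Ideal.Quotient.eq_zero_iff_mem.1 h0
  simpa using h6

end Complete

section Unique

variable {A B B' R : Type u} [CommRing A] [CommRing B] [CommRing B'] [CommRing R]
  [IsLocalRing B] [IsNoetherianRing B] [IsAdicComplete (maximalIdeal B) B]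
  [IsLocalRing B'] [IsNoetherianRing B'] [IsAdicComplete (maximalIdeal B') B']
  [Algebra A B] [Algebra A B'] [Module.Flat A B] [Module.Flat A B']
  [IsLocalRing R] [Algebra A R]

/-- **EGA 0_IV 19.7.2 (uniqueness)**: two flat complete Noetherian local `A`-algebras with the same
reduction `R` modulo `J`, where `R` is adically formally smooth over `A/J`, are isomorphic. -/
theorem exists_algEquiv_of_flat_lifts (J : Ideal A) [Algebra (A ⧸ J) R] [IsScalarTower A (A ⧸ J) R]
    (hR : CAlgX.IsAdicFormallySmooth (A ⧸ J) R (maximalIdeal R))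
    (p : B →ₐ[A] R) (hp : Function.Surjective p)
    (hpk : RingHom.ker p = J.map (algebraMap A B))
    (p' : B' →ₐ[A] R) (hp' : Function.Surjective p')
    (hpk' : RingHom.ker p' = J.map (algebraMap A B')) :
    ∃ v : B ≃ₐ[A] B', ∀ b, p' (v b) = p b := by
  have hJB : J.map (algebraMap A B) ≤ maximalIdeal B :=
    hpk ▸ IsLocalRing.le_maximalIdeal (RingHom.ker_ne_top _)
  have hJB' : J.map (algebraMap A B') ≤ maximalIdeal B' :=
    hpk' ▸ IsLocalRing.le_maximalIdeal (RingHom.ker_ne_top _)
  have hploc : ∀ b : B, p b ∈ maximalIdeal R → b ∈ maximalIdeal B := by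
    intro b hb
    rw [mem_maximalIdeal, mem_nonunits_iff] at hb ⊢
    exact fun hu => hb (hu.map p)
  -- `B` is adically formally smooth over `A`
  let f₀ : (B ⧸ J.map (algebraMap A B)) →+* R :=
    Ideal.Quotient.lift (J.map (algebraMap A B)) (p : B →+* R) (fun b hb => by
      rw [← hpk] at hb; exact hb)
  have hf₀mk : ∀ b : B, f₀ (Ideal.Quotient.mk _ b) = p b := fun b => rfl
  let f : (B ⧸ J.map (algebraMap A B)) →ₐ[A ⧸ J] R :=
    { f₀ with
      commutes' := fun c => by
        obtain ⟨a, rfl⟩ := Ideal.Quotient.mk_surjective c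
        show f₀ (Ideal.Quotient.mk _ (algebraMap A B a)) = _
        rw [hf₀mk, AlgHom.commutes, IsScalarTower.algebraMap_apply A (A ⧸ J) R]
        rfl }
  have hfmk : ∀ b : B, f (Ideal.Quotient.mk _ b) = p b := fun b => rfl
  have hfbij : Function.Bijective f := by
    constructor
    · rw [injective_iff_map_eq_zero]
      intro x hx
      obtain ⟨b, rfl⟩ := Ideal.Quotient.mk_surjective x
      rw [hfmk] at hx
      have : b ∈ RingHom.ker p := hx
      rw [hpk] at this
      exact Ideal.Quotient.eq_zero_iff_mem.2 this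
    · intro y
      obtain ⟨b, rfl⟩ := hp y
      exact ⟨Ideal.Quotient.mk _ b, rfl⟩
  let e : (B ⧸ J.map (algebraMap A B)) ≃ₐ[A ⧸ J] R := AlgEquiv.ofBijective f hfbij
  have hemk : ∀ b : B, e (Ideal.Quotient.mk _ b) = p b := fun b => rfl
  have h₀ : CAlgX.IsAdicFormallySmooth (A ⧸ J) (B ⧸ J.map (algebraMap A B))
      ((maximalIdeal B).map (Ideal.Quotient.mk (J.map (algebraMap A B)))) := by
    refine Groth.Agent.H23.AdicLocal.adic_of_algEquiv e _ _ ?_ hR
    intro y hy
    obtain ⟨b, hb⟩ := Ideal.Quotient.mk_surjective (e.symm y)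
    rw [← hb]
    refine Ideal.mem_map_of_mem _ (hploc b ?_)
    rw [← hemk, hb, AlgEquiv.apply_symm_apply]
    exact hy
  have hBfs : CAlgX.IsAdicFormallySmooth A B (maximalIdeal B) :=
    Groth.Agent.H23.AdicOfFlat.adic_of_flat_of_quotient J (maximalIdeal B) hJB h₀
  have hfs' : EGA41.IsFormallySmoothAdic A ⊥ B (maximalIdeal B) :=
    (Groth.Agent.S4537.result (maximalIdeal B)).mp hBfs
  -- lift `B → B' ⧸ ker p'`
  let ebar : (B' ⧸ RingHom.ker p') ≃ₐ[A] R := Ideal.quotientKerAlgEquivOfSurjective hp'
  have hebar : ∀ c : B', ebar (Ideal.Quotient.mk _ c) = p' c := fun c => rfl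
  let u : B →ₐ[A] B' ⧸ RingHom.ker p' := (ebar.symm : _ →ₐ[A] B' ⧸ RingHom.ker p').comp p
  have hu : ∀ b : B, ebar (u b) = p b := fun b => ebar.apply_symm_apply (p b)
  haveI : IsLocalRing (B' ⧸ RingHom.ker p') := ebar.symm.toRingEquiv.isLocalRing
  have hmCJ : (maximalIdeal B').map (Ideal.Quotient.mk (RingHom.ker p')) =
      maximalIdeal (B' ⧸ RingHom.ker p') :=
    Groth.Agent.H47.CohenArtin.map_maximalIdeal_of_surjective _ Ideal.Quotient.mk_surjective
  haveI : IsHausdorff ((maximalIdeal B').map (Ideal.Quotient.mk (RingHom.ker p')))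
      (B' ⧸ RingHom.ker p') := by
    rw [hmCJ]
    infer_instance
  have hJle : RingHom.ker p' ≤ maximalIdeal B' :=
    IsLocalRing.le_maximalIdeal (RingHom.ker_ne_top _)
  obtain ⟨v, -, hv⟩ := Groth.Agent.S4542.result (⊥ : Ideal A) (maximalIdeal B) (maximalIdeal B')
    hfs' ⟨1, by rw [pow_one, Ideal.map_bot]; exact bot_le⟩ (RingHom.ker p')
    ⟨1, by rw [pow_one]; exact hJle⟩ u
    ⟨1, by
      rw [pow_one, hmCJ, Ideal.map_le_iff_le_comap]
      intro x hx
      rw [Ideal.mem_comap, mem_maximalIdeal, mem_nonunits_iff]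
      intro hux
      have h1 : IsUnit (p x) := by
        have := hux.map ebar
        rwa [show ebar (u.toRingHom x) = p x from hu x] at this
      have h2 : p x ∈ maximalIdeal R := by
        rw [← Groth.Agent.H47.CohenArtin.map_maximalIdeal_of_surjective (p : B →+* R) hp]
        exact Ideal.mem_map_of_mem _ hx
      exact (mem_maximalIdeal _).1 h2 h1⟩
  have hvb : ∀ b : B, p' (v b) = p b := by
    intro b
    have h1 : Ideal.Quotient.mk (RingHom.ker p') (v b) = u b := AlgHom.congr_fun hv b
    rw [← hebar, h1, hu]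
  -- bijectivity
  haveI : IsHausdorff J B' := IsHausdorff.of_map (J := maximalIdeal B') hJB'
  haveI : IsAdicComplete J B :=
    (IsAdicComplete.map_algebraMap_iff J B (S := B)).1
      (isAdicComplete_of_le (maximalIdeal B) (J.map (algebraMap A B)) hJB)
  have hbij : Function.Bijective v.toLinearMap := by
    apply Groth.Agent.S4515.result J v.toLinearMap
    · intro b'
      obtain ⟨b, hb⟩ := hp (p' b')
      refine ⟨b, ?_⟩
      rw [Ideal.smul_top_eq_map]
      show b' - v b ∈ J.map (algebraMap A B')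
      rw [← hpk']
      show p' (b' - v b) = 0
      rw [map_sub, hvb, hb, sub_self]
    · intro b hb
      rw [Ideal.smul_top_eq_map] at hb ⊢
      have hb' : v b ∈ J.map (algebraMap A B') := hb
      show b ∈ J.map (algebraMap A B)
      rw [← hpk'] at hb'
      rw [← hpk]
      show p b = 0
      rw [← hvb]
      exact hb'
  exact ⟨AlgEquiv.ofBijective v hbij, hvb⟩

end Unique

end Groth.Agent.H23.FlatLiftUnique
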