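import Mathlib
import Groth.Prelude.Def_CAlgX
import Groth.Agent.H23.AdicSplit

/-!
# A criterion for adic formal smoothness over `k`, given adic formal smoothness over a subring `k₀`
(EGA 0_IV 20.7.? / 22.5.? type): for a local `k`-algebra `A`, adically formally smooth over `k₀`,
injectivity of `K ⊗ Ω_{k/k₀} → K ⊗ Ω_{A/k₀}` implies adic formal smoothness over `k`.
-/

set_option autoImplicit false

namespace Groth.Agent.H23.FSCriterion

open TensorProduct KaehlerDifferential IsLocalRing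

universe u

section reduction

variable {k A : Type u} [CommRing k] [CommRing A] [Algebra k A] (𝔫 : Ideal A)

/-- Reduction: it suffices to lift along square-zero surjections whose kernel is killed by the
preimage of the ideal generated by `ψ(𝔫)`. -/
theorem liftProp_of_killed
    (h : ∀ (E E₀ : Type u) [CommRing E] [CommRing E₀] [Algebra k E] [Algebra k E₀]
      (π : E →ₐ[k] E₀), Function.Surjective π → RingHom.ker π ^ 2 = ⊥ →
      ∀ ψ : A →ₐ[k] E₀, (∃ n : ℕ, ∀ x ∈ 𝔫 ^ n, ψ x = 0) →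
      (Ideal.comap π (Ideal.map ψ 𝔫)) * RingHom.ker π = ⊥ →
      ∃ χ : A →ₐ[k] E, π.comp χ = ψ) :
    AdicSplit.LiftProp k A 𝔫 := by
  have key : ∀ i : ℕ, 1 ≤ i → ∀ (E E₀ : Type u) [CommRing E] [CommRing E₀] [Algebra k E]
      [Algebra k E₀] (π : E →ₐ[k] E₀), Function.Surjective π → RingHom.ker π ^ 2 = ⊥ →
      ∀ ψ : A →ₐ[k] E₀, (∃ n : ℕ, ∀ x ∈ 𝔫 ^ n, ψ x = 0) →
      (Ideal.comap π (Ideal.map ψ 𝔫)) ^ i * RingHom.ker π = ⊥ →
      ∃ χ : A →ₐ[k] E, π.comp χ = ψ := by
    intro i hi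
    induction i, hi using Nat.le_induction with
    | base =>
      intro E E₀ _ _ _ _ π hπ hsq ψ hψ hkill
      rw [pow_one] at hkill
      exact h E E₀ π hπ hsq ψ hψ hkill
    | succ i hi ih =>
      intro E E₀ _ _ _ _ π hπ hsq ψ hψ hkill
      set K := RingHom.ker π with hK
      set 𝔐 : Ideal E := Ideal.comap π (Ideal.map ψ 𝔫) with h𝔐
      set K' : Ideal E := 𝔐 ^ i * K with hK'
      have hK'K : K' ≤ K := Ideal.mul_le_right
      let π' : (E ⧸ K') →ₐ[k] E₀ := Ideal.Quotient.liftₐ K' π (fun x hx => hK'K hx)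
      have hπ' : Function.Surjective π' := by
        intro y
        obtain ⟨x, rfl⟩ := hπ y
        exact ⟨Ideal.Quotient.mk K' x, rfl⟩
      have hkerπ' : RingHom.ker π' ≤ K.map (Ideal.Quotient.mk K') := by
        intro y hy
        obtain ⟨x, rfl⟩ := Ideal.Quotient.mk_surjective y
        have : π x = 0 := hy
        exact Ideal.mem_map_of_mem _ this
      have hsq' : RingHom.ker π' ^ 2 = ⊥ := by
        rw [eq_bot_iff]
        refine (Ideal.pow_right_mono hkerπ' 2).trans ?_
        rw [← Ideal.map_pow, hsq, Ideal.map_bot]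
      have h𝔐' : Ideal.comap π' (Ideal.map ψ 𝔫) ≤ 𝔐.map (Ideal.Quotient.mk K') := by
        intro y hy
        obtain ⟨x, rfl⟩ := Ideal.Quotient.mk_surjective y
        have : π x ∈ Ideal.map ψ 𝔫 := hy
        exact Ideal.mem_map_of_mem _ this
      have hkill' : (Ideal.comap π' (Ideal.map ψ 𝔫)) ^ i * RingHom.ker π' = ⊥ := by
        rw [eq_bot_iff]
        refine (Ideal.mul_mono (Ideal.pow_right_mono h𝔐' i) hkerπ').trans ?_
        rw [← Ideal.map_pow, ← Ideal.map_mul]
        change Ideal.map (Ideal.Quotient.mk K') K' ≤ ⊥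
        rw [Ideal.map_quotient_self]
      obtain ⟨ψ', hψ'⟩ := ih (E ⧸ K') E₀ π' hπ' hsq' ψ hψ hkill'
      have hψ'x : ∀ x, π' (ψ' x) = ψ x := fun x => congrArg (fun φ => φ x) hψ'
      have hψ'c : ∃ n : ℕ, ∀ x ∈ 𝔫 ^ n, ψ' x = 0 := by
        obtain ⟨n, hn⟩ := hψ
        refine ⟨n * 2, AdicSplit.kills_pow 𝔫 (ψ' : A →+* E ⧸ K') (π' : (E ⧸ K') →+* E₀) n 2 ?_ hsq'⟩
        intro x hx
        change π' (ψ' x) = 0
        rw [hψ'x]
        exact hn x hx
      have hkermk : RingHom.ker (Ideal.Quotient.mkₐ k K') = K' := by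
        ext x; simp [Ideal.Quotient.eq_zero_iff_mem]
      have hsqK' : RingHom.ker (Ideal.Quotient.mkₐ k K') ^ 2 = ⊥ := by
        rw [hkermk, eq_bot_iff, ← hsq]
        exact Ideal.pow_right_mono hK'K 2
      have h𝔐'' : Ideal.comap (Ideal.Quotient.mkₐ k K') (Ideal.map ψ' 𝔫) ≤ 𝔐 := by
        intro x hx
        rw [h𝔐, Ideal.mem_comap]
        have h0 : Ideal.map ψ' 𝔫 ≤ Ideal.comap π' (Ideal.map ψ 𝔫) := by
          rw [Ideal.map_le_iff_le_comap]
          intro a ha
          rw [Ideal.mem_comap, Ideal.mem_comap, hψ'x]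
          exact Ideal.mem_map_of_mem _ ha
        exact h0 hx
      have hkillK' : (Ideal.comap (Ideal.Quotient.mkₐ k K') (Ideal.map ψ' 𝔫)) *
          RingHom.ker (Ideal.Quotient.mkₐ k K') = ⊥ := by
        rw [hkermk, eq_bot_iff, ← hkill, pow_succ', mul_assoc]
        exact Ideal.mul_mono_left h𝔐''
      obtain ⟨χ, hχ⟩ := h E (E ⧸ K') (Ideal.Quotient.mkₐ k K')
        (Ideal.Quotient.mkₐ_surjective k K') hsqK' ψ' hψ'c hkillK'
      refine ⟨χ, ?_⟩
      rw [← hψ', ← hχ]
      ext x
      rfl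
  intro E E₀ _ _ _ _ π hπ hsq ψ hψ
  obtain ⟨n, hn⟩ := hψ
  refine key (n + 1) (Nat.le_add_left 1 n) E E₀ π hπ hsq ψ ⟨n, hn⟩ ?_
  have h1 : (Ideal.comap π (Ideal.map ψ 𝔫)) ^ n ≤ RingHom.ker π := by
    refine (Ideal.le_comap_pow π n).trans ?_
    intro x hx
    rw [Ideal.mem_comap, ← Ideal.map_pow] at hx
    have h2 : Ideal.map ψ (𝔫 ^ n) ≤ ⊥ := by
      rw [Ideal.map_le_iff_le_comap]
      intro y hy
      rw [Ideal.mem_comap, Ideal.mem_bot]
      exact hn y hy
    exact Ideal.mem_bot.mp (h2 hx)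
  rw [eq_bot_iff, ← hsq, pow_two]
  exact Ideal.mul_mono ((Ideal.pow_le_pow_right (Nat.le_succ n)).trans h1) le_rfl

end reduction

section criterion

variable {k₀ k A : Type u} [CommRing k₀] [CommRing k] [CommRing A] [IsLocalRing A]
  [Algebra k₀ k] [Algebra k A] [Algebra k₀ A] [IsScalarTower k₀ k A]

/-- The key lifting step: kernel killed by the maximal ideal. -/
theorem lift_of_injective
    (h₀ : CAlgX.IsAdicFormallySmooth k₀ A (maximalIdeal A))
    (hinj : Function.Injective
      ((KaehlerDifferential.mapBaseChange k₀ k A).lTensor (ResidueField A)))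
    (E E₀ : Type u) [CommRing E] [CommRing E₀] [Algebra k E] [Algebra k E₀]
    (π : E →ₐ[k] E₀) (hπ : Function.Surjective π) (hsq : RingHom.ker π ^ 2 = ⊥)
    (ψ : A →ₐ[k] E₀) (hψ : ∃ n : ℕ, ∀ x ∈ maximalIdeal A ^ n, ψ x = 0)
    (hkill : (Ideal.comap π (Ideal.map ψ (maximalIdeal A))) * RingHom.ker π = ⊥) :
    ∃ χ : A →ₐ[k] E, π.comp χ = ψ := by
  classical
  letI algk₀E : Algebra k₀ E := Algebra.compHom E (algebraMap k₀ k)
  letI algk₀E₀ : Algebra k₀ E₀ := Algebra.compHom E₀ (algebraMap k₀ k)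
  haveI towE : IsScalarTower k₀ k E := IsScalarTower.of_algebraMap_eq (fun _ => rfl)
  haveI towE₀ : IsScalarTower k₀ k E₀ := IsScalarTower.of_algebraMap_eq (fun _ => rfl)
  -- a `k₀`-lift
  obtain ⟨χ₀, hχ₀⟩ := AdicSplit.liftProp_of_adic h₀ E E₀ (π.restrictScalars k₀) hπ hsq
    (ψ.restrictScalars k₀) hψ
  have hχ₀x : ∀ a, π (χ₀ a) = ψ a := fun a => congrArg (fun φ => φ a) hχ₀
  -- products in the kernel vanish
  have hNN : ∀ x ∈ RingHom.ker π, ∀ y ∈ RingHom.ker π, x * y = 0 := by
    intro x hx y hy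
    have : x * y ∈ RingHom.ker π ^ 2 := by rw [pow_two]; exact Ideal.mul_mem_mul hx hy
    rw [hsq] at this
    exact Ideal.mem_bot.mp this
  have hmN : ∀ a ∈ maximalIdeal A, ∀ y ∈ RingHom.ker π, χ₀ a * y = 0 := by
    intro a ha y hy
    have h1 : χ₀ a ∈ Ideal.comap π (Ideal.map ψ (maximalIdeal A)) := by
      rw [Ideal.mem_comap, hχ₀x]
      exact Ideal.mem_map_of_mem _ ha
    have : χ₀ a * y ∈ (Ideal.comap π (Ideal.map ψ (maximalIdeal A))) * RingHom.ker π :=
      Ideal.mul_mem_mul h1 hy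
    rw [hkill] at this
    exact Ideal.mem_bot.mp this
  -- the difference on `k`
  have hDmem : ∀ c : k, χ₀ (algebraMap k A c) - algebraMap k E c ∈ RingHom.ker π := by
    intro c
    rw [RingHom.mem_ker, map_sub, hχ₀x, AlgHom.commutes, AlgHom.commutes, sub_self]
  -- module structures on the kernel
  letI algAE : Algebra A E := χ₀.toRingHom.toAlgebra
  have hAsmul : ∀ (a : A) (e : E), a • e = χ₀ a * e := fun a e => rfl
  haveI towk₀AE : IsScalarTower k₀ A E := IsScalarTower.of_algebraMap_eq (fun c => by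
    show algebraMap k₀ E c = χ₀ (algebraMap k₀ A c)
    rw [χ₀.commutes])
  let N : Submodule E E := RingHom.ker π
  have hNmem : ∀ x : N, (x : E) ∈ RingHom.ker π := fun x => x.2
  haveI towkAN : IsScalarTower k A N := ⟨fun c a n => by
    apply Subtype.ext
    show (c • a) • (n : E) = c • (a • (n : E))
    rw [hAsmul, hAsmul, Algebra.smul_def c a, map_mul, Algebra.smul_def c (χ₀ a * (n : E)),
      mul_assoc]
    have h1 := hNN _ (hDmem c) _ (Ideal.mul_mem_left _ (χ₀ a) (hNmem n))
    rw [sub_mul, sub_eq_zero] at h1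
    exact h1⟩
  haveI towk₀kN : IsScalarTower k₀ k N := ⟨fun c₀ c n => by
    apply Subtype.ext
    show (c₀ • c) • (n : E) = c₀ • (c • (n : E))
    rw [smul_assoc]⟩
  haveI towk₀AN : IsScalarTower k₀ A N := ⟨fun c₀ a n => by
    apply Subtype.ext
    show (c₀ • a) • (n : E) = c₀ • (a • (n : E))
    rw [smul_assoc]⟩
  -- the derivation `k → N`
  let D : Derivation k₀ k N :=
    { toFun := fun c => ⟨χ₀ (algebraMap k A c) - algebraMap k E c, hDmem c⟩
      map_add' := fun c c' => by
        apply Subtype.ext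
        show χ₀ (algebraMap k A (c + c')) - algebraMap k E (c + c') = _ + _
        simp only [map_add]
        ring
      map_smul' := fun c₀ c => by
        apply Subtype.ext
        show χ₀ (algebraMap k A (c₀ • c)) - algebraMap k E (c₀ • c) =
          c₀ • (χ₀ (algebraMap k A c) - algebraMap k E c)
        rw [Algebra.smul_def c₀ c, map_mul, map_mul, map_mul, ← IsScalarTower.algebraMap_apply,
          χ₀.commutes, ← IsScalarTower.algebraMap_apply, Algebra.smul_def, mul_sub]
      map_one_eq_zero' := by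
        apply Subtype.ext
        show χ₀ (algebraMap k A 1) - algebraMap k E 1 = 0
        rw [map_one, map_one, map_one, sub_self]
      leibniz' := fun c c' => by
        apply Subtype.ext
        show χ₀ (algebraMap k A (c * c')) - algebraMap k E (c * c') =
          c • (χ₀ (algebraMap k A c') - algebraMap k E c') +
            c' • (χ₀ (algebraMap k A c) - algebraMap k E c)
        have h1 := hNN _ (hDmem c) _ (hDmem c')
        rw [Algebra.smul_def, Algebra.smul_def, map_mul, map_mul, map_mul]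
        linear_combination h1 }
  have hD : ∀ c : k, ((D c : N) : E) = χ₀ (algebraMap k A c) - algebraMap k E c := fun c => rfl
  let g : Ω[k⁄k₀] →ₗ[k] N := D.liftKaehlerDifferential
  let gA : A ⊗[k] Ω[k⁄k₀] →ₗ[A] N := LinearMap.liftBaseChange A g
  -- `N` is killed by the maximal ideal
  have hkillN : ∀ a ∈ maximalIdeal A, ∀ n : N, a • n = 0 := by
    intro a ha n
    apply Subtype.ext
    show a • (n : E) = 0
    rw [hAsmul]
    exact hmN a ha _ (hNmem n)
  -- a left inverse on residue fibres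
  let ι : ResidueField A ⊗[A] (A ⊗[k] Ω[k⁄k₀]) →ₗ[ResidueField A] ResidueField A ⊗[A] Ω[A⁄k₀] :=
    (KaehlerDifferential.mapBaseChange k₀ k A).baseChange (ResidueField A)
  have hι : Function.Injective ι := by
    have : (ι : _ → _) = ((KaehlerDifferential.mapBaseChange k₀ k A).lTensor (ResidueField A)) :=
      LinearMap.baseChange_eq_ltensor _
    rw [this]
    exact hinj
  obtain ⟨r, hr⟩ := ι.exists_leftInverse_of_injective (LinearMap.ker_eq_bot.mpr hι)
  -- the induced map from the fibre to `N`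
  have hker : (maximalIdeal A : Submodule A A) ≤
      LinearMap.ker (LinearMap.toSpanSingleton A ((A ⊗[k] Ω[k⁄k₀]) →ₗ[A] N) gA) := by
    intro a ha
    rw [LinearMap.mem_ker, LinearMap.toSpanSingleton_apply]
    refine LinearMap.ext fun y => ?_
    rw [LinearMap.smul_apply, hkillN a ha]
    rfl
  let β : ResidueField A →ₗ[A] ((A ⊗[k] Ω[k⁄k₀]) →ₗ[A] N) :=
    Submodule.liftQ (maximalIdeal A : Submodule A A)
      (LinearMap.toSpanSingleton A ((A ⊗[k] Ω[k⁄k₀]) →ₗ[A] N) gA) hker
  let ĝ : ResidueField A ⊗[A] (A ⊗[k] Ω[k⁄k₀]) →ₗ[A] N := TensorProduct.lift β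
  have hĝ : ∀ y, ĝ ((1 : ResidueField A) ⊗ₜ y) = gA y := by
    intro y
    have h1 : β (Submodule.Quotient.mk (1 : A)) =
        LinearMap.toSpanSingleton A ((A ⊗[k] Ω[k⁄k₀]) →ₗ[A] N) gA 1 :=
      Submodule.liftQ_apply _ _ _
    show β (Submodule.Quotient.mk (1 : A)) y = gA y
    rw [h1, LinearMap.toSpanSingleton_apply, one_smul]
  let hh : Ω[A⁄k₀] →ₗ[A] N :=
    ĝ ∘ₗ (r.restrictScalars A) ∘ₗ (TensorProduct.mk A (ResidueField A) (Ω[A⁄k₀]) 1)
  have hhmap : ∀ y, hh (KaehlerDifferential.mapBaseChange k₀ k A y) = gA y := by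
    intro y
    show ĝ (r ((1 : ResidueField A) ⊗ₜ (KaehlerDifferential.mapBaseChange k₀ k A y))) = gA y
    have h1 : ι ((1 : ResidueField A) ⊗ₜ y) =
        (1 : ResidueField A) ⊗ₜ (KaehlerDifferential.mapBaseChange k₀ k A y) :=
      LinearMap.baseChange_tmul _ _ _
    rw [← h1]
    have h2 : r (ι ((1 : ResidueField A) ⊗ₜ y)) = (1 : ResidueField A) ⊗ₜ y :=
      LinearMap.congr_fun hr _
    rw [h2, hĝ]
  let δ : Derivation k₀ A N := hh.compDer (KaehlerDifferential.D k₀ A)
  have hδ : ∀ a, δ a = hh (KaehlerDifferential.D k₀ A a) := fun a => rfl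
  have hδk : ∀ c : k, δ (algebraMap k A c) = D c := by
    intro c
    have h1 : KaehlerDifferential.mapBaseChange k₀ k A ((1 : A) ⊗ₜ KaehlerDifferential.D k₀ k c) =
        KaehlerDifferential.D k₀ A (algebraMap k A c) := by
      rw [KaehlerDifferential.mapBaseChange_tmul, one_smul, KaehlerDifferential.map_D]
    rw [hδ, ← h1, hhmap]
    show LinearMap.liftBaseChange A g ((1 : A) ⊗ₜ KaehlerDifferential.D k₀ k c) = D c
    rw [LinearMap.liftBaseChange_tmul, one_smul]
    exact Derivation.liftKaehlerDifferential_comp_D D c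
  -- the corrected lift
  have hδmul : ∀ a b : A, ((δ (a * b) : N) : E) = χ₀ a * (δ b : N) + χ₀ b * (δ a : N) := by
    intro a b
    rw [Derivation.leibniz]
    rfl
  let χ : A →ₐ[k] E :=
    { toFun := fun a => χ₀ a - (δ a : N)
      map_one' := by
        show χ₀ 1 - ((δ 1 : N) : E) = 1
        rw [Derivation.map_one_eq_zero, map_one]
        simp
      map_mul' := fun a b => by
        show χ₀ (a * b) - ((δ (a * b) : N) : E) =
          (χ₀ a - ((δ a : N) : E)) * (χ₀ b - ((δ b : N) : E))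
        have h1 := hNN _ (hNmem (δ a)) _ (hNmem (δ b))
        rw [hδmul, map_mul]
        linear_combination (-1 : E) * h1
      map_zero' := by
        show χ₀ 0 - ((δ 0 : N) : E) = 0
        rw [map_zero, map_zero]
        simp
      map_add' := fun a b => by
        show χ₀ (a + b) - ((δ (a + b) : N) : E) =
          (χ₀ a - ((δ a : N) : E)) + (χ₀ b - ((δ b : N) : E))
        rw [map_add, map_add]
        push_cast
        ring
      commutes' := fun c => by
        show χ₀ (algebraMap k A c) - ((δ (algebraMap k A c) : N) : E) = algebraMap k E c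
        rw [hδk, hD]
        ring }
  refine ⟨χ, ?_⟩
  ext a
  show π (χ₀ a - ((δ a : N) : E)) = ψ a
  rw [map_sub, hχ₀x, RingHom.mem_ker.mp (hNmem (δ a)), sub_zero]

/-- The criterion. -/
theorem adic_of_injective
    (h₀ : CAlgX.IsAdicFormallySmooth k₀ A (maximalIdeal A))
    (hinj : Function.Injective
      ((KaehlerDifferential.mapBaseChange k₀ k A).lTensor (ResidueField A))) :
    CAlgX.IsAdicFormallySmooth k A (maximalIdeal A) := by
  apply AdicSplit.adic_of_liftProp
  apply liftProp_of_killed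
  intro E E₀ _ _ _ _ π hπ hsq ψ hψ hkill
  exact lift_of_injective h₀ hinj E E₀ π hπ hsq ψ hψ hkill

end criterion

end Groth.Agent.H23.FSCriterion
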