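import Mathlib
import Groth.Prelude.Def_CAlgX
import Groth.Agent.H23.AdicSplit
import Groth.Agent.H23.FSCriterion
import Groth.Agent.S4515

/-!
# EGA 0_IV 19.7.1, `b) ⇒ a)`: a flat homomorphism with adically formally smooth closed fibre is
adically formally smooth.

* `exists_section_of_inf_eq_bot`: gluing a section modulo `Q` when `ker ρ ⊓ Q = ⊥`;
* `exists_section_of_liftProp`: extensions of an adically formally smooth Noetherian algebra with
  kernel killed by the preimage of the ideal of definition split (Artin–Rees);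
* `adic_of_flat_of_quotient`, `adic_of_flat`: the main results;
* `adic_iff_of_bijective`: invariance under a bijective change of base ring.
-/

set_option autoImplicit false
set_option linter.style.haveILetI false

namespace Groth.Agent.H23.AdicOfFlat

universe u

section LemmaU

variable {k T R : Type*} [CommRing k] [CommRing T] [CommRing R] [Algebra k T] [Algebra k R]

/-- Gluing a section modulo `Q` with the identity of `R` when `ker ρ ⊓ Q = ⊥`. -/
theorem exists_section_of_inf_eq_bot (ρ : T →ₐ[k] R) (hρ : Function.Surjective ρ) (Q : Ideal T)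
    (hQ : RingHom.ker ρ ⊓ Q = ⊥) (σ : R →ₐ[k] T ⧸ Q)
    (hσ : ∀ r, ∃ t, Ideal.Quotient.mk Q t = σ r ∧ ρ t - r ∈ Q.map ρ) :
    ∃ s : R →ₐ[k] T, ρ.comp s = AlgHom.id k R ∧ ∀ r, Ideal.Quotient.mk Q (s r) = σ r := by
  have ex : ∀ r, ∃ t, Ideal.Quotient.mk Q t = σ r ∧ ρ t = r := by
    intro r
    obtain ⟨t₀, h1, h2⟩ := hσ r
    obtain ⟨q, hq, hq2⟩ := (Ideal.mem_map_iff_of_surjective ρ hρ).1 h2
    refine ⟨t₀ - q, ?_, ?_⟩
    · rw [map_sub, h1, Ideal.Quotient.eq_zero_iff_mem.2 hq, sub_zero]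
    · rw [map_sub, hq2]; ring
  have uniq : ∀ t t', Ideal.Quotient.mk Q t = Ideal.Quotient.mk Q t' → ρ t = ρ t' → t = t' := by
    intro t t' h1 h2
    have h3 : t - t' ∈ RingHom.ker ρ ⊓ Q := by
      refine ⟨?_, ?_⟩
      · show ρ (t - t') = 0
        rw [map_sub, h2, sub_self]
      · exact Ideal.Quotient.eq.1 h1
    rw [hQ] at h3
    exact sub_eq_zero.1 h3
  choose s hs1 hs2 using ex
  have key : ∀ r t, Ideal.Quotient.mk Q t = σ r → ρ t = r → s r = t := by
    intro r t h1 h2
    exact uniq _ _ ((hs1 r).trans h1.symm) ((hs2 r).trans h2.symm)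
  refine ⟨{ toFun := s
            map_one' := key 1 1 (by rw [map_one, map_one]) (map_one ρ)
            map_mul' := fun a b => key _ _ (by rw [map_mul, map_mul, hs1, hs1])
              (by rw [map_mul, hs2, hs2])
            map_zero' := key 0 0 (by rw [map_zero, map_zero]) (map_zero ρ)
            map_add' := fun a b => key _ _ (by rw [map_add, map_add, hs1, hs1])
              (by rw [map_add, hs2, hs2])
            commutes' := fun c => key _ _ (by
              rw [AlgHom.commutes]; rfl) (AlgHom.commutes ρ c) }, ?_, hs1⟩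
  ext r
  exact hs2 r

end LemmaU

section Split

variable {k T R : Type u} [CommRing k] [CommRing T] [CommRing R] [Algebra k T] [Algebra k R]
  [IsNoetherianRing R]

/-- A surjection onto an adically formally smooth Noetherian algebra whose kernel is killed by the
preimage of the ideal of definition has a section. -/
theorem exists_section_of_liftProp (𝔫 : Ideal R) (h : AdicSplit.LiftProp k R 𝔫)
    (ρ : T →ₐ[k] R) (hρ : Function.Surjective ρ)
    (hkill : (Ideal.comap ρ 𝔫) * RingHom.ker ρ = ⊥) :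
    ∃ s : R →ₐ[k] T, ρ.comp s = AlgHom.id k R := by
  set V := RingHom.ker ρ with hV
  set P := Ideal.comap ρ 𝔫 with hP
  have hVP : V ≤ P := fun v hv => by
    show ρ v ∈ 𝔫
    rw [(show ρ v = 0 from hv)]; exact zero_mem _
  have hPV : ∀ p ∈ P, ∀ v ∈ V, p * v = 0 := fun p hp v hv => by
    have : p * v ∈ P * V := Ideal.mul_mem_mul hp hv
    rw [hkill] at this; exact this
  obtain ⟨r, xs, hxs⟩ := Submodule.fg_iff_exists_fin_generating_family.1
    (IsNoetherian.noetherian 𝔫)
  choose t ht using fun i => hρ (xs i)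
  have htP : ∀ i, t i ∈ P := fun i => by
    show ρ (t i) ∈ 𝔫
    rw [ht, ← hxs]; exact Submodule.subset_span ⟨i, rfl⟩
  -- Artin–Rees
  let φ : (Fin r → R) →ₗ[R] R := Fintype.linearCombination R xs
  obtain ⟨c₀, hc₀⟩ := Ideal.exists_pow_inf_eq_pow_smul 𝔫 (LinearMap.ker φ)
  set j := c₀ + 1 with hj
  let Q : Ideal T := P ^ j * Ideal.span (Set.range t)
  have hdec : ∀ x ∈ Q, ∃ c : Fin r → T, (∀ i, c i ∈ P ^ j) ∧ x = ∑ i, c i * t i := by
    intro x hx
    refine Submodule.mul_induction_on hx ?_ ?_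
    · intro a ha b hb
      obtain ⟨c, rfl⟩ := (Ideal.mem_span_range_iff_exists_fun).1 hb
      refine ⟨fun i => a * c i, fun i => Ideal.mul_mem_right _ _ ha, ?_⟩
      rw [Finset.mul_sum]
      exact Finset.sum_congr rfl fun i _ => (mul_assoc _ _ _).symm
    · rintro x y ⟨c, hc, rfl⟩ ⟨c', hc', rfl⟩
      refine ⟨fun i => c i + c' i, fun i => add_mem (hc i) (hc' i), ?_⟩
      rw [← Finset.sum_add_distrib]
      exact Finset.sum_congr rfl fun i _ => (add_mul _ _ _).symm
  have hvan : ∀ d ∈ 𝔫 • LinearMap.ker φ, ∀ c : Fin r → T, (∀ i, ρ (c i) = d i) →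
      ∑ i, c i * t i = 0 := by
    intro d hd
    refine Submodule.smul_induction_on hd ?_ ?_
    · intro a ha z hz c hc
      obtain ⟨p, rfl⟩ := hρ a
      have hp : p ∈ P := ha
      choose w hw using fun i => hρ (z i)
      have h1 : ∑ i, w i * t i ∈ V := by
        show ρ (∑ i, w i * t i) = 0
        rw [map_sum]
        have : φ z = 0 := hz
        rw [← this]
        show _ = Fintype.linearCombination R xs z
        rw [Fintype.linearCombination_apply]
        exact Finset.sum_congr rfl fun i _ => by rw [map_mul, hw, ht, smul_eq_mul]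
      have h2 : ∀ i, c i - p * w i ∈ V := fun i => by
        show ρ (c i - p * w i) = 0
        rw [map_sub, map_mul, hc, hw]
        simp
      have h3 : ∑ i, c i * t i = ∑ i, (c i - p * w i) * t i + p * ∑ i, w i * t i := by
        rw [Finset.mul_sum, ← Finset.sum_add_distrib]
        exact Finset.sum_congr rfl fun i _ => by ring
      rw [h3, hPV p hp _ h1, add_zero]
      exact Finset.sum_eq_zero fun i _ => by
        rw [mul_comm]; exact hPV _ (htP i) _ (h2 i)
    · intro d₁ d₂ h₁ h₂ c hc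
      choose c₁ hc₁ using fun i => hρ (d₁ i)
      have := h₂ (fun i => c i - c₁ i) (fun i => by
        rw [map_sub, hc, hc₁]; simp)
      have h4 : ∑ i, c i * t i = ∑ i, c₁ i * t i + ∑ i, (c i - c₁ i) * t i := by
        rw [← Finset.sum_add_distrib]
        exact Finset.sum_congr rfl fun i _ => by ring
      rw [h4, h₁ c₁ hc₁, this, add_zero]
  have hQ : V ⊓ Q = ⊥ := by
    rw [eq_bot_iff]
    rintro x ⟨hxV, hxQ⟩
    obtain ⟨c, hc, rfl⟩ := hdec x hxQ
    let d : Fin r → R := fun i => ρ (c i)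
    have hd1 : d ∈ (𝔫 ^ j • ⊤ : Submodule R (Fin r → R)) := by
      have : d = ∑ i, d i • (Pi.single i (1 : R) : Fin r → R) := by
        ext l
        simp [Finset.sum_apply, Pi.single_apply]
      rw [this]
      refine Submodule.sum_mem _ fun i _ => Submodule.smul_mem_smul ?_ Submodule.mem_top
      exact Ideal.le_comap_pow ρ j (hc i)
    have hd2 : d ∈ LinearMap.ker φ := by
      show Fintype.linearCombination R xs d = 0
      rw [Fintype.linearCombination_apply]
      have : ρ (∑ i, c i * t i) = 0 := hxV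
      rw [← this, map_sum]
      exact Finset.sum_congr rfl fun i _ => by rw [map_mul, ht, smul_eq_mul]
    have hd3 : d ∈ 𝔫 • LinearMap.ker φ := by
      have h5 : d ∈ 𝔫 ^ j • (⊤ : Submodule R (Fin r → R)) ⊓ LinearMap.ker φ := ⟨hd1, hd2⟩
      rw [hc₀ j (Nat.le_succ c₀)] at h5
      have h6 : j - c₀ = 1 := by omega
      rw [h6, pow_one] at h5
      exact (smul_mono_right _ inf_le_right : _ ≤ 𝔫 • LinearMap.ker φ) h5
    exact hvan d hd3 c fun i => rfl
  -- the truncated extension
  have hQmap : Q.map ρ = 𝔫 ^ (j + 1) := by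
    show Ideal.map ρ (P ^ j * Ideal.span (Set.range t)) = _
    rw [Ideal.map_mul, Ideal.map_pow, hP, Ideal.map_comap_of_surjective ρ hρ, Ideal.map_span,
      ← Set.range_comp, pow_succ]
    congr 1
    rw [← hxs]
    congr 2
    exact funext ht
  let π' : (T ⧸ Q) →ₐ[k] (R ⧸ Q.map ρ) := Ideal.quotientMapₐ (Q.map ρ) ρ Ideal.le_comap_map
  have hπ'mk : ∀ x, π' (Ideal.Quotient.mk Q x) = Ideal.Quotient.mk (Q.map ρ) (ρ x) := fun x => rfl
  have hπ' : Function.Surjective π' := by
    intro y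
    obtain ⟨y, rfl⟩ := Ideal.Quotient.mk_surjective y
    obtain ⟨x, rfl⟩ := hρ y
    exact ⟨Ideal.Quotient.mk Q x, rfl⟩
  have hker : RingHom.ker π' ≤ V.map (Ideal.Quotient.mk Q) := by
    intro y hy
    obtain ⟨x, rfl⟩ := Ideal.Quotient.mk_surjective y
    have h1 : Ideal.Quotient.mk (Q.map ρ) (ρ x) = 0 := hy
    rw [Ideal.Quotient.eq_zero_iff_mem] at h1
    obtain ⟨q, hq, hq2⟩ := (Ideal.mem_map_iff_of_surjective ρ hρ).1 h1
    have h2 : Ideal.Quotient.mk Q x = Ideal.Quotient.mk Q (x - q) := by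
      rw [map_sub, Ideal.Quotient.eq_zero_iff_mem.2 hq, sub_zero]
    rw [h2]
    refine Ideal.mem_map_of_mem _ ?_
    show ρ (x - q) = 0
    rw [map_sub, hq2, sub_self]
  have hsq : RingHom.ker π' ^ 2 = ⊥ := by
    rw [eq_bot_iff]
    refine (Ideal.pow_right_mono hker 2).trans ?_
    rw [← Ideal.map_pow, pow_two]
    have : V * V ≤ P * V := Ideal.mul_mono_left hVP
    rw [hkill] at this
    rw [le_bot_iff.1 this, Ideal.map_bot]
  obtain ⟨σ, hσ⟩ := h (T ⧸ Q) (R ⧸ Q.map ρ) π' hπ' hsq (Ideal.Quotient.mkₐ k (Q.map ρ))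
    ⟨j + 1, fun x hx => by
      rw [← hQmap] at hx
      exact Ideal.Quotient.eq_zero_iff_mem.2 hx⟩
  obtain ⟨s, hs, -⟩ := exists_section_of_inf_eq_bot ρ hρ Q hQ σ (fun r => by
    obtain ⟨t₀, ht₀⟩ := Ideal.Quotient.mk_surjective (σ r)
    refine ⟨t₀, ht₀, ?_⟩
    have h1 : π' (σ r) = Ideal.Quotient.mk (Q.map ρ) r := by
      rw [← AlgHom.comp_apply, hσ]; rfl
    rw [← ht₀, hπ'mk] at h1
    exact Ideal.Quotient.eq.1 h1)
  exact ⟨s, hs⟩

end Split


section Main

variable {A B : Type u} [CommRing A] [CommRing B] [IsNoetherianRing B] [Algebra A B]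
  [Module.Flat A B]

/-- **EGA 0_IV 19.7.1, b) ⇒ a)** (general form): if `B` is a flat Noetherian `A`-algebra, `𝔞` an
ideal of `A` with `𝔞 B ⊆ 𝔫`, and `B/𝔞B` is `𝔫`-adically formally smooth over `A/𝔞`, then `B` is
`𝔫`-adically formally smooth over `A`. -/
theorem adic_of_flat_of_quotient (𝔞 : Ideal A) (𝔫 : Ideal B)
    (hle : 𝔞.map (algebraMap A B) ≤ 𝔫)
    (h₀ : CAlgX.IsAdicFormallySmooth (A ⧸ 𝔞) (B ⧸ 𝔞.map (algebraMap A B))
      (𝔫.map (Ideal.Quotient.mk (𝔞.map (algebraMap A B))))) :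
    CAlgX.IsAdicFormallySmooth A B 𝔫 := by
  apply AdicSplit.adic_of_liftProp
  apply FSCriterion.liftProp_of_killed
  intro E E₀ _ _ _ _ π hπ hsq ψ hψ hkill
  have hMK : ∀ e : E, π e ∈ Ideal.map ψ 𝔫 → ∀ y : E, π y = 0 → e * y = 0 := by
    intro e he y hy
    have : e * y ∈ (Ideal.comap π (Ideal.map ψ 𝔫)) * RingHom.ker π :=
      Ideal.mul_mem_mul he hy
    rw [hkill] at this
    exact this
  have haE : ∀ a ∈ 𝔞, π (algebraMap A E a) ∈ Ideal.map ψ 𝔫 := by
    intro a ha
    rw [AlgHom.commutes, ← ψ.commutes]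
    exact Ideal.mem_map_of_mem _ (hle (Ideal.mem_map_of_mem _ ha))
  -- the pullback
  let E' : Subalgebra A (B × E) :=
    AlgHom.equalizer (ψ.comp (AlgHom.fst A B E)) (π.comp (AlgHom.snd A B E))
  let pr₁ : E' →ₐ[A] B := (AlgHom.fst A B E).comp E'.val
  let pr₂ : E' →ₐ[A] E := (AlgHom.snd A B E).comp E'.val
  have hcomm : ∀ z : E', ψ (pr₁ z) = π (pr₂ z) := fun z => z.2
  have hext : ∀ z : E', pr₁ z = 0 → pr₂ z = 0 → z = 0 := fun z h1 h2 =>
    Subtype.ext (Prod.ext h1 h2)
  have hpr₁ : Function.Surjective pr₁ := fun b => by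
    obtain ⟨e, he⟩ := hπ (ψ b)
    exact ⟨⟨(b, e), he.symm⟩, rfl⟩
  have hQI : (Ideal.map (algebraMap A E') 𝔞).map (pr₁ : E' →+* B) =
      Ideal.map (algebraMap A B) 𝔞 := by
    rw [Ideal.map_map]
    congr 1
  -- flatness: `ker pr₁ ⊓ 𝔞 E' = ⊥`
  have hstar : RingHom.ker pr₁ ⊓ Ideal.map (algebraMap A E') 𝔞 = ⊥ := by
    rw [eq_bot_iff]
    rintro z ⟨hz1, hz2⟩
    have hz1' : pr₁.toLinearMap z = 0 := hz1
    have hz2' : z ∈ (𝔞 • ⊤ : Submodule A E') := by
      rw [Ideal.smul_top_eq_map]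
      exact hz2
    have h1 := Groth.Agent.S4515.mem_smul_ker_of_flat pr₁.toLinearMap hpr₁ 𝔞 z hz1' hz2'
    have h2 : 𝔞 • LinearMap.ker pr₁.toLinearMap = ⊥ := by
      rw [eq_bot_iff]
      intro w hw
      refine Submodule.smul_induction_on hw ?_ ?_
      · intro a ha y hy
        have hy' : pr₁ y = 0 := hy
        rw [Submodule.mem_bot]
        apply hext
        · rw [map_smul, hy', smul_zero]
        · rw [map_smul, Algebra.smul_def]
          exact hMK _ (haE a ha) _ (by rw [← hcomm, hy', map_zero])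
      · intro x y hx hy
        exact add_mem hx hy
    rw [h2] at h1
    exact h1
  -- the reduction modulo `𝔞`
  let ρ₀ : (E' ⧸ Ideal.map (algebraMap A E') 𝔞) →+* (B ⧸ Ideal.map (algebraMap A B) 𝔞) :=
    Ideal.quotientMap (Ideal.map (algebraMap A B) 𝔞) (pr₁ : E' →+* B)
      (by rw [← Ideal.map_le_iff_le_comap, hQI])
  have hρ₀mk : ∀ z : E', ρ₀ (Ideal.Quotient.mk _ z) = Ideal.Quotient.mk _ (pr₁ z) := fun z => rfl
  let ρ : (E' ⧸ Ideal.map (algebraMap A E') 𝔞) →ₐ[A ⧸ 𝔞] (B ⧸ Ideal.map (algebraMap A B) 𝔞) :=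
    { ρ₀ with
      commutes' := fun c => by
        obtain ⟨a, rfl⟩ := Ideal.Quotient.mk_surjective c
        show ρ₀ (Ideal.Quotient.mk _ (algebraMap A E' a)) = Ideal.Quotient.mk _ (algebraMap A B a)
        rw [hρ₀mk, AlgHom.commutes] }
  have hρmk : ∀ z : E', ρ (Ideal.Quotient.mk _ z) = Ideal.Quotient.mk _ (pr₁ z) := fun z => rfl
  have hρ : Function.Surjective ρ := by
    intro y
    obtain ⟨b, rfl⟩ := Ideal.Quotient.mk_surjective y
    obtain ⟨z, rfl⟩ := hpr₁ b
    exact ⟨Ideal.Quotient.mk _ z, rfl⟩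
  have hkill' : (Ideal.comap ρ (𝔫.map (Ideal.Quotient.mk (𝔞.map (algebraMap A B))))) *
      RingHom.ker ρ = ⊥ := by
    rw [eq_bot_iff, Ideal.mul_le]
    intro p hp v hv
    obtain ⟨p, rfl⟩ := Ideal.Quotient.mk_surjective p
    obtain ⟨v, rfl⟩ := Ideal.Quotient.mk_surjective v
    have hp1 : pr₁ p ∈ 𝔫 := by
      have : Ideal.Quotient.mk (𝔞.map (algebraMap A B)) (pr₁ p) ∈
          𝔫.map (Ideal.Quotient.mk (𝔞.map (algebraMap A B))) := hp
      exact (Ideal.mem_quotient_iff_mem hle).1 this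
    have hv1 : pr₁ v ∈ Ideal.map (algebraMap A B) 𝔞 := by
      have : Ideal.Quotient.mk (𝔞.map (algebraMap A B)) (pr₁ v) = 0 := hv
      exact Ideal.Quotient.eq_zero_iff_mem.1 this
    rw [← hQI] at hv1
    obtain ⟨q, hq, hq2⟩ := (Ideal.mem_map_iff_of_surjective (pr₁ : E' →+* B) hpr₁).1 hv1
    have hq2' : pr₁ q = pr₁ v := hq2
    have h2 : Ideal.Quotient.mk (Ideal.map (algebraMap A E') 𝔞) v =
        Ideal.Quotient.mk (Ideal.map (algebraMap A E') 𝔞) (v - q) := by
      rw [map_sub, Ideal.Quotient.eq_zero_iff_mem.2 hq, sub_zero]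
    rw [h2, ← map_mul, Submodule.mem_bot]
    have h3 : p * (v - q) = 0 := by
      have h4 : pr₁ (v - q) = 0 := by rw [map_sub, hq2', sub_self]
      apply hext
      · rw [map_mul, h4, mul_zero]
      · rw [map_mul]
        refine hMK _ ?_ _ ?_
        · rw [← hcomm]
          exact Ideal.mem_map_of_mem _ hp1
        · rw [← hcomm, h4, map_zero]
    rw [h3, map_zero]
  have hL : AdicSplit.LiftProp (A ⧸ 𝔞) (B ⧸ Ideal.map (algebraMap A B) 𝔞)
      (𝔫.map (Ideal.Quotient.mk (𝔞.map (algebraMap A B)))) := AdicSplit.liftProp_of_adic h₀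
  have key := exists_section_of_liftProp (k := A ⧸ 𝔞) (T := E' ⧸ Ideal.map (algebraMap A E') 𝔞)
    (R := B ⧸ Ideal.map (algebraMap A B) 𝔞)
    (𝔫.map (Ideal.Quotient.mk (𝔞.map (algebraMap A B)))) hL
  obtain ⟨s₀, hs₀⟩ := key ρ hρ hkill'
  -- glue
  obtain ⟨s, hs, -⟩ := exists_section_of_inf_eq_bot pr₁ hpr₁ (Ideal.map (algebraMap A E') 𝔞) hstar
    ((s₀.restrictScalars A).comp (Ideal.Quotient.mkₐ A (Ideal.map (algebraMap A B) 𝔞)))
    (fun b => by
      obtain ⟨z, hz⟩ := Ideal.Quotient.mk_surjective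
        (s₀ (Ideal.Quotient.mk (Ideal.map (algebraMap A B) 𝔞) b))
      refine ⟨z, hz, ?_⟩
      have h1 : ρ (s₀ (Ideal.Quotient.mk (Ideal.map (algebraMap A B) 𝔞) b)) =
          Ideal.Quotient.mk (Ideal.map (algebraMap A B) 𝔞) b := by
        rw [← AlgHom.comp_apply, hs₀]; rfl
      rw [← hz, hρmk] at h1
      have h2 := Ideal.Quotient.eq.1 h1
      rw [← hQI] at h2
      exact h2)
  refine ⟨pr₂.comp s, ?_⟩
  ext b
  have h1 : pr₁ (s b) = b := by
    rw [← AlgHom.comp_apply, hs]; rfl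
  show π (pr₂ (s b)) = ψ b
  rw [← hcomm, h1]

end Main

section Local

open IsLocalRing

variable {A B : Type u} [CommRing A] [CommRing B] [IsLocalRing A] [IsLocalRing B]
  [IsNoetherianRing B] [Algebra A B] [IsLocalHom (algebraMap A B)] [Module.Flat A B]

/-- **EGA 0_IV 19.7.1, b) ⇒ a)**: a flat local homomorphism of Noetherian local rings whose closed
fibre is adically formally smooth over the residue field is adically formally smooth. -/
theorem adic_of_flat
    (h₀ : CAlgX.IsAdicFormallySmooth (A ⧸ maximalIdeal A)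
      (B ⧸ (maximalIdeal A).map (algebraMap A B))
      ((maximalIdeal B).map (Ideal.Quotient.mk ((maximalIdeal A).map (algebraMap A B))))) :
    CAlgX.IsAdicFormallySmooth A B (maximalIdeal B) := by
  have hle : (maximalIdeal A).map (algebraMap A B) ≤ maximalIdeal B := by
    rw [Ideal.map_le_iff_le_comap]
    intro a ha
    rw [Ideal.mem_comap, mem_maximalIdeal, mem_nonunits_iff]
    intro hu
    exact (mem_maximalIdeal _).1 ha (isUnit_of_map_unit (algebraMap A B) a hu)
  exact adic_of_flat_of_quotient (maximalIdeal A) (maximalIdeal B) hle h₀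

end Local

section Bij

variable {k κ S : Type u} [CommRing k] [CommRing κ] [CommRing S] [Algebra k κ] [Algebra κ S]
  [Algebra k S] [IsScalarTower k κ S]

/-- Adic formal smoothness does not see a bijective change of the base ring. -/
theorem adic_iff_of_bijective (hbij : Function.Bijective (algebraMap k κ)) (𝔫 : Ideal S) :
    CAlgX.IsAdicFormallySmooth κ S 𝔫 ↔ CAlgX.IsAdicFormallySmooth k S 𝔫 := by
  constructor
  · intro h E _ _ J hJ ψ hψ
    let j : κ ≃+* k := (RingEquiv.ofBijective (algebraMap k κ) hbij).symm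
    have hj : ∀ c : k, j (algebraMap k κ c) = c := fun c =>
      (RingEquiv.ofBijective (algebraMap k κ) hbij).symm_apply_apply c
    letI : Algebra κ E := ((algebraMap k E).comp (j : κ →+* k)).toAlgebra
    have halg : ∀ c : κ, algebraMap κ E c = algebraMap k E (j c) := fun c => rfl
    let ψ' : S →ₐ[κ] E ⧸ J :=
      { toRingHom := ψ.toRingHom
        commutes' := fun c => by
          obtain ⟨c, rfl⟩ := hbij.2 c
          show ψ (algebraMap κ S (algebraMap k κ c)) =
            Ideal.Quotient.mk J (algebraMap κ E (algebraMap k κ c))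
          rw [← IsScalarTower.algebraMap_apply, ψ.commutes, halg, hj]
          rfl }
    obtain ⟨χ, hχ⟩ := h E J hJ ψ' hψ
    refine ⟨{ toRingHom := χ.toRingHom
              commutes' := fun c => by
                show χ (algebraMap k S c) = algebraMap k E c
                rw [IsScalarTower.algebraMap_apply k κ S, χ.commutes, halg, hj] }, ?_⟩
    ext x
    exact AlgHom.congr_fun hχ x
  · intro h E _ _ J hJ ψ hψ
    letI : Algebra k E := ((algebraMap κ E).comp (algebraMap k κ)).toAlgebra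
    haveI : IsScalarTower k κ E := IsScalarTower.of_algebraMap_eq' rfl
    obtain ⟨χ, hχ⟩ := h E J hJ (ψ.restrictScalars k) hψ
    refine ⟨{ toRingHom := χ.toRingHom
              commutes' := fun c => by
                obtain ⟨c, rfl⟩ := hbij.2 c
                show χ (algebraMap κ S (algebraMap k κ c)) = algebraMap κ E (algebraMap k κ c)
                rw [← IsScalarTower.algebraMap_apply, χ.commutes]
                rfl }, ?_⟩
    ext x
    exact AlgHom.congr_fun hχ x

end Bij

end Groth.Agent.H23.AdicOfFlat
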