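import Groth.Agent.H23.GeomRegLoc
import Groth.Agent.H46.PowerSeriesSmooth

/-!
# EGA 0_IV 22.5.8 in all characteristics, and formally smooth ⇒ geometrically regular
-/

set_option autoImplicit false
set_option linter.style.haveILetI false

namespace Groth.Agent.H23.GeomRegIff

open TensorProduct IsLocalRing

universe u

/-- EGA 0_IV 22.5.8: for a Noetherian local algebra over a field, adic formal smoothness is
equivalent to geometric regularity. -/
theorem adic_iff_geomReg {k : Type u} [Field k] (A : Type u) [CommRing A] [IsLocalRing A]
    [IsNoetherianRing A] [Algebra k A] :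
    CAlgX.IsAdicFormallySmooth k A (maximalIdeal A) ↔ CAlg.IsGeometricallyRegular k A := by
  constructor
  · exact Groth.Agent.H96.GeomRegAdic.isGeometricallyRegular k A
  · intro hgr
    obtain h0 | ⟨q, hq, hqk⟩ := CharP.exists' k
    · haveI hregA : IsRegularRing A := by
        haveI := hgr k (Module.Finite.self k)
        exact IsRegularRing.of_ringEquiv (Algebra.TensorProduct.lid k A).toRingEquiv
      haveI : IsRegularLocalRing A := IsRegularLocalRing.of_isRegularRing_of_isLocalRing A
      haveI : PerfectField k := PerfectField.ofCharZero
      haveI : Algebra.FormallySmooth k (ResidueField A) :=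
        Groth.Agent.H47.formallySmooth_of_perfectField_field
      haveI : Algebra.IsGeometricallyReduced k (ResidueField A) :=
        Groth.Agent.H47.isGeometricallyReduced_of_formallySmooth_field
      exact Groth.Agent.H96.RegAdicSmooth.adic_of_regular k A
    · haveI := hq
      haveI := hqk
      exact Groth.Agent.H23.GeomRegFS.adic_of_geomReg q A hgr

/-- A Noetherian algebra formally smooth over a field is geometrically regular. -/
theorem geomReg_of_formallySmooth {k : Type u} [Field k] (C : Type u) [CommRing C]
    [IsNoetherianRing C] [Algebra k C] [Algebra.FormallySmooth k C] :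
    CAlg.IsGeometricallyRegular k C := by
  intro k' _ _ hfin
  haveI := hfin
  haveI : IsNoetherianRing (k' ⊗[k] C) := by
    haveI : IsNoetherianRing (C ⊗[k] k') := IsNoetherianRing.of_finite C _
    exact isNoetherianRing_of_ringEquiv _ (Algebra.TensorProduct.comm k C k').toRingEquiv
  apply Groth.Agent.H29.RegCompl.isRegularRing_of_maximal
  intro n hn
  haveI : Algebra.FormallySmooth (k' ⊗[k] C) (Localization.AtPrime n) :=
    Algebra.FormallySmooth.of_isLocalization n.primeCompl
  haveI : Algebra.FormallySmooth k' (Localization.AtPrime n) :=
    Algebra.FormallySmooth.comp k' (k' ⊗[k] C) _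
  exact Groth.Agent.H96.GeomRegAdic.regular_of_adic_field k' (Localization.AtPrime n)
    (Groth.Agent.H46.isAdicFormallySmooth_of_formallySmooth _)

end Groth.Agent.H23.GeomRegIff
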