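import Groth.Agent.H23.GeomRegFS3
import Groth.Agent.H14.GeomBC.RegSep

/-!
# Localizations of geometrically regular algebras; EGA 0_IV 22.5.8 consequences
-/

set_option autoImplicit false
set_option linter.style.haveILetI false

namespace Groth.Agent.H23.GeomRegLoc

open TensorProduct IsLocalRing

universe u

/-- A localization of a geometrically regular algebra is geometrically regular. -/
theorem geomReg_of_isLocalization {k : Type u} [Field k] (A : Type u) [CommRing A] [Algebra k A]
    (M : Submonoid A) (B : Type u) [CommRing B] [Algebra k B] [Algebra A B] [IsScalarTower k A B]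
    [IsLocalization M B] (h : CAlg.IsGeometricallyRegular k A) :
    CAlg.IsGeometricallyRegular k B := by
  intro k' _ _ hfin
  haveI := h k' hfin
  letI : Algebra (k' ⊗[k] A) (k' ⊗[k] B) :=
    (Algebra.TensorProduct.map (AlgHom.id k' k') (IsScalarTower.toAlgHom k A B)).toRingHom.toAlgebra
  have halg : ∀ x, algebraMap (k' ⊗[k] A) (k' ⊗[k] B) x =
      Algebra.TensorProduct.map (AlgHom.id k' k') (IsScalarTower.toAlgHom k A B) x := fun _ => rfl
  haveI : IsScalarTower k' (k' ⊗[k] A) (k' ⊗[k] B) := by
    refine IsScalarTower.of_algebraMap_eq fun c => ?_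
    rw [halg, AlgHom.commutes]
  haveI := IsLocalization.tensorProduct_tensorProduct_right k k' M B (by
    ext a
    show algebraMap (k' ⊗[k] A) (k' ⊗[k] B) ((1 : k') ⊗ₜ a) = (1 : k') ⊗ₜ algebraMap A B a
    rw [halg, Algebra.TensorProduct.map_tmul]
    rfl)
  exact Groth.Agent.H14.GeomBC.isRegularRing_of_isLocalization
    (M.map (Algebra.TensorProduct.includeRight (R := k) (A := k'))) (k' ⊗[k] B)

end Groth.Agent.H23.GeomRegLoc
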