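import Mathlib
import Groth.Prelude.Def_Found
import Groth.Prelude.Def_CAlgX
import Groth.Agent.H23.AdicOfFlat
import Groth.Agent.H23.GeomRegIff
import Groth.Agent.H23.GeomRegLoc

/-!
# Regular homomorphisms are adically formally smooth on local rings

`R → S` a regular homomorphism with `S` Noetherian, `q` a prime of `S` over `p`.  Then `S_q` is
formally smooth over `R_p` for the adic topology of the maximal ideal of `S_q` (EGA 0_IV 19.7.1 +
22.5.8).
-/

set_option autoImplicit false
set_option linter.style.haveILetI false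
set_option linter.unusedSectionVars false
set_option linter.unusedVariables false
universe u

namespace Groth.Agent.H23.RegHomAdic

open IsLocalRing TensorProduct

section Transport

variable {A₁ κ₁ κ₂ G F : Type u} [CommRing A₁] [CommRing κ₁] [CommRing κ₂] [CommRing G]
  [CommRing F] [Algebra A₁ κ₁] [Algebra A₁ κ₂] [Algebra κ₁ G] [Algebra A₁ G]
  [IsScalarTower A₁ κ₁ G] [Algebra κ₂ F] [Algebra A₁ F] [IsScalarTower A₁ κ₂ F]

/-- transport of adic formal smoothness along an isomorphism over a common ring surjecting onto
both base rings. -/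
theorem adic_transport (h₁ : Function.Surjective (algebraMap A₁ κ₁))
    (h₂ : Function.Surjective (algebraMap A₁ κ₂)) (j : κ₁ →+* κ₂)
    (hj : ∀ a, j (algebraMap A₁ κ₁ a) = algebraMap A₁ κ₂ a)
    (e : G ≃ₐ[A₁] F) (𝔫 : Ideal G) (𝔫' : Ideal F) (h𝔫 : ∀ x ∈ 𝔫, e x ∈ 𝔫')
    (h : CAlgX.IsAdicFormallySmooth κ₁ G 𝔫) : CAlgX.IsAdicFormallySmooth κ₂ F 𝔫' := by
  intro E _ _ J hJ ψ hψ
  letI : Algebra κ₁ E := ((algebraMap κ₂ E).comp j).toAlgebra
  have halg : ∀ c : κ₁, algebraMap κ₁ E c = algebraMap κ₂ E (j c) := fun _ => rfl
  let ψ' : G →ₐ[κ₁] E ⧸ J :=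
    { toRingHom := (ψ : F →+* E ⧸ J).comp (e : G →+* F)
      commutes' := fun c => by
        obtain ⟨a, rfl⟩ := h₁ c
        show ψ (e (algebraMap κ₁ G (algebraMap A₁ κ₁ a))) =
          Ideal.Quotient.mk J (algebraMap κ₁ E (algebraMap A₁ κ₁ a))
        rw [← IsScalarTower.algebraMap_apply A₁ κ₁ G, e.commutes,
          IsScalarTower.algebraMap_apply A₁ κ₂ F, ψ.commutes, halg, hj]
        rfl }
  have hψ'app : ∀ x, ψ' x = ψ (e x) := fun _ => rfl
  obtain ⟨k, hk⟩ := hψ
  have hmap : Ideal.map (e : G →+* F) (𝔫 ^ k) ≤ 𝔫' ^ k := by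
    rw [Ideal.map_pow]
    apply Ideal.pow_right_mono
    rw [Ideal.map_le_iff_le_comap]
    intro y hy
    exact h𝔫 y hy
  obtain ⟨χ', hχ'⟩ := h E J hJ ψ' ⟨k, fun x hx => by
    rw [hψ'app]
    exact hk _ (hmap (Ideal.mem_map_of_mem _ hx))⟩
  refine ⟨{ toRingHom := (χ' : G →+* E).comp (e.symm : F →+* G)
            commutes' := fun c => by
              obtain ⟨a, rfl⟩ := h₂ c
              show χ' (e.symm (algebraMap κ₂ F (algebraMap A₁ κ₂ a))) = _
              rw [← IsScalarTower.algebraMap_apply A₁ κ₂ F, e.symm.commutes,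
                IsScalarTower.algebraMap_apply A₁ κ₁ G, χ'.commutes, halg, hj] }, ?_⟩
  ext y
  have h3 := AlgHom.congr_fun hχ' (e.symm y)
  rw [hψ'app, e.apply_symm_apply] at h3
  exact h3

end Transport

section Core

variable (R S : Type u) [CommRing R] [CommRing S] [Algebra R S] [IsNoetherianRing S]

open Algebra.TensorProduct in
set_option backward.isDefEq.respectTransparency false in
/-- core case: the prime of `S` is given as the contraction of a prime of the fibre. -/
theorem adic_core (h : CAlg.IsRegularHom R S) (p : Ideal R) [p.IsPrime]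
    (q₀ : Ideal (p.Fiber S)) [q₀.IsPrime]
    [Algebra (Localization.AtPrime p)
      (Localization.AtPrime (q₀.comap (includeRight (R := R) (A := p.ResidueField) (B := S))))]
    [IsScalarTower R (Localization.AtPrime p)
      (Localization.AtPrime (q₀.comap (includeRight (R := R) (A := p.ResidueField) (B := S))))] :
    CAlgX.IsAdicFormallySmooth (Localization.AtPrime p)
      (Localization.AtPrime (q₀.comap (includeRight (R := R) (A := p.ResidueField) (B := S))))
      (maximalIdeal _) := by
  set r := q₀.comap (includeRight (R := R) (A := p.ResidueField) (B := S)) with hr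
  have hrp : r.LiesOver p := inferInstance
  haveI := h.1
  have halg : algebraMap (Localization.AtPrime p) (Localization.AtPrime r) =
      Localization.localRingHom p r (algebraMap R S) Ideal.LiesOver.over := by
    apply IsLocalization.ringHom_ext p.primeCompl
    ext a
    simp only [RingHom.comp_apply]
    rw [← IsScalarTower.algebraMap_apply R (Localization.AtPrime p) (Localization.AtPrime r),
      Localization.localRingHom_to_map, ← IsScalarTower.algebraMap_apply R S]
  haveI : Localization.AtPrime.IsLiesOverAlgebra p r := ⟨halg⟩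
  have hloc : IsLocalHom (algebraMap (Localization.AtPrime p) (Localization.AtPrime r)) := by
    rw [halg]
    exact Localization.isLocalHom_localRingHom p r (algebraMap R S) Ideal.LiesOver.over
  have hflatS : Module.Flat S (Localization.AtPrime r) := IsLocalization.flat _ r.primeCompl
  have hflatR : Module.Flat R (Localization.AtPrime r) := Module.Flat.trans R S _
  haveI hflat' : Module.Flat (Localization.AtPrime p) (Localization.AtPrime r) :=
    (Module.flat_iff_of_isLocalization (Localization.AtPrime p) p.primeCompl _).mpr hflatR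
  haveI hNfib : IsNoetherianRing (p.Fiber S) := (h.2 p).1
  have hGreg : CAlg.IsGeometricallyRegular p.ResidueField (Localization.AtPrime q₀) :=
    Groth.Agent.H23.GeomRegLoc.geomReg_of_isLocalization (p.Fiber S) q₀.primeCompl _ (h.2 p).2
  have hG : CAlgX.IsAdicFormallySmooth p.ResidueField (Localization.AtPrime q₀)
      (maximalIdeal _) :=
    (Groth.Agent.H23.GeomRegIff.adic_iff_geomReg _).mpr hGreg
  let e₀ := Ideal.Fiber.localizationAlgEquivQuotient p q₀
  have hideal : p.map (algebraMap R (Localization.AtPrime r)) =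
      (maximalIdeal (Localization.AtPrime p)).map
        (algebraMap (Localization.AtPrime p) (Localization.AtPrime r)) := by
    rw [← Localization.AtPrime.map_eq_maximalIdeal, Ideal.map_map,
      ← IsScalarTower.algebraMap_eq]
  let e₁ : (Localization.AtPrime r ⧸ p.map (algebraMap R (Localization.AtPrime r)))
      ≃ₐ[Localization.AtPrime p]
      (Localization.AtPrime r ⧸ (maximalIdeal (Localization.AtPrime p)).map
        (algebraMap (Localization.AtPrime p) (Localization.AtPrime r))) :=
    Ideal.quotientEquivAlgOfEq _ hideal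
  have hle : (maximalIdeal (Localization.AtPrime p)).map
      (algebraMap (Localization.AtPrime p) (Localization.AtPrime r)) ≤
      maximalIdeal (Localization.AtPrime r) :=
    IsLocalRing.map_maximalIdeal_le _
  let j : p.ResidueField →+* (Localization.AtPrime p ⧸ maximalIdeal (Localization.AtPrime p)) :=
    RingHom.id _
  have hj : ∀ a : Localization.AtPrime p, j (algebraMap (Localization.AtPrime p) p.ResidueField a) =
      algebraMap (Localization.AtPrime p)
        (Localization.AtPrime p ⧸ maximalIdeal (Localization.AtPrime p)) a := fun a => rfl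
  have h₁ : Function.Surjective (algebraMap (Localization.AtPrime p) p.ResidueField) :=
    IsLocalRing.residue_surjective
  have h₂ : Function.Surjective (algebraMap (Localization.AtPrime p)
      (Localization.AtPrime p ⧸ maximalIdeal (Localization.AtPrime p))) :=
    Ideal.Quotient.mk_surjective
  have h𝔫 : ∀ x ∈ maximalIdeal (Localization.AtPrime q₀), (e₀.trans e₁) x ∈
      (maximalIdeal (Localization.AtPrime r)).map (Ideal.Quotient.mk
        ((maximalIdeal (Localization.AtPrime p)).map
          (algebraMap (Localization.AtPrime p) (Localization.AtPrime r)))) := by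
    intro x hx
    obtain ⟨b, hb⟩ := Ideal.Quotient.mk_surjective ((e₀.trans e₁) x)
    rw [← hb]
    apply Ideal.mem_map_of_mem
    by_contra hbm
    have hbu : IsUnit b := by
      by_contra hnu
      exact hbm ((mem_maximalIdeal b).mpr hnu)
    have hu : IsUnit ((e₀.trans e₁) x) := by
      rw [← hb]
      exact hbu.map _
    have hu' : IsUnit x := by
      have := hu.map (e₀.trans e₁).symm
      rwa [AlgEquiv.symm_apply_apply] at this
    exact (mem_maximalIdeal x).mp hx hu'
  have h₀ := adic_transport (A₁ := Localization.AtPrime p) (κ₁ := p.ResidueField)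
    (κ₂ := Localization.AtPrime p ⧸ maximalIdeal (Localization.AtPrime p)) h₁ h₂ j hj
    (e₀.trans e₁) (maximalIdeal _) _ h𝔫 hG
  exact Groth.Agent.H23.AdicOfFlat.adic_of_flat_of_quotient (maximalIdeal _) (maximalIdeal _)
    hle h₀

open Algebra.TensorProduct in
/-- every prime of `S` over `p` is the contraction of a prime of the fibre. -/
theorem exists_fiber_prime (p : Ideal R) [hpp : p.IsPrime] (q : Ideal S) [hq : q.IsPrime]
    (hqp : q.comap (algebraMap R S) = p) :
    ∃ (q₀ : Ideal (p.Fiber S)) (_ : q₀.IsPrime),
      q₀.comap (includeRight (R := R) (A := p.ResidueField) (B := S)) = q := by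
  have hmem : (⟨q, hq⟩ : PrimeSpectrum S) ∈
      PrimeSpectrum.comap (algebraMap R S) ⁻¹' {⟨p, hpp⟩} := by
    rw [Set.mem_preimage, Set.mem_singleton_iff]
    exact PrimeSpectrum.ext hqp
  let q0 := PrimeSpectrum.preimageEquivFiber R S ⟨p, hpp⟩ ⟨⟨q, hq⟩, hmem⟩
  refine ⟨q0.asIdeal, q0.isPrime, ?_⟩
  have := (PrimeSpectrum.preimageEquivFiber R S ⟨p, hpp⟩).left_inv ⟨⟨q, hq⟩, hmem⟩
  exact congrArg (fun x => x.1.asIdeal) this

/-- **Regular homomorphisms are adically formally smooth on local rings.** -/
theorem adic_of_isRegularHom (h : CAlg.IsRegularHom R S) (p : Ideal R) [p.IsPrime]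
    (q : Ideal S) [q.IsPrime] (hqp : q.comap (algebraMap R S) = p)
    [Algebra (Localization.AtPrime p) (Localization.AtPrime q)]
    [IsScalarTower R (Localization.AtPrime p) (Localization.AtPrime q)] :
    CAlgX.IsAdicFormallySmooth (Localization.AtPrime p) (Localization.AtPrime q)
      (maximalIdeal _) := by
  obtain ⟨q₀, hq₀, hq₀q⟩ := exists_fiber_prime R S p q hqp
  subst hq₀q
  exact adic_core R S h p q₀

end Core

end Groth.Agent.H23.RegHomAdic
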