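import Groth.Agent.H23.FlatOfAdic
import Groth.Agent.H47.DVRAdic
import Groth.Agent.S4514
import Groth.Agent.S4537
import Groth.Agent.S4542
import Groth.Agent.S0548

/-!
# EGA 0_IV 19.7.1, `a) ⇒ b)`: an adically formally smooth local homomorphism of Noetherian local
rings is flat.
-/

set_option autoImplicit false
set_option linter.style.haveILetI false
set_option linter.unusedSectionVars false

namespace Groth.Agent.H23.FlatOfAdic

open TensorProduct IsLocalRing

universe u

section Conv

variable {A : Type u} [CommRing A] {B C : Type u} [AddCommGroup B] [Module A B] [AddCommGroup C]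
  [Module A C] (v : B →ₗ[A] C) (I : Ideal A)

/-- Injectivity of `A/I ⊗ B → A/I ⊗ C` from the corresponding statement on elements. -/
theorem lTensor_quot_injective
    (h : ∀ b : B, v b ∈ (I • ⊤ : Submodule A C) → b ∈ (I • ⊤ : Submodule A B)) :
    Function.Injective (v.lTensor (A ⧸ I)) := by
  rw [injective_iff_map_eq_zero]
  intro z hz
  obtain ⟨b, rfl⟩ := TensorProduct.mk_surjective A B (A ⧸ I) Ideal.Quotient.mk_surjective z
  rw [TensorProduct.mk_apply] at hz ⊢
  rw [LinearMap.lTensor_tmul] at hz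
  have h1 := (congrArg (TensorProduct.quotTensorEquivQuotSMul C I) hz).trans
    (map_zero (TensorProduct.quotTensorEquivQuotSMul C I))
  rw [TensorProduct.quotTensorEquivQuotSMul_mk_one_tmul, Submodule.Quotient.mk_eq_zero] at h1
  have h2 := h b h1
  apply (TensorProduct.quotTensorEquivQuotSMul B I).injective
  rw [TensorProduct.quotTensorEquivQuotSMul_mk_one_tmul, map_zero,
    Submodule.Quotient.mk_eq_zero]
  exact h2

end Conv

section Main

variable {A B : Type u} [CommRing A] [CommRing B] [IsLocalRing A] [IsLocalRing B]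
  [IsNoetherianRing A] [IsNoetherianRing B] [Algebra A B] [IsLocalHom (algebraMap A B)]

/-- **EGA 0_IV 19.7.1, a) ⇒ b)**: adic formal smoothness implies flatness. -/
theorem flat_of_adic (h : CAlgX.IsAdicFormallySmooth A B (maximalIdeal B)) : Module.Flat A B := by
  have hle : (maximalIdeal A).map (algebraMap A B) ≤ maximalIdeal B := by
    rw [Ideal.map_le_iff_le_comap]
    intro a ha
    rw [Ideal.mem_comap, mem_maximalIdeal, mem_nonunits_iff]
    intro hu
    exact (mem_maximalIdeal _).1 ha (isUnit_of_map_unit (algebraMap A B) a hu)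
  -- the closed fibre
  set I : Ideal B := (maximalIdeal A).map (algebraMap A B) with hI
  have hIne : I ≠ ⊤ := fun h' => (maximalIdeal.isMaximal B).ne_top (top_le_iff.1 (h' ▸ hle))
  haveI : Nontrivial (B ⧸ I) := Ideal.Quotient.nontrivial_iff.2 hIne
  haveI : IsLocalRing (B ⧸ I) :=
    IsLocalRing.of_surjective' (Ideal.Quotient.mk I) Ideal.Quotient.mk_surjective
  have hmC : (maximalIdeal B).map (Ideal.Quotient.mk I) = maximalIdeal (B ⧸ I) :=
    Groth.Agent.H47.CohenArtin.map_maximalIdeal_of_surjective _ Ideal.Quotient.mk_surjective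
  have hC := Groth.Agent.H47.DVRAdic.adic_quotient (maximalIdeal A) (maximalIdeal B) h
  rw [hmC] at hC
  letI : Field (A ⧸ maximalIdeal A) := Ideal.Quotient.field _
  haveI : IsRegularLocalRing (B ⧸ I) :=
    Groth.Agent.H96.GeomRegAdic.regular_of_adic_field (A ⧸ maximalIdeal A) (B ⧸ I) hC
  -- its completion
  haveI : IsRegularLocalRing (AdicCompletion (maximalIdeal (B ⧸ I)) (B ⧸ I)) :=
    (Groth.Agent.S0548.result (B ⧸ I)).1 inferInstance
  letI algk : Algebra (ResidueField A) (AdicCompletion (maximalIdeal (B ⧸ I)) (B ⧸ I)) :=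
    (inferInstance : Algebra (A ⧸ maximalIdeal A) (AdicCompletion (maximalIdeal (B ⧸ I)) (B ⧸ I)))
  obtain ⟨C, _, _, _, _, _, hCc, hCf, ⟨e⟩⟩ :=
    Groth.Agent.S4514.result (A := A) (AdicCompletion (maximalIdeal (B ⧸ I)) (B ⧸ I))
  haveI := hCc
  haveI := hCf
  haveI htow : IsScalarTower A (ResidueField A) (AdicCompletion (maximalIdeal (B ⧸ I)) (B ⧸ I)) :=
    IsScalarTower.of_algebraMap_eq (fun a => rfl)
  -- the comparison map `C → B̂₀`
  let gA : C →ₐ[A] AdicCompletion (maximalIdeal (B ⧸ I)) (B ⧸ I) :=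
    ((e.restrictScalars A : ResidueField A ⊗[A] C ≃ₐ[A] _) :
      ResidueField A ⊗[A] C →ₐ[A] _).comp Algebra.TensorProduct.includeRight
  have hgA : ∀ c : C, gA c = e ((1 : ResidueField A) ⊗ₜ[A] c) := fun c => rfl
  have hgAsurj : Function.Surjective gA := by
    intro y
    obtain ⟨c, hc⟩ := TensorProduct.mk_surjective A C (ResidueField A)
      Ideal.Quotient.mk_surjective (e.symm y)
    refine ⟨c, ?_⟩
    rw [hgA]
    rw [TensorProduct.mk_apply] at hc
    rw [hc, AlgEquiv.apply_symm_apply]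
  have hgAm : ∀ a ∈ maximalIdeal A, ∀ c : C, gA (algebraMap A C a * c) = 0 := by
    intro a ha c
    rw [map_mul, AlgHom.commutes,
      IsScalarTower.algebraMap_apply A (ResidueField A)
        (AdicCompletion (maximalIdeal (B ⧸ I)) (B ⧸ I))]
    have : algebraMap A (ResidueField A) a = 0 := (residue_eq_zero_iff a).mpr ha
    rw [this, map_zero, zero_mul]
  set J : Ideal C := RingHom.ker gA with hJ
  let ebar : (C ⧸ J) ≃ₐ[A] AdicCompletion (maximalIdeal (B ⧸ I)) (B ⧸ I) :=
    Ideal.quotientKerAlgEquivOfSurjective hgAsurj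
  have hebar : ∀ c : C, ebar (Ideal.Quotient.mk J c) = gA c := fun c => rfl
  let θ : B →ₐ[A] AdicCompletion (maximalIdeal (B ⧸ I)) (B ⧸ I) :=
    (IsScalarTower.toAlgHom A (B ⧸ I) (AdicCompletion (maximalIdeal (B ⧸ I)) (B ⧸ I))).comp
      (Ideal.Quotient.mkₐ A I)
  have hθ : ∀ b : B, θ b = algebraMap (B ⧸ I) (AdicCompletion (maximalIdeal (B ⧸ I)) (B ⧸ I))
      (Ideal.Quotient.mk I b) := fun b => rfl
  let u : B →ₐ[A] C ⧸ J := (ebar.symm : _ →ₐ[A] C ⧸ J).comp θ
  have hu : ∀ b : B, ebar (u b) = θ b := fun b => ebar.apply_symm_apply (θ b)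
  have hfs' : EGA41.IsFormallySmoothAdic A ⊥ B (maximalIdeal B) :=
    (Groth.Agent.S4537.result (maximalIdeal B)).mp h
  -- `C ⧸ J` is local
  haveI : IsLocalRing (C ⧸ J) := ebar.symm.toRingEquiv.isLocalRing
  have hmCJ : (maximalIdeal C).map (Ideal.Quotient.mk J) = maximalIdeal (C ⧸ J) :=
    Groth.Agent.H47.CohenArtin.map_maximalIdeal_of_surjective _ Ideal.Quotient.mk_surjective
  haveI : IsHausdorff ((maximalIdeal C).map (Ideal.Quotient.mk J)) (C ⧸ J) := by
    rw [hmCJ]
    infer_instance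
  have hJle : J ≤ maximalIdeal C :=
    IsLocalRing.le_maximalIdeal (RingHom.ker_ne_top _)
  obtain ⟨v, -, hv⟩ := Groth.Agent.S4542.result (⊥ : Ideal A) (maximalIdeal B) (maximalIdeal C)
    hfs' ⟨1, by rw [pow_one, Ideal.map_bot]; exact bot_le⟩ J ⟨1, by rw [pow_one]; exact hJle⟩ u
    ⟨1, by
      rw [pow_one, hmCJ, Ideal.map_le_iff_le_comap]
      intro x hx
      rw [Ideal.mem_comap, mem_maximalIdeal, mem_nonunits_iff]
      intro hux
      have h1 : IsUnit (θ x) := by
        have := hux.map ebar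
        rwa [show ebar (u.toRingHom x) = θ x from hu x] at this
      rw [hθ] at h1
      have h2 : IsUnit (Ideal.Quotient.mk I x) := isUnit_of_map_unit _ _ h1
      have h3 : Ideal.Quotient.mk I x ∈ maximalIdeal (B ⧸ I) := by
        rw [← hmC]
        exact Ideal.mem_map_of_mem _ hx
      rw [mem_maximalIdeal, mem_nonunits_iff] at h3
      exact h3 h2⟩
  have hvb : ∀ b : B, Ideal.Quotient.mk J (v b) = u b := fun b => AlgHom.congr_fun hv b
  refine flat_of_comparison (C := C) v.toLinearMap ?_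
  apply lTensor_quot_injective
  intro b hb
  have h1 : gA (v b) = 0 := by
    refine Submodule.smul_induction_on hb ?_ ?_
    · intro a ha c _
      rw [Algebra.smul_def]
      exact hgAm a ha c
    · intro x y hx hy
      rw [map_add, hx, hy, add_zero]
  have h2 : θ b = 0 := by rw [← hu, ← hvb, hebar, h1]
  rw [hθ] at h2
  have h3 : Ideal.Quotient.mk I b = 0 := by
    have h4 : AdicCompletion.of (maximalIdeal (B ⧸ I)) (B ⧸ I) (Ideal.Quotient.mk I b) = 0 := by
      rw [← h2, AdicCompletion.algebraMap_apply, Algebra.algebraMap_self, RingHom.id_apply]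
    rw [← map_zero (AdicCompletion.of (maximalIdeal (B ⧸ I)) (B ⧸ I))] at h4
    exact AdicCompletion.of_injective _ _ h4
  rw [Ideal.Quotient.eq_zero_iff_mem, hI] at h3
  rw [Ideal.smul_top_eq_map]
  exact h3

end Main

end Groth.Agent.H23.FlatOfAdic
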