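import Mathlib
import Groth.Agent.H23.AdicLocal2
import Groth.Agent.S11451

/-!
# Regular local rings of finite type algebras over an algebraically closed field are smooth
-/

set_option autoImplicit false

namespace Groth.Agent.H23.RegSmooth

universe u

open IsLocalRing Groth.Agent.H23.AdicLocal

/-- The lifting problems needed by `formallySmooth_of_lifts_local` from an abstract lifting
property against square-zero extensions of Artinian local quotients of `B₀`. -/
theorem exists_lift_aux' {R B₀ C : Type u} [CommRing R] [CommRing B₀]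
    [Algebra R B₀] [IsLocalRing B₀] [IsNoetherianRing B₀] [CommRing C] [Algebra R C]
    (J : Ideal B₀) [IsLocalRing (B₀ ⧸ J)] (e : (B₀ ⧸ J) ≃ₐ[R] C) (k₁ : ℕ)
    (Hlift : ∀ (E : Type u) [CommRing E] [IsLocalRing E] [IsArtinianRing E] [Algebra R E]
      (ρ : B₀ →ₐ[R] E), Function.Surjective ρ → ∀ (K : Ideal E), K ^ 2 = ⊥ →
        ∀ lam : C →ₐ[R] E ⧸ K, ∃ χ' : C →ₐ[R] E, (Ideal.Quotient.mkₐ R K).comp χ' = lam) :
    ∃ χ : (B₀ ⧸ J) →ₐ[R]
        B₀ ⧸ ((RingHom.ker (algebraMap B₀ (B₀ ⧸ J))) ^ 2 ⊔
          (maximalIdeal (B₀ ⧸ J)).comap (Ideal.Quotient.mk J) *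
            RingHom.ker (algebraMap B₀ (B₀ ⧸ J)) ⊔
            ((maximalIdeal (B₀ ⧸ J)).comap (Ideal.Quotient.mk J)) ^ (k₁ + 1)),
      ∀ x : B₀, χ (Ideal.Quotient.mk J x) - Ideal.Quotient.mk _ x ∈
        (RingHom.ker (algebraMap B₀ (B₀ ⧸ J))).map (Ideal.Quotient.mk _) := by
  classical
  have h𝔍 : RingHom.ker (algebraMap B₀ (B₀ ⧸ J)) = J := by
    rw [Ideal.Quotient.algebraMap_eq, Ideal.mk_ker]
  set 𝔍 : Ideal B₀ := RingHom.ker (algebraMap B₀ (B₀ ⧸ J)) with h𝔍def
  set 𝔪' : Ideal B₀ := (maximalIdeal (B₀ ⧸ J)).comap (Ideal.Quotient.mk J) with h𝔪'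
  have h𝔪'max : 𝔪'.IsMaximal :=
    Ideal.comap_isMaximal_of_surjective _ Ideal.Quotient.mk_surjective
  have h𝔪'eq : 𝔪' = maximalIdeal B₀ := IsLocalRing.eq_maximalIdeal h𝔪'max
  have h𝔍le : 𝔍 ≤ 𝔪' := by
    intro x hx
    rw [h𝔪', Ideal.mem_comap]
    have : Ideal.Quotient.mk J x = 0 := hx
    rw [this]; exact zero_mem _
  set 𝔞 : Ideal B₀ := 𝔍 ^ 2 ⊔ 𝔪' * 𝔍 ⊔ 𝔪' ^ (k₁ + 1) with h𝔞
  have h𝔞le : 𝔞 ≤ 𝔪' := by
    refine sup_le (sup_le ?_ Ideal.mul_le_left) ?_
    · exact (Ideal.pow_le_self (by norm_num)).trans h𝔍le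
    · exact Ideal.pow_le_self (by norm_num)
  have h𝔞ne : 𝔞 ≠ ⊤ := fun h => h𝔪'max.ne_top (top_le_iff.mp (h ▸ h𝔞le))
  -- the ring `E`
  have hEnt : Nontrivial (B₀ ⧸ 𝔞) := Ideal.Quotient.nontrivial_iff.mpr h𝔞ne
  have hEloc : IsLocalRing (B₀ ⧸ 𝔞) :=
    IsLocalRing.of_surjective' (Ideal.Quotient.mk 𝔞) Ideal.Quotient.mk_surjective
  have hmE : maximalIdeal (B₀ ⧸ 𝔞) = 𝔪'.map (Ideal.Quotient.mk 𝔞) := by
    rw [h𝔪'eq]
    exact (IsLocalRing.map_maximalIdeal_of_surjective _ Ideal.Quotient.mk_surjective).symm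
  have hEart : IsArtinianRing (B₀ ⧸ 𝔞) := by
    rw [isArtinianRing_iff_isNilpotent_maximalIdeal]
    refine ⟨k₁ + 1, ?_⟩
    rw [hmE, ← Ideal.map_pow, Ideal.zero_eq_bot, eq_bot_iff, Ideal.map_le_iff_le_comap]
    intro x hx
    rw [Ideal.mem_comap, Ideal.mem_bot, Ideal.Quotient.eq_zero_iff_mem]
    exact Ideal.mem_sup_right hx
  set K : Ideal (B₀ ⧸ 𝔞) := 𝔍.map (Ideal.Quotient.mk 𝔞) with hK
  have hK2 : K ^ 2 = ⊥ := by
    rw [hK, ← Ideal.map_pow, eq_bot_iff, Ideal.map_le_iff_le_comap]
    intro x hx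
    rw [Ideal.mem_comap, Ideal.mem_bot, Ideal.Quotient.eq_zero_iff_mem]
    exact Ideal.mem_sup_left (Ideal.mem_sup_left hx)
  let π : (B₀ ⧸ 𝔞) →ₐ[R] (B₀ ⧸ 𝔞) ⧸ K := Ideal.Quotient.mkₐ R K
  -- the map to lift
  have hJK : ∀ x ∈ J, ((Ideal.Quotient.mkₐ R K).comp (Ideal.Quotient.mkₐ R 𝔞)) x = 0 := by
    intro x hx
    rw [AlgHom.comp_apply, Ideal.Quotient.mkₐ_eq_mk, Ideal.Quotient.mkₐ_eq_mk,
      Ideal.Quotient.eq_zero_iff_mem]
    exact Ideal.mem_map_of_mem _ (h𝔍 ▸ hx)
  let ψ : (B₀ ⧸ J) →ₐ[R] (B₀ ⧸ 𝔞) ⧸ K :=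
    Ideal.Quotient.liftₐ J ((Ideal.Quotient.mkₐ R K).comp (Ideal.Quotient.mkₐ R 𝔞)) hJK
  have hψmk : ∀ x : B₀, ψ (Ideal.Quotient.mk J x) =
      Ideal.Quotient.mk K (Ideal.Quotient.mk 𝔞 x) := fun x => rfl
  let lam : C →ₐ[R] (B₀ ⧸ 𝔞) ⧸ K := ψ.comp (e.symm : _ →ₐ[R] _)
  obtain ⟨χ', hχ'⟩ := Hlift (B₀ ⧸ 𝔞) (Ideal.Quotient.mkₐ R 𝔞) Ideal.Quotient.mk_surjective K hK2 lam
  have hχ'lam : ∀ c, π (χ' c) = lam c := fun c => AlgHom.congr_fun hχ' c
  refine ⟨χ'.comp (e : (B₀ ⧸ J) →ₐ[R] _), ?_⟩
  intro x
  rw [← Ideal.Quotient.eq]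
  change π (χ' (e (Ideal.Quotient.mk J x))) = _
  rw [hχ'lam]
  change ψ (e.symm (e (Ideal.Quotient.mk J x))) = _
  rw [e.symm_apply_apply, hψmk]


/-- Lifting against square-zero extensions of Artinian local quotients implies formal smoothness
of the local ring. -/
theorem formallySmooth_atPrime_of_lifts {R P S : Type u} [CommRing R] [CommRing P] [CommRing S]
    [Algebra R P] [Algebra P S] [Algebra R S] [IsScalarTower R P S] [IsNoetherianRing P]
    [Algebra.FormallySmooth R P] (hsurj : Function.Surjective (algebraMap P S)) (q : Ideal S)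
    [q.IsPrime]
    (Hlift : ∀ (E : Type u) [CommRing E] [IsLocalRing E] [IsArtinianRing E] [Algebra R E]
      (ρ : Localization.AtPrime (q.comap (algebraMap P S)) →ₐ[R] E), Function.Surjective ρ →
        ∀ (K : Ideal E), K ^ 2 = ⊥ → ∀ lam : Localization.AtPrime q →ₐ[R] E ⧸ K,
          ∃ χ' : Localization.AtPrime q →ₐ[R] E, (Ideal.Quotient.mkₐ R K).comp χ' = lam) :
    Algebra.FormallySmooth R (Localization.AtPrime q) := by
  classical
  have : Algebra.FormallySmooth P (Localization.AtPrime (q.comap (algebraMap P S))) :=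
    Algebra.FormallySmooth.of_isLocalization (q.comap (algebraMap P S)).primeCompl
  have : Algebra.FormallySmooth R (Localization.AtPrime (q.comap (algebraMap P S))) :=
    Algebra.FormallySmooth.comp R P _
  let ν₀ : Localization.AtPrime (q.comap (algebraMap P S)) →+* Localization.AtPrime q :=
    Localization.localRingHom (q.comap (algebraMap P S)) q (algebraMap P S) rfl
  have hν₀ : Function.Surjective ν₀ := RingHom.surjective_localRingHom_of_surjective _ hsurj q
  let ν : Localization.AtPrime (q.comap (algebraMap P S)) →ₐ[R] Localization.AtPrime q :=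
    { ν₀ with
      commutes' := fun a => by
        change ν₀ (algebraMap R _ a) = _
        rw [IsScalarTower.algebraMap_apply R P (Localization.AtPrime (q.comap (algebraMap P S))),
          Localization.localRingHom_to_map, ← IsScalarTower.algebraMap_apply,
          ← IsScalarTower.algebraMap_apply] }
  have hν : Function.Surjective ν := hν₀
  let e : (Localization.AtPrime (q.comap (algebraMap P S)) ⧸ RingHom.ker ν) ≃ₐ[R]
      Localization.AtPrime q := Ideal.quotientKerAlgEquivOfSurjective hν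
  have hloc : IsLocalRing (Localization.AtPrime (q.comap (algebraMap P S)) ⧸ RingHom.ker ν) :=
    e.symm.toRingEquiv.isLocalRing
  have key : Algebra.FormallySmooth R
      (Localization.AtPrime (q.comap (algebraMap P S)) ⧸ RingHom.ker ν) := by
    apply formallySmooth_of_lifts_local
    intro k₁
    exact exists_lift_aux' (RingHom.ker ν) e k₁ Hlift
  exact Algebra.FormallySmooth.of_equiv e

/-- An Artinian local algebra over a field with residue field `k` is finite over `k`. -/
theorem finite_of_artinian_local (k E : Type u) [Field k] [CommRing E] [IsLocalRing E]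
    [IsArtinianRing E] [Algebra k E]
    (hres : ∀ x : E, ∃ c : k, x - algebraMap k E c ∈ maximalIdeal E) : Module.Finite k E := by
  have h1 : Module.Finite k (E ⧸ maximalIdeal E) := by
    apply Module.Finite.of_surjective (Algebra.linearMap k (E ⧸ maximalIdeal E))
    intro y
    obtain ⟨x, rfl⟩ := Ideal.Quotient.mk_surjective y
    obtain ⟨c, hc⟩ := hres x
    refine ⟨c, ?_⟩
    rw [Algebra.linearMap_apply, eq_comm]
    have : Ideal.Quotient.mk (maximalIdeal E) (x - algebraMap k E c) = 0 :=
      Ideal.Quotient.eq_zero_iff_mem.mpr hc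
    rw [map_sub, sub_eq_zero] at this
    exact this
  have hnoeth : IsNoetherianRing E := inferInstance
  apply Module.finite_of_surjective_of_ker_le_nilradical
    (Ideal.Quotient.mkₐ k (maximalIdeal E)) Ideal.Quotient.mk_surjective
  · rw [← RingHom.ker_coe_toRingHom, Ideal.Quotient.mkₐ_ker]
    obtain ⟨n, hn⟩ := (isArtinianRing_iff_isNilpotent_maximalIdeal E).mp ‹_›
    intro x hx
    refine ⟨n, ?_⟩
    have := Ideal.pow_mem_pow hx n
    rw [hn] at this
    exact this
  · rw [← RingHom.ker_coe_toRingHom, Ideal.Quotient.mkₐ_ker]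
    exact IsNoetherian.noetherian _

/-- The residue field at a maximal ideal of a finite type algebra over an algebraically closed
field is the base field. -/
theorem exists_sub_mem_of_isMaximal (k S : Type u) [Field k] [IsAlgClosed k] [CommRing S]
    [Algebra k S] [Algebra.FiniteType k S] (m : Ideal S) [m.IsMaximal] (s : S) :
    ∃ c : k, s - algebraMap k S c ∈ m := by
  letI : Field (S ⧸ m) := Ideal.Quotient.field m
  have hfin : Module.Finite k (S ⧸ m) := finite_of_finite_type_of_isJacobsonRing k (S ⧸ m)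
  have hint : Algebra.IsIntegral k (S ⧸ m) := Algebra.IsIntegral.of_finite k (S ⧸ m)
  have hbij := IsAlgClosed.algebraMap_bijective_of_isIntegral (k := k) (K := S ⧸ m)
  obtain ⟨c, hc⟩ := hbij.2 (Ideal.Quotient.mk m s)
  refine ⟨c, ?_⟩
  rw [← Ideal.Quotient.eq_zero_iff_mem, map_sub, ← hc, sub_eq_zero]
  rfl

theorem exists_sub_mem_localization (k S : Type u) [Field k] [IsAlgClosed k] [CommRing S]
    [Algebra k S] [Algebra.FiniteType k S] (m : Ideal S) [m.IsMaximal]
    (x : Localization.AtPrime m) :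
    ∃ c : k, x - algebraMap k (Localization.AtPrime m) c ∈ maximalIdeal (Localization.AtPrime m) := by
  obtain ⟨s, t, rfl⟩ := IsLocalization.exists_mk'_eq m.primeCompl x
  obtain ⟨a, ha⟩ := exists_sub_mem_of_isMaximal k S m s
  obtain ⟨b, hb⟩ := exists_sub_mem_of_isMaximal k S m (t : S)
  have hb0 : b ≠ 0 := by
    rintro rfl
    rw [map_zero, sub_zero] at hb
    exact t.2 hb
  refine ⟨a / b, ?_⟩
  have hunit : IsUnit (algebraMap S (Localization.AtPrime m) (t : S)) :=
    IsLocalization.map_units _ t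
  -- multiply by the unit `t`
  have key : algebraMap S (Localization.AtPrime m) (t : S) *
      (IsLocalization.mk' (Localization.AtPrime m) s t - algebraMap k _ (a / b)) ∈
      maximalIdeal (Localization.AtPrime m) := by
    rw [mul_sub, IsLocalization.mk'_spec', IsScalarTower.algebraMap_apply k S (Localization.AtPrime m),
      ← map_mul, ← map_sub]
    rw [IsLocalization.AtPrime.to_map_mem_maximal_iff (Localization.AtPrime m) m]
    have e1 : s - (t : S) * algebraMap k S (a / b) =
        (s - algebraMap k S a) - ((t : S) - algebraMap k S b) * algebraMap k S (a / b) := by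
      have : algebraMap k S b * algebraMap k S (a / b) = algebraMap k S a := by
        rw [← map_mul, mul_div_cancel₀ _ hb0]
      rw [sub_mul, this]; ring
    rw [e1]
    exact m.sub_mem ha (m.mul_mem_right _ hb)
  exact (Ideal.unit_mul_mem_iff_mem _ hunit).mp key

/-- Over an algebraically closed field, a finite type algebra is smooth at a maximal ideal at which
its local ring is regular. -/
theorem formallySmooth_of_isRegularLocalRing (k S : Type u) [Field k] [IsAlgClosed k] [CommRing S]
    [Algebra k S] [Algebra.FiniteType k S] (m : Ideal S) [m.IsMaximal]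
    (hreg : IsRegularLocalRing (Localization.AtPrime m)) :
    Algebra.FormallySmooth k (Localization.AtPrime m) := by
  classical
  obtain ⟨n, f, hf⟩ := Algebra.FiniteType.iff_quotient_mvPolynomial''.mp
    (inferInstance : Algebra.FiniteType k S)
  letI algPS : Algebra (MvPolynomial (Fin n) k) S := f.toRingHom.toAlgebra
  have tow : IsScalarTower k (MvPolynomial (Fin n) k) S :=
    IsScalarTower.of_algebraMap_eq (fun a => (f.commutes a).symm)
  have hsurj : Function.Surjective (algebraMap (MvPolynomial (Fin n) k) S) := hf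
  have hmax : (m.comap (algebraMap (MvPolynomial (Fin n) k) S)).IsMaximal :=
    Ideal.comap_isMaximal_of_surjective _ hsurj
  have hess : Algebra.EssFiniteType k (Localization.AtPrime m) :=
    have : Algebra.EssFiniteType S (Localization.AtPrime m) :=
      Algebra.EssFiniteType.of_isLocalization _ m.primeCompl
    Algebra.EssFiniteType.comp k S _
  have hres : Function.Surjective (algebraMap k (IsLocalRing.ResidueField (Localization.AtPrime m))) := by
    intro y
    obtain ⟨x, rfl⟩ := IsLocalRing.residue_surjective y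
    obtain ⟨c, hc⟩ := exists_sub_mem_localization k S m x
    refine ⟨c, ?_⟩
    have : IsLocalRing.residue _ (x - algebraMap k (Localization.AtPrime m) c) = 0 :=
      (IsLocalRing.residue_eq_zero_iff _).mpr hc
    rw [map_sub, sub_eq_zero] at this
    rw [this]
    rfl
  have hlift := (Groth.Agent.S11451.result k (Localization.AtPrime m) hres).mp hreg
  apply formallySmooth_atPrime_of_lifts (P := MvPolynomial (Fin n) k) hsurj m
  intro E _ _ _ _ ρ hρ K hK2 lam
  have hρloc : IsLocalHom (ρ.toRingHom) := IsLocalHom.of_surjective ρ.toRingHom hρ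
  have hfinE : Module.Finite k E := by
    apply finite_of_artinian_local
    intro x
    obtain ⟨b, rfl⟩ := hρ x
    obtain ⟨c, hc⟩ := exists_sub_mem_localization k (MvPolynomial (Fin n) k)
      (m.comap (algebraMap (MvPolynomial (Fin n) k) S)) b
    refine ⟨c, ?_⟩
    have h1 : ρ (b - algebraMap k _ c) ∈ maximalIdeal E := by
      rw [mem_maximalIdeal, mem_nonunits_iff] at hc ⊢
      exact fun hu => hc (hρloc.map_nonunit _ hu)
    rw [map_sub, AlgHom.commutes] at h1
    exact h1
  exact hlift E K hK2 lam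

theorem residue_surjective (k S : Type u) [Field k] [IsAlgClosed k] [CommRing S]
    [Algebra k S] [Algebra.FiniteType k S] (m : Ideal S) [m.IsMaximal] :
    Function.Surjective (algebraMap k (IsLocalRing.ResidueField (Localization.AtPrime m))) := by
  intro y
  obtain ⟨x, rfl⟩ := IsLocalRing.residue_surjective y
  obtain ⟨c, hc⟩ := exists_sub_mem_localization k S m x
  refine ⟨c, ?_⟩
  have : IsLocalRing.residue _ (x - algebraMap k (Localization.AtPrime m) c) = 0 :=
    (IsLocalRing.residue_eq_zero_iff _).mpr hc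
  rw [map_sub, sub_eq_zero] at this
  rw [this]
  rfl

/-- Over an algebraically closed field, at a maximal ideal of a finite type algebra, regular is
the same as smooth. -/
theorem isRegularLocalRing_iff_formallySmooth (k S : Type u) [Field k] [IsAlgClosed k] [CommRing S]
    [Algebra k S] [Algebra.FiniteType k S] (m : Ideal S) [m.IsMaximal] :
    IsRegularLocalRing (Localization.AtPrime m) ↔
      Algebra.FormallySmooth k (Localization.AtPrime m) := by
  constructor
  · exact formallySmooth_of_isRegularLocalRing k S m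
  · intro h
    have hess : Algebra.EssFiniteType k (Localization.AtPrime m) :=
      have : Algebra.EssFiniteType S (Localization.AtPrime m) :=
        Algebra.EssFiniteType.of_isLocalization _ m.primeCompl
      Algebra.EssFiniteType.comp k S _
    rw [Groth.Agent.S11451.result k (Localization.AtPrime m) (residue_surjective k S m)]
    intro B' _ _ _ _ J hJ f
    exact Algebra.FormallySmooth.exists_lift J ⟨2, hJ⟩ f

end Groth.Agent.H23.RegSmooth
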