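import Mathlib
import Groth.Agent.H23.RegSmooth
import Groth.Agent.H47.SmoothRegular

/-!
# Regular = smooth for finite type algebras over an algebraically closed field
-/

set_option autoImplicit false

namespace Groth.Agent.H23.RegSmooth

universe u

/-- A finite type algebra over an algebraically closed field which is a regular ring is smooth. -/
theorem smooth_of_isRegularRing (k S : Type u) [Field k] [IsAlgClosed k] [CommRing S]
    [Algebra k S] [Algebra.FiniteType k S] [IsRegularRing S] : Algebra.Smooth k S := by
  have hfp : Algebra.FinitePresentation k S :=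
    Algebra.FinitePresentation.of_finiteType.mp inferInstance
  refine ⟨?_, hfp⟩
  rw [← Algebra.smoothLocus_eq_univ_iff]
  have hopen := Algebra.isOpen_smoothLocus (R := k) (A := S)
  obtain ⟨I, hI⟩ := (PrimeSpectrum.isClosed_iff_zeroLocus_ideal _).mp hopen.isClosed_compl
  by_cases hItop : I = ⊤
  · rw [hItop] at hI
    have : (Algebra.smoothLocus k S)ᶜ = ∅ := by rw [hI]; simp
    exact Set.compl_empty_iff.mp this
  · exfalso
    obtain ⟨m, hm, hIm⟩ := Ideal.exists_le_maximal I hItop
    have hmem : (⟨m, hm.isPrime⟩ : PrimeSpectrum S) ∈ (Algebra.smoothLocus k S)ᶜ := by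
      rw [hI, PrimeSpectrum.mem_zeroLocus]
      exact hIm
    apply hmem
    change Algebra.FormallySmooth k (Localization.AtPrime m)
    exact formallySmooth_of_isRegularLocalRing k S m inferInstance

/-- Over an algebraically closed field, a finite type algebra is a regular ring iff it is smooth. -/
theorem isRegularRing_iff_smooth (k S : Type u) [Field k] [IsAlgClosed k] [CommRing S]
    [Algebra k S] [Algebra.FiniteType k S] : IsRegularRing S ↔ Algebra.Smooth k S := by
  constructor
  · intro h
    exact smooth_of_isRegularRing k S
  · intro h
    exact Groth.Agent.H47.isRegularRing_of_smooth k S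

end Groth.Agent.H23.RegSmooth
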