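import Mathlib
import Groth.Prelude.Def_EGA41

/-!
# Formal smoothness for adic topologies over an adic base: surjection form, reduction to kernels
killed by the ideal of definition, and the formally projective case (EGA 0_IV 19.7.1).
-/

set_option autoImplicit false

namespace Groth.Agent.H23.AdicProj

universe u

section surj

variable (A : Type u) [CommRing A] (𝔞 : Ideal A) (B : Type u) [CommRing B] [Algebra A B]
  (𝔟 : Ideal B)

/-- Surjection form of `EGA41.IsFormallySmoothAdic`. -/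
def SurjLift : Prop :=
  ∀ (E E₀ : Type u) [CommRing E] [CommRing E₀] [Algebra A E] [Algebra A E₀] (π : E →ₐ[A] E₀),
    Function.Surjective π → IsNilpotent (RingHom.ker π) →
    (∃ k : ℕ, (𝔞 ^ k).map (algebraMap A E) = ⊥) →
      ∀ ψ : B →ₐ[A] E₀, (∃ k : ℕ, ∀ x ∈ 𝔟 ^ k, ψ x = 0) → ∃ χ : B →ₐ[A] E, π.comp χ = ψ

variable {A 𝔞 B 𝔟}

theorem surjLift_of_adic (h : EGA41.IsFormallySmoothAdic A 𝔞 B 𝔟) : SurjLift A 𝔞 B 𝔟 := by
  intro E E₀ _ _ _ _ π hπ hnil hk ψ hψ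
  let e := Ideal.quotientKerAlgEquivOfSurjective hπ
  obtain ⟨k, hk'⟩ := hψ
  obtain ⟨χ, hχ⟩ := h E (RingHom.ker π) hnil hk ((e.symm : E₀ →ₐ[A] _).comp ψ)
    ⟨k, fun x hx => by
      rw [AlgHom.comp_apply, hk' x hx, map_zero]⟩
  refine ⟨χ, ?_⟩
  ext x
  have h1 : e ((Ideal.Quotient.mkₐ A (RingHom.ker π)) (χ x)) =
      e (((e.symm : E₀ →ₐ[A] _).comp ψ) x) := by
    rw [← hχ]; rfl
  have h2 : e (e.symm (ψ x)) = ψ x := e.apply_symm_apply (ψ x)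
  rw [AlgHom.comp_apply] at h1
  rw [AlgHom.comp_apply, ← h2]
  exact h1

theorem adic_of_surjLift (h : SurjLift A 𝔞 B 𝔟) : EGA41.IsFormallySmoothAdic A 𝔞 B 𝔟 := by
  intro C _ _ J hJ hk u hu
  have hker : RingHom.ker (Ideal.Quotient.mkₐ A J) = J := by
    ext x; simp [Ideal.Quotient.eq_zero_iff_mem]
  exact h C (C ⧸ J) (Ideal.Quotient.mkₐ A J) (Ideal.Quotient.mkₐ_surjective A J)
    (by rw [hker]; exact hJ) hk u hu

/-- If `π ∘ χ` kills `𝔟 ^ k` and `(ker π) ^ t = 0` then `χ` kills `𝔟 ^ (k * t)`. -/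
theorem kills_of_comp {S E E₀ : Type*} [CommRing S] [CommRing E] [CommRing E₀] (𝔫 : Ideal S)
    (π : E →+* E₀) (χ : S →+* E) (k t : ℕ) (hk : ∀ x ∈ 𝔫 ^ k, π (χ x) = 0)
    (ht : RingHom.ker π ^ t = ⊥) : ∀ x ∈ 𝔫 ^ (k * t), χ x = 0 := by
  have h1 : Ideal.map χ (𝔫 ^ k) ≤ RingHom.ker π := by
    rw [Ideal.map_le_iff_le_comap]
    intro x hx
    rw [Ideal.mem_comap, RingHom.mem_ker]
    exact hk x hx
  have h2 : Ideal.map χ (𝔫 ^ (k * t)) ≤ ⊥ := by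
    rw [pow_mul, Ideal.map_pow, ← ht]
    exact Ideal.pow_right_mono h1 t
  intro x hx
  have := h2 (Ideal.mem_map_of_mem χ hx)
  simpa using this

/-- Reduction: it suffices to lift along surjections whose (nilpotent) kernel is killed by `𝔞`. -/
theorem surjLift_of_killed
    (h : ∀ (E E₀ : Type u) [CommRing E] [CommRing E₀] [Algebra A E] [Algebra A E₀]
      (π : E →ₐ[A] E₀), Function.Surjective π → IsNilpotent (RingHom.ker π) →
      (∃ k : ℕ, (𝔞 ^ k).map (algebraMap A E) = ⊥) →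
      (𝔞.map (algebraMap A E)) * RingHom.ker π = ⊥ →
      ∀ ψ : B →ₐ[A] E₀, (∃ k : ℕ, ∀ x ∈ 𝔟 ^ k, ψ x = 0) → ∃ χ : B →ₐ[A] E, π.comp χ = ψ) :
    SurjLift A 𝔞 B 𝔟 := by
  have key : ∀ i : ℕ, 1 ≤ i → ∀ (E E₀ : Type u) [CommRing E] [CommRing E₀] [Algebra A E]
      [Algebra A E₀] (π : E →ₐ[A] E₀), Function.Surjective π → IsNilpotent (RingHom.ker π) →
      (∃ k : ℕ, (𝔞 ^ k).map (algebraMap A E) = ⊥) →
      (𝔞.map (algebraMap A E)) ^ i * RingHom.ker π = ⊥ →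
      ∀ ψ : B →ₐ[A] E₀, (∃ k : ℕ, ∀ x ∈ 𝔟 ^ k, ψ x = 0) →
        ∃ χ : B →ₐ[A] E, π.comp χ = ψ := by
    intro i hi
    induction i, hi using Nat.le_induction with
    | base =>
      intro E E₀ _ _ _ _ π hπ hnil hk hkill ψ hψ
      rw [pow_one] at hkill
      exact h E E₀ π hπ hnil hk hkill ψ hψ
    | succ i hi ih =>
      intro E E₀ _ _ _ _ π hπ hnil hk hkill ψ hψ
      set K := RingHom.ker π with hK
      set K' : Ideal E := (𝔞.map (algebraMap A E)) ^ i * K with hK'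
      have hK'K : K' ≤ K := Ideal.mul_le_right
      -- the intermediate quotient
      let π' : (E ⧸ K') →ₐ[A] E₀ := Ideal.Quotient.liftₐ K' π (fun x hx => hK'K hx)
      have hπ' : Function.Surjective π' := by
        intro y
        obtain ⟨x, rfl⟩ := hπ y
        exact ⟨Ideal.Quotient.mk K' x, rfl⟩
      have hkerπ' : RingHom.ker π' ≤ K.map (Ideal.Quotient.mk K') := by
        intro y hy
        obtain ⟨x, rfl⟩ := Ideal.Quotient.mk_surjective y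
        have : π x = 0 := hy
        exact Ideal.mem_map_of_mem _ this
      obtain ⟨a, ha⟩ := hnil
      have hnil' : RingHom.ker π' ^ a = ⊥ := by
        rw [eq_bot_iff]
        refine (Ideal.pow_right_mono hkerπ' a).trans ?_
        rw [← Ideal.map_pow]
        have : K ^ a = ⊥ := ha
        rw [this, Ideal.map_bot]
      have hk' : ∃ k : ℕ, (𝔞 ^ k).map (algebraMap A (E ⧸ K')) = ⊥ := by
        obtain ⟨k, hk⟩ := hk
        refine ⟨k, ?_⟩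
        rw [IsScalarTower.algebraMap_eq A E (E ⧸ K'), ← Ideal.map_map, hk, Ideal.map_bot]
      have hkill' : (𝔞.map (algebraMap A (E ⧸ K'))) ^ i * RingHom.ker π' = ⊥ := by
        rw [eq_bot_iff]
        refine (Ideal.mul_mono_right hkerπ').trans ?_
        rw [IsScalarTower.algebraMap_eq A E (E ⧸ K'), ← Ideal.map_map, ← Ideal.map_pow,
          Ideal.Quotient.algebraMap_eq, ← Ideal.map_mul]
        change Ideal.map (Ideal.Quotient.mk K') K' ≤ ⊥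
        rw [Ideal.map_quotient_self]
      obtain ⟨ψ', hψ'⟩ := ih (E ⧸ K') E₀ π' hπ' ⟨a, hnil'⟩ hk' hkill' ψ hψ
      have hψ'c : ∃ k : ℕ, ∀ x ∈ 𝔟 ^ k, ψ' x = 0 := by
        obtain ⟨k, hk⟩ := hψ
        refine ⟨k * a, kills_of_comp 𝔟 (π' : (E ⧸ K') →+* E₀) (ψ' : B →+* E ⧸ K') k a ?_ hnil'⟩
        intro x hx
        have := congrArg (fun φ => φ x) hψ'
        simp only [AlgHom.comp_apply] at this
        change π' (ψ' x) = 0
        rw [this]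
        exact hk x hx
      -- the last step
      have hkermk : RingHom.ker (Ideal.Quotient.mkₐ A K') = K' := by
        ext x; simp [Ideal.Quotient.eq_zero_iff_mem]
      have hnilK' : IsNilpotent (RingHom.ker (Ideal.Quotient.mkₐ A K')) := by
        rw [hkermk]
        refine ⟨a, ?_⟩
        rw [Ideal.zero_eq_bot, eq_bot_iff]
        refine (Ideal.pow_right_mono hK'K a).trans ?_
        exact ha.le
      have hkillK' : (𝔞.map (algebraMap A E)) * RingHom.ker (Ideal.Quotient.mkₐ A K') = ⊥ := by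
        rw [hkermk, hK', ← mul_assoc, ← pow_succ']
        exact hkill
      obtain ⟨χ, hχ⟩ := h E (E ⧸ K') (Ideal.Quotient.mkₐ A K')
        (Ideal.Quotient.mkₐ_surjective A K') hnilK' hk hkillK' ψ' hψ'c
      refine ⟨χ, ?_⟩
      rw [← hψ', ← hχ]
      ext x
      rfl
  intro E E₀ _ _ _ _ π hπ hnil hk ψ hψ
  obtain ⟨k, hk'⟩ := hk
  refine key (k + 1) (Nat.le_add_left 1 k) E E₀ π hπ hnil ⟨k, hk'⟩ ?_ ψ hψ
  rw [pow_succ, ← Ideal.map_pow, hk', Ideal.bot_mul, Ideal.bot_mul]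

end surj

section main

variable {A B : Type u} [CommRing A] [CommRing B] [Algebra A B] (𝔞 : Ideal A) (𝔟 : Ideal B)

/-- EGA 0_IV 19.7.1, the key step: for a formally projective `B`, lifting along surjections with
nilpotent kernel killed by `𝔞`, from formal smoothness of `B/𝔞B` over `A/𝔞`. -/
theorem lift_of_killed
    (hproj : ∀ (n : ℕ) (P Q : Type u) [AddCommGroup P] [Module A P] [AddCommGroup Q] [Module A Q],
      (∀ a ∈ 𝔞 ^ n, ∀ y : P, a • y = 0) → (∀ a ∈ 𝔞 ^ n, ∀ y : Q, a • y = 0) →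
      ∀ f : P →ₗ[A] Q, Function.Surjective f → ∀ v : B →ₗ[A] Q, (∃ m : ℕ, ∀ x ∈ 𝔟 ^ m, v x = 0) →
        ∃ w : B →ₗ[A] P, (∃ m : ℕ, ∀ x ∈ 𝔟 ^ m, w x = 0) ∧ f ∘ₗ w = v)
    (h₀ : SurjLift (A ⧸ 𝔞) ⊥ (B ⧸ 𝔞.map (algebraMap A B))
        (𝔟.map (Ideal.Quotient.mk (𝔞.map (algebraMap A B)))))
    (E E₀ : Type u) [CommRing E] [CommRing E₀] [Algebra A E] [Algebra A E₀] (π : E →ₐ[A] E₀)
    (hπ : Function.Surjective π) (hnil : IsNilpotent (RingHom.ker π))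
    (hk : ∃ k : ℕ, (𝔞 ^ k).map (algebraMap A E) = ⊥)
    (hkill : (𝔞.map (algebraMap A E)) * RingHom.ker π = ⊥)
    (ψ : B →ₐ[A] E₀) (hψ : ∃ k : ℕ, ∀ x ∈ 𝔟 ^ k, ψ x = 0) :
    ∃ χ : B →ₐ[A] E, π.comp χ = ψ := by
  classical
  obtain ⟨n, hn⟩ := hk
  have hE : ∀ a ∈ 𝔞 ^ n, ∀ y : E, a • y = 0 := by
    intro a ha y
    have : algebraMap A E a ∈ (𝔞 ^ n).map (algebraMap A E) := Ideal.mem_map_of_mem _ ha
    rw [hn] at this
    rw [Algebra.smul_def, Ideal.mem_bot.mp this, zero_mul]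
  have hE₀ : ∀ a ∈ 𝔞 ^ n, ∀ y : E₀, a • y = 0 := by
    intro a ha y
    obtain ⟨x, rfl⟩ := hπ y
    rw [← map_smul, hE a ha x, map_zero]
  obtain ⟨w, ⟨m', hw⟩, hwψ⟩ := hproj n E E₀ hE hE₀ π.toLinearMap hπ ψ.toLinearMap hψ
  obtain ⟨m, hm⟩ := hψ
  have hwψ' : ∀ b, π (w b) = ψ b := fun b => LinearMap.congr_fun hwψ b
  set m₁ := max m m' with hm₁
  set 𝔠 : Ideal B := 𝔟 ^ m₁ with h𝔠
  have hψ𝔠 : ∀ x ∈ 𝔠, ψ x = 0 := fun x hx =>
    hm x (Ideal.pow_le_pow_right (le_max_left _ _) hx)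
  have hw𝔠 : ∀ x ∈ 𝔠, w x = 0 := fun x hx =>
    hw x (Ideal.pow_le_pow_right (le_max_right _ _) hx)
  let φ₁ : (B ⧸ 𝔠) →ₐ[A] E₀ := Ideal.Quotient.liftₐ 𝔠 ψ hψ𝔠
  let F : Subalgebra A ((B ⧸ 𝔠) × E) :=
    AlgHom.equalizer (φ₁.comp (AlgHom.fst A (B ⧸ 𝔠) E)) (π.comp (AlgHom.snd A (B ⧸ 𝔠) E))
  have hF : ∀ x : (B ⧸ 𝔠) × E, x ∈ F ↔ φ₁ x.1 = π x.2 := fun x => AlgHom.mem_equalizer _ _ x
  have hs : ∀ b : B, ((Ideal.Quotient.mk 𝔠 b, w b) : (B ⧸ 𝔠) × E) ∈ F := by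
    intro b
    rw [hF]
    exact (hwψ' b).symm
  let s : B → F := fun b => ⟨(Ideal.Quotient.mk 𝔠 b, w b), hs b⟩
  have s_add : ∀ x y, s (x + y) = s x + s y := by
    intro x y
    apply Subtype.ext
    apply Prod.ext
    · exact map_add (Ideal.Quotient.mk 𝔠) x y
    · exact map_add w x y
  have s_smul : ∀ (a : A) (x : B), s (a • x) = a • s x := by
    intro a x
    apply Subtype.ext
    apply Prod.ext
    · exact map_smul (Ideal.Quotient.mkₐ A 𝔠) a x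
    · exact map_smul w a x
  set 𝔞B : Ideal B := 𝔞.map (algebraMap A B) with h𝔞B
  set 𝔞F : Ideal F := 𝔞.map (algebraMap A F) with h𝔞F
  have hkillE : ∀ a ∈ 𝔞, ∀ k ∈ RingHom.ker π, a • k = 0 := by
    intro a ha k hk
    have : algebraMap A E a * k ∈ (𝔞.map (algebraMap A E)) * RingHom.ker π :=
      Ideal.mul_mem_mul (Ideal.mem_map_of_mem _ ha) hk
    rw [hkill] at this
    rw [Algebra.smul_def]
    exact Ideal.mem_bot.mp this
  have c2 : ∀ f ∈ 𝔞F, ∃ x ∈ 𝔞B, f = s x := by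
    intro f hf
    have hf' : f ∈ 𝔞 • (⊤ : Submodule A F) := by
      rw [Ideal.smul_top_eq_map]; exact hf
    refine Submodule.smul_induction_on hf' ?_ ?_
    · intro a ha f _
      obtain ⟨c, hc⟩ := Ideal.Quotient.mk_surjective f.1.1
      refine ⟨a • c, ?_, ?_⟩
      · rw [Algebra.smul_def]
        exact Ideal.mul_mem_right _ _ (Ideal.mem_map_of_mem _ ha)
      · rw [s_smul]
        have hfk : f.1.2 - w c ∈ RingHom.ker π := by
          rw [RingHom.mem_ker, map_sub, ← (hF f.1).mp f.2, ← hc, hwψ' c]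
          exact sub_self _
        apply Subtype.ext
        apply Prod.ext
        · show a • f.1.1 = a • Ideal.Quotient.mk 𝔠 c
          rw [hc]
        · show a • f.1.2 = a • w c
          have := hkillE a ha _ hfk
          rw [smul_sub, sub_eq_zero] at this
          exact this
    · rintro f g ⟨x, hx, rfl⟩ ⟨y, hy, rfl⟩
      exact ⟨x + y, Ideal.add_mem _ hx hy, (s_add x y).symm⟩
  have c1 : ∀ x ∈ 𝔞B, s x ∈ 𝔞F := by
    intro x hx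
    have hx' : x ∈ 𝔞 • (⊤ : Submodule A B) := by
      rw [Ideal.smul_top_eq_map]; exact hx
    refine Submodule.smul_induction_on hx' ?_ ?_
    · intro a ha c _
      rw [s_smul, Algebra.smul_def]
      exact Ideal.mul_mem_right _ _ (Ideal.mem_map_of_mem _ ha)
    · intro x y hx hy
      rw [s_add]
      exact Ideal.add_mem _ hx hy
  set 𝔟₀ : Ideal (B ⧸ 𝔞B) := 𝔟.map (Ideal.Quotient.mk 𝔞B) with h𝔟₀
  have hq : ∀ x ∈ 𝔠, ((Ideal.Quotient.mk (𝔟₀ ^ m₁)).comp (Ideal.Quotient.mk 𝔞B)) x = 0 := by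
    intro x hx
    rw [RingHom.comp_apply, Ideal.Quotient.eq_zero_iff_mem, h𝔟₀, ← Ideal.map_pow]
    exact Ideal.mem_map_of_mem _ hx
  let q₁ : (B ⧸ 𝔠) →+* (B ⧸ 𝔞B) ⧸ 𝔟₀ ^ m₁ := Ideal.Quotient.lift 𝔠 _ hq
  have c3 : ∀ y : B ⧸ 𝔠, q₁ y = 0 → ∃ x ∈ 𝔞B, y = Ideal.Quotient.mk 𝔠 x := by
    intro y hy
    obtain ⟨c, rfl⟩ := Ideal.Quotient.mk_surjective y
    have h1 : Ideal.Quotient.mk 𝔞B c ∈ 𝔟₀ ^ m₁ := by
      rw [← Ideal.Quotient.eq_zero_iff_mem]; exact hy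
    rw [h𝔟₀, ← Ideal.map_pow,
      Ideal.mem_map_iff_of_surjective _ Ideal.Quotient.mk_surjective] at h1
    obtain ⟨z, hz, hzc⟩ := h1
    refine ⟨c - z, ?_, ?_⟩
    · rw [← Ideal.Quotient.eq]; exact hzc.symm
    · rw [map_sub, Ideal.Quotient.eq_zero_iff_mem.mpr hz, sub_zero]
  let pr₁ : F →ₐ[A] (B ⧸ 𝔠) := (AlgHom.fst A (B ⧸ 𝔠) E).comp F.val
  let ρ : F →+* (B ⧸ 𝔞B) ⧸ 𝔟₀ ^ m₁ := q₁.comp (pr₁ : F →+* B ⧸ 𝔠)
  have hρ : ∀ f ∈ 𝔞F, ρ f = 0 := by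
    intro f hf
    obtain ⟨x, hx, rfl⟩ := c2 f hf
    show Ideal.Quotient.mk (𝔟₀ ^ m₁) (Ideal.Quotient.mk 𝔞B x) = 0
    rw [Ideal.Quotient.eq_zero_iff_mem.mpr hx, map_zero]
  let τr : (F ⧸ 𝔞F) →+* (B ⧸ 𝔞B) ⧸ 𝔟₀ ^ m₁ := Ideal.Quotient.lift 𝔞F ρ hρ
  let τ : (F ⧸ 𝔞F) →ₐ[A ⧸ 𝔞] (B ⧸ 𝔞B) ⧸ 𝔟₀ ^ m₁ :=
    { τr with
      commutes' := by
        intro r
        obtain ⟨a, rfl⟩ := Ideal.Quotient.mk_surjective r
        rfl }
  have hτsurj : Function.Surjective τ := by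
    intro y
    obtain ⟨y', rfl⟩ := Ideal.Quotient.mk_surjective y
    obtain ⟨b, rfl⟩ := Ideal.Quotient.mk_surjective y'
    exact ⟨Ideal.Quotient.mk 𝔞F (s b), rfl⟩
  have hτnil : IsNilpotent (RingHom.ker τ) := by
    obtain ⟨t, ht⟩ := hnil
    refine ⟨t + 1, ?_⟩
    have h1 : RingHom.ker τ ≤ (RingHom.ker pr₁).map (Ideal.Quotient.mk 𝔞F) := by
      intro y hy
      obtain ⟨f, rfl⟩ := Ideal.Quotient.mk_surjective y
      have hq0 : q₁ (pr₁ f) = 0 := hy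
      obtain ⟨x, hx, hxe⟩ := c3 _ hq0
      have hmk : Ideal.Quotient.mk 𝔞F f = Ideal.Quotient.mk 𝔞F (f - s x) := by
        rw [map_sub, Ideal.Quotient.eq_zero_iff_mem.mpr (c1 x hx), sub_zero]
      rw [hmk]
      apply Ideal.mem_map_of_mem
      rw [RingHom.mem_ker, map_sub, hxe]
      exact sub_self _
    have h2 : RingHom.ker pr₁ ^ (t + 1) = ⊥ := by
      rw [eq_bot_iff]
      intro f hf
      have hf1 : f ∈ RingHom.ker pr₁ := Ideal.pow_le_self (Nat.succ_ne_zero t) hf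
      let sndF : F →+* E := ((AlgHom.snd A (B ⧸ 𝔠) E).comp F.val : F →+* E)
      have hsnd : RingHom.ker pr₁ ≤ Ideal.comap sndF (RingHom.ker π) := by
        intro g hg
        rw [Ideal.mem_comap, RingHom.mem_ker]
        have hg0 : g.1.1 = 0 := hg
        show π g.1.2 = 0
        rw [← (hF g.1).mp g.2, hg0, map_zero]
      have hf2 : f ∈ Ideal.comap sndF (RingHom.ker π ^ t) :=
        Ideal.le_comap_pow sndF t (Ideal.pow_right_mono hsnd t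
          (Ideal.pow_le_pow_right (Nat.le_succ t) hf))
      have ht' : RingHom.ker π ^ t = ⊥ := ht
      rw [ht', Ideal.mem_comap, Ideal.mem_bot] at hf2
      rw [Ideal.mem_bot]
      apply Subtype.ext
      apply Prod.ext
      · exact hf1
      · exact hf2
    rw [Ideal.zero_eq_bot, eq_bot_iff]
    refine (Ideal.pow_right_mono h1 (t + 1)).trans ?_
    have h3 := Ideal.map_pow (Ideal.Quotient.mk 𝔞F) (RingHom.ker pr₁) (t + 1)
    rw [← h3, h2, Ideal.map_bot]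
  have hbot : ∃ k : ℕ, ((⊥ : Ideal (A ⧸ 𝔞)) ^ k).map (algebraMap (A ⧸ 𝔞) (F ⧸ 𝔞F)) = ⊥ :=
    ⟨1, by rw [pow_one, Ideal.map_bot]⟩
  have h₀' := h₀ (F ⧸ 𝔞F) ((B ⧸ 𝔞B) ⧸ 𝔟₀ ^ m₁) τ hτsurj hτnil hbot
  have h₀'' := h₀' (Ideal.Quotient.mkₐ (A ⧸ 𝔞) (𝔟₀ ^ m₁))
  have hcont : ∃ k : ℕ, ∀ x ∈ 𝔟₀ ^ k, (Ideal.Quotient.mkₐ (A ⧸ 𝔞) (𝔟₀ ^ m₁)) x = 0 :=
    ⟨m₁, fun x hx => Ideal.Quotient.eq_zero_iff_mem.mpr hx⟩
  obtain ⟨χ₀, hχ₀⟩ := h₀'' hcont
  have hχ₀' : ∀ y, τr (χ₀ y) = Ideal.Quotient.mk (𝔟₀ ^ m₁) y := fun y =>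
    congrArg (fun φ => φ y) hχ₀
  let θ : F →ₐ[A] (B ⧸ 𝔠) × (F ⧸ 𝔞F) := AlgHom.prod pr₁ (Ideal.Quotient.mkₐ A 𝔞F)
  have hθ : Function.Injective θ := by
    rw [injective_iff_map_eq_zero]
    intro f hf
    have h1 : pr₁ f = 0 := congrArg Prod.fst hf
    have h2 : f ∈ 𝔞F := Ideal.Quotient.eq_zero_iff_mem.mp (congrArg Prod.snd hf)
    obtain ⟨x, hx, rfl⟩ := c2 f h2
    have hx𝔠 : x ∈ 𝔠 := Ideal.Quotient.eq_zero_iff_mem.mp h1
    apply Subtype.ext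
    apply Prod.ext
    · exact h1
    · exact hw𝔠 x hx𝔠
  let g : B →ₐ[A] (B ⧸ 𝔠) × (F ⧸ 𝔞F) :=
    AlgHom.prod (Ideal.Quotient.mkₐ A 𝔠)
      ((χ₀.restrictScalars A).comp (Ideal.Quotient.mkₐ A 𝔞B))
  have hg : ∀ b, g b ∈ θ.range := by
    intro b
    obtain ⟨f, hf⟩ := Ideal.Quotient.mk_surjective (χ₀ (Ideal.Quotient.mk 𝔞B b))
    have h1 : q₁ (pr₁ f - Ideal.Quotient.mk 𝔠 b) = 0 := by
      rw [map_sub, sub_eq_zero]
      have := hχ₀' (Ideal.Quotient.mk 𝔞B b)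
      rw [← hf] at this
      exact this
    obtain ⟨x, hx, hxe⟩ := c3 _ h1
    refine ⟨f - s x, ?_⟩
    apply Prod.ext
    · show pr₁ (f - s x) = Ideal.Quotient.mk 𝔠 b
      rw [map_sub]
      show pr₁ f - Ideal.Quotient.mk 𝔠 x = _
      rw [← hxe]
      ring
    · show Ideal.Quotient.mk 𝔞F (f - s x) = χ₀ (Ideal.Quotient.mk 𝔞B b)
      rw [map_sub, Ideal.Quotient.eq_zero_iff_mem.mpr (c1 x hx), sub_zero, hf]
  let χ' : B →ₐ[A] F :=
    ((AlgEquiv.ofInjective θ hθ).symm : θ.range →ₐ[A] F).comp (g.codRestrict θ.range hg)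
  have hχ' : ∀ b, θ (χ' b) = g b := by
    intro b
    have := (AlgEquiv.ofInjective θ hθ).apply_symm_apply (g.codRestrict θ.range hg b)
    exact congrArg Subtype.val this
  refine ⟨(AlgHom.snd A (B ⧸ 𝔠) E).comp (F.val.comp χ'), ?_⟩
  ext b
  show π (χ' b).1.2 = ψ b
  rw [← (hF (χ' b).1).mp (χ' b).2]
  have h1 : (χ' b).1.1 = Ideal.Quotient.mk 𝔠 b := congrArg Prod.fst (hχ' b)
  rw [h1]
  rfl

end main

end Groth.Agent.H23.AdicProj
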