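import Mathlib
import Groth.Prelude.Def_EGA41
import Groth.Agent.H23.AdicProj

/-!
# Base change and descent of adic formal smoothness along `A → A'` admitting an `A`-linear
retraction (in particular faithfully flat projective `A'`), EGA 0_IV 19.7.2-type statements.
-/

set_option autoImplicit false

namespace Groth.Agent.H23.AdicDescent

open TensorProduct

universe u

/-- A faithfully flat projective algebra admits a linear retraction of the unit map. -/
theorem exists_retraction {A A' : Type*} [CommRing A] [CommRing A'] [Algebra A A']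
    [Module.FaithfullyFlat A A'] [Module.Projective A A'] : ∃ r : A' →ₗ[A] A, r 1 = 1 := by
  classical
  obtain ⟨s, hs⟩ := Module.projective_def'.mp (inferInstance : Module.Projective A A')
  let I : Ideal A := Ideal.span {a | ∃ (g : A' →ₗ[A] A) (y : A'), g y = a}
  have hI : I • (⊤ : Submodule A A') = ⊤ := by
    rw [eq_top_iff]
    intro y _
    have hy : y = Finsupp.linearCombination A id (s y) := (LinearMap.congr_fun hs y).symm
    rw [hy, Finsupp.linearCombination_apply]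
    refine Submodule.sum_mem _ (fun x _ => ?_)
    have hmem : (s y) x ∈ I := by
      apply Ideal.subset_span
      refine ⟨(Finsupp.lapply x).comp s, y, ?_⟩
      simp
    have hmem' := Submodule.smul_mem_smul (N := (⊤ : Submodule A A')) hmem
      (Submodule.mem_top (x := x))
    exact hmem'
  have hItop : I = ⊤ := by
    by_contra hne
    obtain ⟨m, hm, hIm⟩ := Ideal.exists_le_maximal I hne
    have hle : I • (⊤ : Submodule A A') ≤ m • (⊤ : Submodule A A') :=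
      Submodule.smul_mono_left hIm
    rw [hI, top_le_iff] at hle
    exact Module.FaithfullyFlat.submodule_ne_top (M := A') hm hle
  have key : ∀ a ∈ I, ∃ r : A' →ₗ[A] A, r 1 = a := by
    intro a ha
    refine Submodule.span_induction ?_ ?_ ?_ ?_ ha
    · rintro a ⟨g, y, rfl⟩
      exact ⟨g.comp (LinearMap.mulLeft A y), by simp⟩
    · exact ⟨0, rfl⟩
    · rintro a b _ _ ⟨r₁, h₁⟩ ⟨r₂, h₂⟩
      exact ⟨r₁ + r₂, by simp [h₁, h₂]⟩
    · rintro c a _ ⟨r, h⟩
      exact ⟨c • r, by simp [h]⟩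
  exact key 1 (hItop ▸ Submodule.mem_top)

section sqzero

variable {A : Type u} [CommRing A] {𝔞 : Ideal A} {B : Type u} [CommRing B] [Algebra A B]
  {𝔟 : Ideal B}

/-- Reduction of the surjection form to square-zero kernels. -/
theorem surjLift_of_sqZero
    (h : ∀ (E E₀ : Type u) [CommRing E] [CommRing E₀] [Algebra A E] [Algebra A E₀]
      (π : E →ₐ[A] E₀), Function.Surjective π → RingHom.ker π ^ 2 = ⊥ →
      (∃ k : ℕ, (𝔞 ^ k).map (algebraMap A E) = ⊥) →
      ∀ ψ : B →ₐ[A] E₀, (∃ k : ℕ, ∀ x ∈ 𝔟 ^ k, ψ x = 0) → ∃ χ : B →ₐ[A] E, π.comp χ = ψ) :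
    AdicProj.SurjLift A 𝔞 B 𝔟 := by
  have key : ∀ t : ℕ, 1 ≤ t → ∀ (E E₀ : Type u) [CommRing E] [CommRing E₀] [Algebra A E]
      [Algebra A E₀] (π : E →ₐ[A] E₀), Function.Surjective π → RingHom.ker π ^ (t + 1) = ⊥ →
      (∃ k : ℕ, (𝔞 ^ k).map (algebraMap A E) = ⊥) →
      ∀ ψ : B →ₐ[A] E₀, (∃ k : ℕ, ∀ x ∈ 𝔟 ^ k, ψ x = 0) →
        ∃ χ : B →ₐ[A] E, π.comp χ = ψ := by
    intro t ht
    induction t, ht using Nat.le_induction with
    | base =>
      intro E E₀ _ _ _ _ π hπ hnil hk ψ hψ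
      exact h E E₀ π hπ hnil hk ψ hψ
    | succ t ht ih =>
      intro E E₀ _ _ _ _ π hπ hnil hk ψ hψ
      set K := RingHom.ker π with hK
      set K' : Ideal E := K ^ (t + 1) with hK'
      have hK'K : K' ≤ K := Ideal.pow_le_self (Nat.succ_ne_zero t)
      let π' : (E ⧸ K') →ₐ[A] E₀ := Ideal.Quotient.liftₐ K' π (fun x hx => hK'K hx)
      have hπ' : Function.Surjective π' := by
        intro y
        obtain ⟨x, rfl⟩ := hπ y
        exact ⟨Ideal.Quotient.mk K' x, rfl⟩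
      have hkerπ' : RingHom.ker π' ≤ K.map (Ideal.Quotient.mk K') := by
        intro y hy
        obtain ⟨x, rfl⟩ := Ideal.Quotient.mk_surjective y
        have : π x = 0 := hy
        exact Ideal.mem_map_of_mem _ this
      have hnil' : RingHom.ker π' ^ (t + 1) = ⊥ := by
        rw [eq_bot_iff]
        refine (Ideal.pow_right_mono hkerπ' (t + 1)).trans ?_
        rw [← Ideal.map_pow]
        change Ideal.map (Ideal.Quotient.mk K') K' ≤ ⊥
        rw [Ideal.map_quotient_self]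
      have hk' : ∃ k : ℕ, (𝔞 ^ k).map (algebraMap A (E ⧸ K')) = ⊥ := by
        obtain ⟨k, hk⟩ := hk
        refine ⟨k, ?_⟩
        rw [IsScalarTower.algebraMap_eq A E (E ⧸ K'), ← Ideal.map_map, hk, Ideal.map_bot]
      obtain ⟨ψ', hψ'⟩ := ih (E ⧸ K') E₀ π' hπ' hnil' hk' ψ hψ
      have hψ'c : ∃ k : ℕ, ∀ x ∈ 𝔟 ^ k, ψ' x = 0 := by
        obtain ⟨k, hk⟩ := hψ
        refine ⟨k * (t + 1), AdicProj.kills_of_comp 𝔟 (π' : (E ⧸ K') →+* E₀)
          (ψ' : B →+* E ⧸ K') k (t + 1) ?_ hnil'⟩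
        intro x hx
        have := congrArg (fun φ => φ x) hψ'
        simp only [AlgHom.comp_apply] at this
        change π' (ψ' x) = 0
        rw [this]
        exact hk x hx
      have hkermk : RingHom.ker (Ideal.Quotient.mkₐ A K') = K' := by
        ext x; simp [Ideal.Quotient.eq_zero_iff_mem]
      have hsqK' : RingHom.ker (Ideal.Quotient.mkₐ A K') ^ 2 = ⊥ := by
        rw [hkermk, hK', ← pow_mul, eq_bot_iff, ← hnil]
        exact Ideal.pow_le_pow_right (by omega)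
      obtain ⟨χ, hχ⟩ := h E (E ⧸ K') (Ideal.Quotient.mkₐ A K')
        (Ideal.Quotient.mkₐ_surjective A K') hsqK' hk ψ' hψ'c
      refine ⟨χ, ?_⟩
      rw [← hψ', ← hχ]
      ext x
      rfl
  intro E E₀ _ _ _ _ π hπ hnil hk ψ hψ
  obtain ⟨a, ha⟩ := hnil
  refine key (max a 1) (le_max_right _ _) E E₀ π hπ ?_ hk ψ hψ
  rw [eq_bot_iff]
  have ha' : RingHom.ker π ^ a = ⊥ := ha
  rw [← ha']
  exact Ideal.pow_le_pow_right ((le_max_left a 1).trans (Nat.le_succ _))

end sqzero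

section basechange

variable {A B A' : Type u} [CommRing A] [CommRing B] [CommRing A'] [Algebra A B] [Algebra A A']
  (𝔞 : Ideal A) (𝔟 : Ideal B)

theorem algebraMap_tmul_one (X : Type u) [CommRing X] [Algebra A X] (a : A) :
    algebraMap A' (A' ⊗[A] X) (algebraMap A A' a) = (1 : A') ⊗ₜ[A] algebraMap A X a := by
  rw [Algebra.TensorProduct.algebraMap_apply, Algebra.algebraMap_self, RingHom.id_apply,
    Algebra.algebraMap_eq_smul_one, Algebra.algebraMap_eq_smul_one, TensorProduct.smul_tmul]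

/-- Base change of adic formal smoothness. -/
theorem adic_baseChange (h : EGA41.IsFormallySmoothAdic A 𝔞 B 𝔟) :
    EGA41.IsFormallySmoothAdic A' (𝔞.map (algebraMap A A')) (A' ⊗[A] B)
      ((𝔞.map (algebraMap A A')).map (algebraMap A' (A' ⊗[A] B)) ⊔
        𝔟.map (Algebra.TensorProduct.includeRight : B →ₐ[A] A' ⊗[A] B).toRingHom) := by
  intro C _ _ J hJ hk u' hu'
  letI algAC : Algebra A C := Algebra.compHom C (algebraMap A A')
  haveI towC : IsScalarTower A A' C := IsScalarTower.of_algebraMap_eq (fun _ => rfl)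
  haveI towCJ : IsScalarTower A A' (C ⧸ J) := IsScalarTower.of_algebraMap_eq (fun _ => rfl)
  have hk' : ∃ k : ℕ, (𝔞 ^ k).map (algebraMap A C) = ⊥ := by
    obtain ⟨k, hk⟩ := hk
    refine ⟨k, ?_⟩
    rw [IsScalarTower.algebraMap_eq A A' C, ← Ideal.map_map, Ideal.map_pow]
    exact hk
  let u : B →ₐ[A] C ⧸ J := (u'.restrictScalars A).comp Algebra.TensorProduct.includeRight
  have hu : ∃ k : ℕ, ∀ x ∈ 𝔟 ^ k, u x = 0 := by
    obtain ⟨k, hk⟩ := hu'
    refine ⟨k, fun x hx => hk _ ?_⟩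
    have hx' : (Algebra.TensorProduct.includeRight : B →ₐ[A] A' ⊗[A] B).toRingHom x ∈
        (𝔟.map (Algebra.TensorProduct.includeRight : B →ₐ[A] A' ⊗[A] B).toRingHom) ^ k := by
      rw [← Ideal.map_pow]
      exact Ideal.mem_map_of_mem _ hx
    exact Ideal.pow_right_mono le_sup_right k hx'
  obtain ⟨v, hv⟩ := h C J hJ hk' u hu
  let v' : A' ⊗[A] B →ₐ[A'] C :=
    Algebra.TensorProduct.lift (Algebra.ofId A' C) v (fun _ _ => Commute.all _ _)
  refine ⟨v', ?_⟩
  apply Algebra.TensorProduct.ext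
  · ext
  · ext b
    have := congrArg (fun φ => φ b) hv
    simpa [v', u] using this

/-- Descent of adic formal smoothness along `A → A'` with an `A`-linear retraction. -/
theorem adic_descent (r : A' →ₗ[A] A) (hr : r 1 = 1)
    (h' : EGA41.IsFormallySmoothAdic A' (𝔞.map (algebraMap A A')) (A' ⊗[A] B)
      ((𝔞.map (algebraMap A A')).map (algebraMap A' (A' ⊗[A] B)) ⊔
        𝔟.map (Algebra.TensorProduct.includeRight : B →ₐ[A] A' ⊗[A] B).toRingHom)) :
    EGA41.IsFormallySmoothAdic A 𝔞 B 𝔟 := by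
  apply AdicProj.adic_of_surjLift
  apply surjLift_of_sqZero
  intro E E₀ _ _ _ _ π hπ hsq hk ψ hψ
  have hS := AdicProj.surjLift_of_adic h'
  let π' : A' ⊗[A] E →ₐ[A'] A' ⊗[A] E₀ := Algebra.TensorProduct.map (AlgHom.id A' A') π
  let ψ' : A' ⊗[A] B →ₐ[A'] A' ⊗[A] E₀ := Algebra.TensorProduct.map (AlgHom.id A' A') ψ
  have hπ'tmul : ∀ (a : A') (e : E), π' (a ⊗ₜ e) = a ⊗ₜ π e := fun a e =>
    Algebra.TensorProduct.map_tmul _ _ _ _
  have hψ'tmul : ∀ (a : A') (b : B), ψ' (a ⊗ₜ b) = a ⊗ₜ ψ b := fun a b =>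
    Algebra.TensorProduct.map_tmul _ _ _ _
  have hπ' : Function.Surjective π' := by
    intro z
    induction z using TensorProduct.induction_on with
    | zero => exact ⟨0, map_zero _⟩
    | tmul a e₀ =>
      obtain ⟨e, rfl⟩ := hπ e₀
      exact ⟨a ⊗ₜ e, hπ'tmul a e⟩
    | add x y hx hy =>
      obtain ⟨x', rfl⟩ := hx
      obtain ⟨y', rfl⟩ := hy
      exact ⟨x' + y', map_add _ _ _⟩
  have hkerπ' : RingHom.ker π' =
      (RingHom.ker π).map (Algebra.TensorProduct.includeRight : E →ₐ[A] A' ⊗[A] E) := by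
    rw [← Algebra.TensorProduct.lTensor_ker π hπ]
    ext x
    rfl
  have hsq' : RingHom.ker π' ^ 2 = ⊥ := by
    rw [hkerπ', ← Ideal.map_pow, hsq, Ideal.map_bot]
  obtain ⟨n, hn⟩ := hk
  obtain ⟨m, hm⟩ := hψ
  have hzero : ∀ a ∈ 𝔞 ^ n, algebraMap A E a = 0 := by
    intro a ha
    have : algebraMap A E a ∈ (𝔞 ^ n).map (algebraMap A E) := Ideal.mem_map_of_mem _ ha
    rw [hn] at this
    exact Ideal.mem_bot.mp this
  have hzero₀ : ∀ a ∈ 𝔞 ^ n, algebraMap A E₀ a = 0 := by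
    intro a ha
    rw [← π.commutes, hzero a ha, map_zero]
  have hk'' : ∃ k : ℕ, ((𝔞.map (algebraMap A A')) ^ k).map (algebraMap A' (A' ⊗[A] E)) = ⊥ := by
    refine ⟨n, ?_⟩
    rw [← Ideal.map_pow, Ideal.map_map, eq_bot_iff, Ideal.map_le_iff_le_comap]
    intro a ha
    rw [Ideal.mem_comap, RingHom.comp_apply, algebraMap_tmul_one, hzero a ha, tmul_zero]
    exact Ideal.zero_mem _
  have hψ'c : ∃ k : ℕ, ∀ x ∈ ((𝔞.map (algebraMap A A')).map (algebraMap A' (A' ⊗[A] B)) ⊔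
      𝔟.map (Algebra.TensorProduct.includeRight : B →ₐ[A] A' ⊗[A] B).toRingHom) ^ k,
      ψ' x = 0 := by
    refine ⟨n + m, ?_⟩
    have h1 : ((𝔞.map (algebraMap A A')).map (algebraMap A' (A' ⊗[A] B))) ^ n ≤
        RingHom.ker ψ' := by
      rw [← Ideal.map_pow, ← Ideal.map_pow, Ideal.map_map, Ideal.map_le_iff_le_comap]
      intro a ha
      rw [Ideal.mem_comap, RingHom.mem_ker, RingHom.comp_apply, AlgHom.commutes,
        algebraMap_tmul_one, hzero₀ a ha, tmul_zero]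
    have h2 : (𝔟.map (Algebra.TensorProduct.includeRight : B →ₐ[A] A' ⊗[A] B).toRingHom) ^ m ≤
        RingHom.ker ψ' := by
      rw [← Ideal.map_pow, Ideal.map_le_iff_le_comap]
      intro x hx
      rw [Ideal.mem_comap, RingHom.mem_ker]
      show ψ' ((1 : A') ⊗ₜ x) = 0
      rw [hψ'tmul, hm x hx, tmul_zero]
    intro x hx
    exact (Ideal.sup_pow_add_le_pow_sup_pow.trans (sup_le h1 h2)) hx
  obtain ⟨χ', hχ'⟩ := hS (A' ⊗[A] E) (A' ⊗[A] E₀) π' hπ' ⟨2, hsq'⟩ hk'' ψ' hψ'c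
  have hχ'π : ∀ z, π' (χ' z) = ψ' z := fun z => congrArg (fun φ => φ z) hχ'
  let ρ : A' ⊗[A] E →ₗ[A] E := (TensorProduct.lid A E).toLinearMap ∘ₗ LinearMap.rTensor E r
  let ρ₀ : A' ⊗[A] E₀ →ₗ[A] E₀ := (TensorProduct.lid A E₀).toLinearMap ∘ₗ LinearMap.rTensor E₀ r
  have hρ : ∀ (a : A') (e : E), ρ (a ⊗ₜ e) = r a • e := fun a e => by simp [ρ]
  have hρ₀ : ∀ (a : A') (e : E₀), ρ₀ (a ⊗ₜ e) = r a • e := fun a e => by simp [ρ₀]
  have hρ1 : ∀ e : E, ρ ((1 : A') ⊗ₜ e) = e := fun e => by rw [hρ, hr, one_smul]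
  have hρmul : ∀ (e : E) (z : A' ⊗[A] E), ρ ((1 : A') ⊗ₜ e * z) = e * ρ z := by
    intro e z
    induction z using TensorProduct.induction_on with
    | zero => simp
    | tmul a e' => rw [Algebra.TensorProduct.tmul_mul_tmul, one_mul, hρ, hρ, mul_smul_comm]
    | add x y hx hy => rw [mul_add, map_add, map_add, hx, hy, mul_add]
  have hρπ : ∀ z, π (ρ z) = ρ₀ (π' z) := by
    intro z
    induction z using TensorProduct.induction_on with
    | zero => simp
    | tmul a e => rw [hρ, hπ'tmul, hρ₀, map_smul]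
    | add x y hx hy => rw [map_add, map_add, map_add, map_add, hx, hy]
  have hρker : ∀ ν ∈ RingHom.ker π', ρ ν ∈ RingHom.ker π := by
    intro ν hν
    rw [RingHom.mem_ker, hρπ, RingHom.mem_ker.mp hν, map_zero]
  have hmult : ∀ (x y : A' ⊗[A] E) (e e' : E), π' x = 1 ⊗ₜ π e → π' y = 1 ⊗ₜ π e' →
      ρ (x * y) = ρ x * ρ y := by
    intro x y e e' hx hy
    have hν : x - 1 ⊗ₜ e ∈ RingHom.ker π' := by
      rw [RingHom.mem_ker, map_sub, hx, hπ'tmul, sub_self]
    have hν' : y - 1 ⊗ₜ e' ∈ RingHom.ker π' := by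
      rw [RingHom.mem_ker, map_sub, hy, hπ'tmul, sub_self]
    obtain ⟨ν, hνdef⟩ : ∃ ν, ν = x - (1 : A') ⊗ₜ[A] e := ⟨_, rfl⟩
    obtain ⟨ν', hν'def⟩ : ∃ ν', ν' = y - (1 : A') ⊗ₜ[A] e' := ⟨_, rfl⟩
    rw [← hνdef] at hν
    rw [← hν'def] at hν'
    have hxe : x = 1 ⊗ₜ e + ν := by rw [hνdef]; ring
    have hye : y = 1 ⊗ₜ e' + ν' := by rw [hν'def]; ring
    have hνν' : ν * ν' = 0 := by
      have : ν * ν' ∈ RingHom.ker π' ^ 2 := by
        rw [pow_two]; exact Ideal.mul_mem_mul hν hν'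
      rw [hsq'] at this
      exact Ideal.mem_bot.mp this
    have hρνν' : ρ ν * ρ ν' = 0 := by
      have : ρ ν * ρ ν' ∈ RingHom.ker π ^ 2 := by
        rw [pow_two]; exact Ideal.mul_mem_mul (hρker ν hν) (hρker ν' hν')
      rw [hsq] at this
      exact Ideal.mem_bot.mp this
    have h11 : (1 : A') ⊗ₜ[A] (e * e') = (1 ⊗ₜ e) * (1 ⊗ₜ e') := by
      rw [Algebra.TensorProduct.tmul_mul_tmul, one_mul]
    have expand : ((1 : A') ⊗ₜ[A] e + ν) * (1 ⊗ₜ e' + ν') =
        (1 : A') ⊗ₜ (e * e') + (1 ⊗ₜ e) * ν' + (1 ⊗ₜ e') * ν + ν * ν' := by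
      rw [h11]; ring
    rw [hxe, hye, expand, map_add, map_add, map_add, hρ1, hρmul, hρmul, hνν', map_zero,
      map_add, map_add, hρ1, hρ1]
    linear_combination (-1 : E) * hρνν'
  let χl : B →ₗ[A] E := ρ ∘ₗ (χ'.toLinearMap.restrictScalars A) ∘ₗ
    (Algebra.TensorProduct.includeRight : B →ₐ[A] A' ⊗[A] B).toLinearMap
  have hχl : ∀ b, χl b = ρ (χ' ((1 : A') ⊗ₜ b)) := fun b => rfl
  have hχone : χl 1 = 1 := by
    rw [hχl, ← Algebra.TensorProduct.one_def, map_one, Algebra.TensorProduct.one_def, hρ, hr,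
      one_smul]
  have hχmul : ∀ b b', χl (b * b') = χl b * χl b' := by
    intro b b'
    obtain ⟨e, he⟩ := hπ (ψ b)
    obtain ⟨e', he'⟩ := hπ (ψ b')
    have h11 : (1 : A') ⊗ₜ[A] (b * b') = (1 ⊗ₜ b) * (1 ⊗ₜ b') := by
      rw [Algebra.TensorProduct.tmul_mul_tmul, one_mul]
    rw [hχl, hχl, hχl, h11, map_mul]
    apply hmult _ _ e e'
    · rw [hχ'π, hψ'tmul, he]
    · rw [hχ'π, hψ'tmul, he']
  refine ⟨AlgHom.ofLinearMap χl hχone hχmul, ?_⟩
  ext b
  show π (ρ (χ' ((1 : A') ⊗ₜ b))) = ψ b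
  rw [hρπ, hχ'π, hψ'tmul, hρ₀, hr, one_smul]

end basechange

end Groth.Agent.H23.AdicDescent
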