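import Mathlib
import Groth.Agent.H23.AdicLocal

/-!
# Adic formal smoothness for local rings essentially of finite type over a Noetherian ring

`A` Noetherian, `B` a finite type `A`-algebra, `S` the localization of `B` at a prime `q`, `A'` a
localization of `A` mapping to `S`: if `S` is formally smooth over `A'` for the adic topology of its
maximal ideal, then it is formally smooth over `A'`.
-/

set_option autoImplicit false

namespace Groth.Agent.H23.AdicFT

open Groth.Agent.H23.AdicLocal IsLocalRing

universe u

/-- Over a Noetherian ring, the localization at a prime of a finite type algebra is formally smooth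
as soon as it is so for the adic topology of the maximal ideal. -/
theorem formallySmooth_atPrime_of_adic_of_finiteType {A B : Type u} [CommRing A] [CommRing B]
    [IsNoetherianRing A] [Algebra A B] [Algebra.FiniteType A B] (q : Ideal B) [q.IsPrime]
    (h : CAlgX.IsAdicFormallySmooth A (Localization.AtPrime q)
      (maximalIdeal (Localization.AtPrime q))) :
    Algebra.FormallySmooth A (Localization.AtPrime q) := by
  obtain ⟨n, f, hf⟩ := Algebra.FiniteType.iff_quotient_mvPolynomial''.mp
    (inferInstance : Algebra.FiniteType A B)
  letI : Algebra (MvPolynomial (Fin n) A) B := f.toRingHom.toAlgebra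
  have : IsScalarTower A (MvPolynomial (Fin n) A) B :=
    IsScalarTower.of_algebraMap_eq (fun a => (f.commutes a).symm)
  exact formallySmooth_of_adic_atPrime (B := MvPolynomial (Fin n) A) hf q h

/-- Abstract version: `S` any localization of `B` at `q`, base a localization `A'` of `A`. -/
theorem formallySmooth_of_adic_of_finiteType {A B A' S : Type u} [CommRing A] [CommRing B]
    [CommRing A'] [CommRing S] [IsNoetherianRing A] [Algebra A B] [Algebra.FiniteType A B]
    [Algebra A A'] [Algebra A S] [Algebra B S] [Algebra A' S] [IsScalarTower A B S]
    [IsScalarTower A A' S] (M : Submonoid A) [IsLocalization M A'] (q : Ideal B) [q.IsPrime]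
    [IsLocalization.AtPrime S q] [IsLocalRing S]
    (h : CAlgX.IsAdicFormallySmooth A' S (maximalIdeal S)) : Algebra.FormallySmooth A' S := by
  have h1 : CAlgX.IsAdicFormallySmooth A S (maximalIdeal S) :=
    adic_of_adic_isLocalization (A' := A') M _ h
  let e : Localization.AtPrime q ≃ₐ[B] S := IsLocalization.algEquiv q.primeCompl _ _
  let eA : Localization.AtPrime q ≃ₐ[A] S := e.restrictScalars A
  have h2 : CAlgX.IsAdicFormallySmooth A (Localization.AtPrime q)
      (maximalIdeal (Localization.AtPrime q)) := by
    apply adic_of_algEquiv eA _ _ _ h1
    intro y hy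
    rw [mem_maximalIdeal, mem_nonunits_iff] at hy ⊢
    intro hu
    apply hy
    have := hu.map eA
    rwa [AlgEquiv.apply_symm_apply] at this
  have h3 := formallySmooth_atPrime_of_adic_of_finiteType q h2
  have h4 : Algebra.FormallySmooth A S := Algebra.FormallySmooth.of_equiv eA
  exact Algebra.FormallySmooth.localization_base M

end Groth.Agent.H23.AdicFT
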