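import Mathlib
import Groth.Prelude.Def_DualLC
import Groth.Agent.H44.ComplDepth
import Groth.Agent.H29.CatFlat
import Groth.Agent.H72.EquidimFlat
import Groth.Agent.H72.DepthLocIneq
import Groth.Agent.H81.RelCodim
import Groth.Agent.H26.QuotBase

/-!
# The invariant `s_{A,I}(M)` under a flat base change, part 1

For a flat map `A → B` of Noetherian rings such that `qB ≠ B` for all primes `q` of `A`
(e.g. faithfully flat), `s_{B, IB}(B ⊗_A M) ≤ s_{A,I}(M)`.
-/

set_option autoImplicit false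
set_option linter.unusedSectionVars false
set_option linter.style.haveILetI false
universe u

open TensorProduct

namespace Groth.Agent.H23.CutoffCompl

section General

variable {R : Type u} [CommRing R]

/-- `ht(s/J) ≤ ht(s/I)` for ideals `I ≤ J ≤ s`, `s` prime. -/
theorem height_map_mk_mono {I J s : Ideal R} [s.IsPrime] (hIJ : I ≤ J) (hJs : J ≤ s) :
    (s.map (Ideal.Quotient.mk J)).height ≤ (s.map (Ideal.Quotient.mk I)).height := by
  let χ : R ⧸ I →+* R ⧸ J := Ideal.Quotient.factor hIJ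
  have hχ : Function.Surjective χ := Ideal.Quotient.factor_surjective hIJ
  have hprime : (s.map (Ideal.Quotient.mk J)).IsPrime :=
    Ideal.map_isPrime_of_surjective Ideal.Quotient.mk_surjective (by simpa using hJs)
  have h1 := Groth.Agent.H72.DepthLocIneq.height_le_height_comap χ
    (PrimeSpectrum.comap_injective_of_surjective χ hχ) (s.map (Ideal.Quotient.mk J))
  refine h1.trans (le_of_eq ?_)
  congr 1
  ext y
  obtain ⟨y, rfl⟩ := Ideal.Quotient.mk_surjective y
  simp only [Ideal.mem_comap, χ, Ideal.Quotient.factor_mk]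
  rw [Ideal.mem_map_iff_of_surjective _ Ideal.Quotient.mk_surjective,
    Ideal.mem_map_iff_of_surjective _ Ideal.Quotient.mk_surjective]
  constructor
  · rintro ⟨z, hz, hzy⟩
    rw [Ideal.Quotient.eq] at hzy
    have hy : y ∈ s := by
      have := s.sub_mem hz (hJs hzy)
      simpa using this
    exact ⟨y, hy, rfl⟩
  · rintro ⟨z, hz, hzy⟩
    rw [Ideal.Quotient.eq] at hzy
    have hy : y ∈ s := by
      have := s.sub_mem hz (hIJ.trans hJs hzy)
      simpa using this
    exact ⟨y, hy, rfl⟩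

end General

section Flat

variable {A B : Type u} [CommRing A] [CommRing B] [IsNoetherianRing A] [IsNoetherianRing B]
  [Algebra A B] [Module.Flat A B]

open Groth.Agent.H24 Groth.Agent.H72.EquidimFlat Groth.Agent.H29.CatFlat

/-- For `Q` minimal over `qB` and a prime `P ≤ Q` containing `pB` (`p ≤ q`):
`ht(Q/P) ≤ ht(q/p)`. -/
theorem height_Ici_le_of_flat (p q : PrimeSpectrum A) (hpq : p ≤ q) (P Q : PrimeSpectrum B)
    (hPQ : P ≤ Q) (hQ : Q.asIdeal ∈ (q.asIdeal.map (algebraMap A B)).minimalPrimes)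
    (hP : p.asIdeal.map (algebraMap A B) ≤ P.asIdeal) :
    Order.height (⟨Q, hPQ⟩ : Set.Ici P) ≤ Order.height (⟨q, hpq⟩ : Set.Ici p) := by
  rw [Groth.Agent.H81.RelCodim.height_Ici_eq, Groth.Agent.H81.RelCodim.height_Ici_eq]
  have hle : p.asIdeal ≤ q.asIdeal := hpq
  have hPQ' : P.asIdeal ≤ Q.asIdeal := hPQ
  refine (height_map_mk_mono hP hPQ').trans (le_of_eq ?_)
  haveI hflat : Module.Flat (A ⧸ p.asIdeal) (B ⧸ p.asIdeal.map (algebraMap A B)) :=
    Groth.Agent.H26.QuotBase.flat_quotient A B p.asIdeal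
  haveI hqbar : (q.asIdeal.map (Ideal.Quotient.mk p.asIdeal)).IsPrime := map_mk_isPrime_of_le hle
  have hmapeq : (q.asIdeal.map (Ideal.Quotient.mk p.asIdeal)).map
      (algebraMap (A ⧸ p.asIdeal) (B ⧸ p.asIdeal.map (algebraMap A B))) =
      (q.asIdeal.map (algebraMap A B)).map
        (Ideal.Quotient.mk (p.asIdeal.map (algebraMap A B))) := by
    rw [Ideal.map_map, Ideal.map_map]
    congr 1
  have hQbar : Q.asIdeal.map (Ideal.Quotient.mk (p.asIdeal.map (algebraMap A B))) ∈
      ((q.asIdeal.map (Ideal.Quotient.mk p.asIdeal)).map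
        (algebraMap (A ⧸ p.asIdeal) (B ⧸ p.asIdeal.map (algebraMap A B)))).minimalPrimes := by
    rw [hmapeq]
    exact map_mk_mem_minimalPrimes_map (Ideal.map_mono hle) hQ
  exact height_eq_of_mem_minimalPrimes_map _ _ hQbar

/-- **Part 1**: `s_{B,IB}(B ⊗_A M) ≤ s_{A,I}(M)` for `A → B` flat with `qB ≠ B` for all primes. -/
theorem cutoff_le_of_flat (hff : ∀ q : Ideal A, q.IsPrime → q.map (algebraMap A B) ≠ ⊤)
    (I : Ideal A) (M : Type u) [AddCommGroup M] [Module A M] [Module.Finite A M]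
    (N : Type u) [AddCommGroup N] [Module B N] (e₀ : B ⊗[A] M ≃ₗ[B] N) :
    Dual2.cutoff B (I.map (algebraMap A B)) N ≤ Dual2.cutoff A I M := by
  unfold Dual2.cutoff
  refine le_iInf fun p => le_iInf fun q => le_iInf fun hpq => le_iInf fun hIp =>
    le_iInf fun hIq => ?_
  obtain ⟨Q, hQ⟩ := Ideal.nonempty_minimalPrimes (hff q.asIdeal q.2)
  haveI : Q.IsPrime := hQ.1.1
  have hQc := comap_eq_of_mem_minimalPrimes_map q.asIdeal Q hQ
  haveI : Q.LiesOver q.asIdeal := ⟨hQc.symm⟩
  have hle : p.asIdeal ≤ q.asIdeal := hpq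
  obtain ⟨P₂, hP₂Q, hP₂, hP₂p⟩ := Ideal.exists_ideal_le_liesOver_of_le (p := p.asIdeal)
    (q := q.asIdeal) Q hle
  have h1 : p.asIdeal.map (algebraMap A B) ≤ P₂ := by
    rw [Ideal.map_le_iff_le_comap]
    exact (Ideal.LiesOver.over (p := p.asIdeal) (P := P₂)).le
  obtain ⟨P, hP, hPP₂⟩ := Ideal.exists_minimalPrimes_le h1
  haveI : P.IsPrime := hP.1.1
  have hPc := comap_eq_of_mem_minimalPrimes_map p.asIdeal P hP
  let P' : PrimeSpectrum B := ⟨P, inferInstance⟩
  let Q' : PrimeSpectrum B := ⟨Q, inferInstance⟩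
  have hPQ : P' ≤ Q' := hPP₂.trans hP₂Q
  have hIP : ¬ I.map (algebraMap A B) ≤ P'.asIdeal := fun h => hIp (by
    rw [← hPc]
    exact Ideal.map_le_iff_le_comap.mp h)
  have hIQ : I.map (algebraMap A B) ≤ Q'.asIdeal := (Ideal.map_mono hIq).trans hQ.1.2
  refine (iInf_le_of_le P' <| iInf_le_of_le Q' <| iInf_le_of_le hPQ <| iInf_le_of_le hIP <|
    iInf_le_of_le hIQ le_rfl).trans ?_
  refine add_le_add (le_of_eq ?_) ?_
  · exact Groth.Agent.H44.ComplDepth.depth_eq p.asIdeal P hPc M N e₀ hP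
  · exact height_Ici_le_of_flat p q hpq P' Q' hPQ hQ hP.1.2

end Flat

end Groth.Agent.H23.CutoffCompl
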