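import Mathlib
import Groth.Prelude.Def_CAlg
import Groth.Prelude.Def_DualLC
import Groth.Agent.H29.LocTrans
import Groth.Agent.H26.DepthInf
import Groth.Agent.H72.DepthFinite
import Groth.Agent.H81.RelCodim
import Groth.Agent.S0555
import Groth.Agent.S9126

/-!
# The Faltings cutoff invariant along a finite homomorphism (helper23)

For `A → B` finite with `A` universally catenary Noetherian and `M` a finite `B`-module,
`s_{B, IB}(M) = s_{A, I}(M)`.
-/

set_option autoImplicit false
set_option linter.style.haveILetI false
set_option linter.unusedSectionVars false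
set_option linter.unusedVariables false
universe u

open IsLocalRing

namespace Groth.Agent.H23.CutoffFinite

section Depth

variable {A B : Type u} [CommRing A] [CommRing B] [Algebra A B] [IsNoetherianRing A]
  [IsNoetherianRing B] [Module.Finite A B]
  (M : Type u) [AddCommGroup M] [Module B M] [Module A M] [IsScalarTower A B M] [Module.Finite B M]

/-- the depth function on `Spec B` -/
noncomputable def dB (P : PrimeSpectrum B) : ℕ∞ :=
  LocCoh.depth (Localization.AtPrime P.asIdeal) (LocalizedModule P.asIdeal.primeCompl M)

/-- the depth function on `Spec A` -/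
noncomputable def dA (p : PrimeSpectrum A) : ℕ∞ :=
  LocCoh.depth (Localization.AtPrime p.asIdeal) (LocalizedModule p.asIdeal.primeCompl M)

/-- Depth of a localized module may be computed in any model of the localization. -/
theorem depth_eq_of_isLocalizedModule {R : Type u} [CommRing R] [IsNoetherianRing R]
    (p : Ideal R) [p.IsPrime]
    (N : Type u) [AddCommGroup N] [Module R N] [Module.Finite R N]
    (N' : Type u) [AddCommGroup N'] [Module R N'] [Module (Localization.AtPrime p) N']
    [IsScalarTower R (Localization.AtPrime p) N']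
    (f : N →ₗ[R] N') [IsLocalizedModule p.primeCompl f] :
    LocCoh.depth (Localization.AtPrime p) N' =
      LocCoh.depth (Localization.AtPrime p) (LocalizedModule p.primeCompl N) := by
  let ψ := IsLocalizedModule.linearEquiv p.primeCompl (LocalizedModule.mkLinearMap p.primeCompl N) f
  let ψ' := LinearEquiv.extendScalarsOfIsLocalization p.primeCompl (Localization.AtPrime p) ψ
  unfold LocCoh.depth
  exact (Groth.Agent.H15.idealDepth_congr ψ' _).symm

variable (p : Ideal A) [p.IsPrime]

set_option backward.isDefEq.respectTransparency false in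
/-- The depth of `M_p` over `A_p` as an infimum of depths over the primes of `B` above `p`. -/
theorem depth_eq_iInf :
    LocCoh.depth (Localization.AtPrime p) (LocalizedModule p.primeCompl M) =
      ⨅ (Q : PrimeSpectrum (Localization (Algebra.algebraMapSubmonoid B p.primeCompl)))
        (_ : (maximalIdeal (Localization.AtPrime p)).map
          (algebraMap (Localization.AtPrime p)
            (Localization (Algebra.algebraMapSubmonoid B p.primeCompl))) ≤ Q.asIdeal),
        dB M (PrimeSpectrum.comap
          (algebraMap B (Localization (Algebra.algebraMapSubmonoid B p.primeCompl))) Q) := by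
  classical
  set Ap := Localization.AtPrime p with hAp
  set S := Algebra.algebraMapSubmonoid B p.primeCompl with hS
  set Bp := Localization S with hBp
  haveI : IsNoetherianRing Ap := IsLocalization.isNoetherianRing p.primeCompl Ap inferInstance
  haveI : IsNoetherianRing Bp := IsLocalization.isNoetherianRing S Bp inferInstance
  haveI : Module.Finite A M := Module.Finite.trans B M
  -- module structures on `M_S`
  letI mAp : Module Ap (LocalizedModule S M) := Module.compHom _ (algebraMap Ap Bp)
  haveI tApBp : IsScalarTower Ap Bp (LocalizedModule S M) :=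
    ⟨fun a b m => by
      rw [Algebra.smul_def, mul_smul]
      rfl⟩
  haveI tAAp : IsScalarTower A Ap (LocalizedModule S M) :=
    ⟨fun a r m => by
      change algebraMap Ap Bp (a • r) • m = a • (algebraMap Ap Bp r • m)
      rw [Algebra.smul_def a r, map_mul, ← IsScalarTower.algebraMap_apply A Ap Bp, mul_smul,
        algebraMap_smul]⟩
  haveI : IsLocalizedModule p.primeCompl
      ((LocalizedModule.mkLinearMap S M).restrictScalars A) :=
    IsLocalizedModule.restrictScalars p.primeCompl (LocalizedModule.mkLinearMap S M)
  have h1 := depth_eq_of_isLocalizedModule p M (LocalizedModule S M)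
    ((LocalizedModule.mkLinearMap S M).restrictScalars A)
  rw [← h1]
  haveI : Module.Finite Bp (LocalizedModule S M) :=
    Module.Finite.of_isLocalizedModule S (LocalizedModule.mkLinearMap S M)
  have h2 := Groth.Agent.H72.DepthFinite.idealDepth_eq_idealDepth_map (A := Ap) (B := Bp)
    (maximalIdeal Ap) (LocalizedModule S M)
  have h3 := Groth.Agent.H26.idealDepth_eq_iInf_depth_localization
    ((maximalIdeal Ap).map (algebraMap Ap Bp)) (LocalizedModule S M)
  unfold LocCoh.depth
  rw [h2, h3]
  refine iInf_congr fun Q => iInf_congr fun hQ => ?_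
  haveI := Q.2
  exact Groth.Agent.H29.LocTrans.depth_localization_localization S M Q.asIdeal

/-- `depth_{A_p} M_p ≤ depth_{B_P} M_P` for `P` over `p`. -/
theorem dA_le_dB (P : PrimeSpectrum B) :
    dA M (PrimeSpectrum.comap (algebraMap A B) P) ≤ dB M P := by
  classical
  set p : Ideal A := P.asIdeal.comap (algebraMap A B) with hp
  haveI : p.IsPrime := Ideal.comap_isPrime _ _
  set S := Algebra.algebraMapSubmonoid B p.primeCompl with hS
  have hdisj : Disjoint (S : Set B) (P.asIdeal : Set B) := by
    rw [Set.disjoint_left]
    rintro b ⟨a, ha, rfl⟩ hb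
    exact ha hb
  haveI hP := P.2
  have hQprime : (P.asIdeal.map (algebraMap B (Localization S))).IsPrime :=
    IsLocalization.isPrime_of_isPrime_disjoint S (Localization S) P.asIdeal hP hdisj
  have hQcomap : (P.asIdeal.map (algebraMap B (Localization S))).comap
      (algebraMap B (Localization S)) = P.asIdeal :=
    IsLocalization.comap_map_of_isPrime_disjoint S (Localization S) hP hdisj
  let Q : PrimeSpectrum (Localization S) := ⟨_, hQprime⟩
  have hQP : PrimeSpectrum.comap (algebraMap B (Localization S)) Q = P :=
    PrimeSpectrum.ext hQcomap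
  have hJQ : (maximalIdeal (Localization.AtPrime p)).map
      (algebraMap (Localization.AtPrime p) (Localization S)) ≤ Q.asIdeal := by
    rw [← Localization.AtPrime.map_eq_maximalIdeal, Ideal.map_map,
      ← IsScalarTower.algebraMap_eq A (Localization.AtPrime p) (Localization S),
      IsScalarTower.algebraMap_eq A B (Localization S), ← Ideal.map_map]
    exact Ideal.map_mono (Ideal.map_le_iff_le_comap.mpr le_rfl)
  have h := depth_eq_iInf (B := B) M p
  have h2 : dA M (PrimeSpectrum.comap (algebraMap A B) P) =
      LocCoh.depth (Localization.AtPrime p) (LocalizedModule p.primeCompl M) := rfl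
  rw [h2, h]
  refine (iInf₂_le Q hJQ).trans ?_
  rw [hQP]

/-- if `depth_{A_p} M_p` is finite, it is attained at a prime of `B` over `p`. -/
theorem exists_dB_le (p : PrimeSpectrum A) (htop : dA M p ≠ ⊤) :
    ∃ P : PrimeSpectrum B, PrimeSpectrum.comap (algebraMap A B) P = p ∧ dB M P ≤ dA M p := by
  classical
  haveI := p.2
  set S := Algebra.algebraMapSubmonoid B p.asIdeal.primeCompl with hS
  set J := (maximalIdeal (Localization.AtPrime p.asIdeal)).map
      (algebraMap (Localization.AtPrime p.asIdeal) (Localization S)) with hJ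
  have h : dA M p = ⨅ (Q : PrimeSpectrum (Localization S)) (_ : J ≤ Q.asIdeal),
      dB M (PrimeSpectrum.comap (algebraMap B (Localization S)) Q) :=
    depth_eq_iInf (B := B) M p.asIdeal
  have hex : ∃ Q : PrimeSpectrum (Localization S), J ≤ Q.asIdeal ∧
      dB M (PrimeSpectrum.comap (algebraMap B (Localization S)) Q) ≤ dA M p := by
    by_contra hcon
    push Not at hcon
    apply htop
    have h5 : dA M p + 1 ≤ dA M p := by
      conv_rhs => rw [h]
      refine le_iInf₂ fun Q hQ => ?_
      exact Order.add_one_le_of_lt (hcon Q hQ)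
    by_contra hne
    exact absurd h5 (not_le.mpr ((ENat.lt_add_one_iff hne).mpr le_rfl))
  obtain ⟨Q, hJQ, hQd⟩ := hex
  refine ⟨PrimeSpectrum.comap (algebraMap B (Localization S)) Q, ?_, hQd⟩
  apply PrimeSpectrum.ext
  change (Q.asIdeal.comap (algebraMap B (Localization S))).comap (algebraMap A B) = p.asIdeal
  have h3 : maximalIdeal (Localization.AtPrime p.asIdeal) ≤
      Q.asIdeal.comap (algebraMap (Localization.AtPrime p.asIdeal) (Localization S)) :=
    Ideal.map_le_iff_le_comap.mp hJQ
  haveI := Q.2
  have h4 : Q.asIdeal.comap (algebraMap (Localization.AtPrime p.asIdeal) (Localization S)) =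
      maximalIdeal (Localization.AtPrime p.asIdeal) :=
    ((IsLocalRing.maximalIdeal.isMaximal _).eq_of_le
      (Ideal.IsPrime.ne_top (Ideal.comap_isPrime _ Q.asIdeal)) h3).symm
  rw [Ideal.comap_comap, ← IsScalarTower.algebraMap_eq,
    IsScalarTower.algebraMap_eq A (Localization.AtPrime p.asIdeal) (Localization S),
    ← Ideal.comap_comap, h4]
  exact Localization.AtPrime.comap_maximalIdeal

end Depth

section Height

theorem comap_le {R S : Type u} [CommRing R] [CommRing S] (f : R →+* S) {P Q : PrimeSpectrum S}
    (h : P ≤ Q) : PrimeSpectrum.comap f P ≤ PrimeSpectrum.comap f Q := by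
  rw [← PrimeSpectrum.asIdeal_le_asIdeal]
  exact Ideal.comap_mono ((PrimeSpectrum.asIdeal_le_asIdeal _ _).mpr h)

variable {A B : Type u} [CommRing A] [CommRing B] [Algebra A B] [IsNoetherianRing A]
  [IsNoetherianRing B] [Module.Finite A B]

/-- heights of a finite extension of domains over a universally catenary base -/
theorem height_eq_of_liesOver (D : Type u) [CommRing D] [IsDomain D]
    (hD : CAlg.IsUniversallyCatenary D)
    (D' : Type u) [CommRing D'] [IsDomain D'] [Algebra D D'] [FaithfulSMul D D']
    [Module.Finite D D'] (q : Ideal D) [q.IsPrime] (q' : Ideal D') [q'.IsPrime]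
    [q'.LiesOver q] : q'.height = q.height := by
  have h := Groth.Agent.S0555.result D hD D' q q'
  haveI : Algebra.IsIntegral D D' := Algebra.IsIntegral.of_finite D D'
  haveI : Algebra.IsIntegral (D ⧸ q) (D' ⧸ q') := inferInstance
  rw [trdeg_eq_zero, trdeg_eq_zero, add_zero, add_zero] at h
  exact_mod_cast h

theorem height_Ici_comap (hA : CAlg.IsUniversallyCatenary A) (P Q : PrimeSpectrum B)
    (hPQ : P ≤ Q) :
    Order.height (⟨Q, hPQ⟩ : Set.Ici P) =
      Order.height (⟨PrimeSpectrum.comap (algebraMap A B) Q,
        comap_le (algebraMap A B) hPQ⟩ :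
          Set.Ici (PrimeSpectrum.comap (algebraMap A B) P)) := by
  rw [Groth.Agent.H81.RelCodim.height_Ici_eq, Groth.Agent.H81.RelCodim.height_Ici_eq]
  set p : Ideal A := P.asIdeal.comap (algebraMap A B) with hp
  set q : Ideal A := Q.asIdeal.comap (algebraMap A B) with hq
  haveI := P.2
  haveI := Q.2
  haveI : p.IsPrime := Ideal.comap_isPrime _ _
  haveI : q.IsPrime := Ideal.comap_isPrime _ _
  have hpq : p ≤ q := Ideal.comap_mono hPQ
  haveI : IsDomain (A ⧸ p) := Ideal.Quotient.isDomain p
  haveI : IsDomain (B ⧸ P.asIdeal) := Ideal.Quotient.isDomain _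
  have hUC : CAlg.IsUniversallyCatenary (A ⧸ p) := Groth.Agent.S9126.result A (A ⧸ p) hA
  haveI : FaithfulSMul (A ⧸ p) (B ⧸ P.asIdeal) :=
    (faithfulSMul_iff_algebraMap_injective _ _).mpr (Ideal.algebraMap_quotient_injective)
  haveI : Module.Finite (A ⧸ p) (B ⧸ P.asIdeal) :=
    Module.Finite.of_restrictScalars_finite A _ _
  have hQ' : (Q.asIdeal.map (Ideal.Quotient.mk P.asIdeal)).IsPrime :=
    Ideal.map_isPrime_of_surjective Ideal.Quotient.mk_surjective (by rw [Ideal.mk_ker]; exact hPQ)
  have hq' : (q.map (Ideal.Quotient.mk p)).IsPrime :=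
    Ideal.map_isPrime_of_surjective Ideal.Quotient.mk_surjective (by rw [Ideal.mk_ker]; exact hpq)
  haveI : (Q.asIdeal.map (Ideal.Quotient.mk P.asIdeal)).LiesOver (q.map (Ideal.Quotient.mk p)) := by
    constructor
    ext x
    obtain ⟨a, rfl⟩ := Ideal.Quotient.mk_surjective x
    rw [Ideal.under_def, Ideal.mem_comap, Ideal.mem_quotient_iff_mem hpq]
    have h1 : algebraMap (A ⧸ p) (B ⧸ P.asIdeal) (Ideal.Quotient.mk p a) =
        Ideal.Quotient.mk P.asIdeal (algebraMap A B a) := rfl
    rw [h1, Ideal.mem_quotient_iff_mem hPQ]
    rfl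
  exact height_eq_of_liesOver (A ⧸ p) hUC (B ⧸ P.asIdeal) (q.map (Ideal.Quotient.mk p))
    (Q.asIdeal.map (Ideal.Quotient.mk P.asIdeal))

end Height

section Main

variable (A B : Type u) [CommRing A] [CommRing B] [Algebra A B] [IsNoetherianRing A]
  [IsNoetherianRing B] [Module.Finite A B]
  (M : Type u) [AddCommGroup M] [Module B M] [Module A M] [IsScalarTower A B M] [Module.Finite B M]

theorem cutoff_eq (hA : CAlg.IsUniversallyCatenary A) (I : Ideal A) :
    Dual2.cutoff B (I.map (algebraMap A B)) M = Dual2.cutoff A I M := by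
  haveI : Algebra.IsIntegral A B := Algebra.IsIntegral.of_finite A B
  apply le_antisymm
  · unfold Dual2.cutoff
    refine le_iInf fun p => le_iInf fun q => le_iInf fun h => le_iInf fun hp => le_iInf fun hq => ?_
    by_cases htop : dA M p = ⊤
    · have : LocCoh.depth (Localization.AtPrime p.asIdeal)
          (LocalizedModule p.asIdeal.primeCompl M) = ⊤ := htop
      rw [this, top_add]
      exact le_top
    · obtain ⟨P, hPp, hd⟩ := exists_dB_le (B := B) M p htop
      haveI := P.2
      haveI := q.2
      have hle : P.asIdeal.comap (algebraMap A B) ≤ q.asIdeal := by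
        have : P.asIdeal.comap (algebraMap A B) = p.asIdeal := congrArg PrimeSpectrum.asIdeal hPp
        rw [this]
        exact h
      obtain ⟨Q', hPQ', hQ'prime, hQ'q⟩ :=
        Ideal.exists_ideal_over_prime_of_isIntegral_of_isPrime (R := A) (S := B)
          q.asIdeal P.asIdeal hle
      let Q : PrimeSpectrum B := ⟨Q', hQ'prime⟩
      have hPQ : P ≤ Q := hPQ'
      have hQq : PrimeSpectrum.comap (algebraMap A B) Q = q := PrimeSpectrum.ext hQ'q
      have hP' : ¬ I.map (algebraMap A B) ≤ P.asIdeal := by
        intro hc
        apply hp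
        have := Ideal.map_le_iff_le_comap.mp hc
        rw [← hPp]
        exact this
      have hQ'' : I.map (algebraMap A B) ≤ Q.asIdeal := by
        rw [Ideal.map_le_iff_le_comap]
        have : Q.asIdeal.comap (algebraMap A B) = q.asIdeal := hQ'q
        rw [this]
        exact hq
      refine (iInf_le_of_le P <| iInf_le_of_le Q <| iInf_le_of_le hPQ <| iInf_le_of_le hP' <|
        iInf_le_of_le hQ'' le_rfl).trans ?_
      rw [height_Ici_comap hA P Q hPQ]
      subst hPp
      subst hQq
      exact add_le_add_left hd _
  · unfold Dual2.cutoff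
    refine le_iInf fun P => le_iInf fun Q => le_iInf fun h => le_iInf fun hP => le_iInf fun hQ => ?_
    have hp : ¬ I ≤ (PrimeSpectrum.comap (algebraMap A B) P).asIdeal := by
      intro hc
      exact hP (Ideal.map_le_iff_le_comap.mpr hc)
    have hq : I ≤ (PrimeSpectrum.comap (algebraMap A B) Q).asIdeal :=
      Ideal.map_le_iff_le_comap.mp hQ
    refine (iInf_le_of_le (PrimeSpectrum.comap (algebraMap A B) P) <|
      iInf_le_of_le (PrimeSpectrum.comap (algebraMap A B) Q) <|
      iInf_le_of_le (comap_le (algebraMap A B) h) <|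
      iInf_le_of_le hp <| iInf_le_of_le hq le_rfl).trans ?_
    rw [← height_Ici_comap hA P Q h]
    exact add_le_add_left (dA_le_dB (A := A) M P) _

end Main

end Groth.Agent.H23.CutoffFinite
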