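import Mathlib
import Groth.Prelude.Def_DualLC
import Groth.Agent.H23.CutoffCompl1
import Groth.Agent.H23.CutoffFinite
import Groth.Agent.H29.LocTensor
import Groth.Agent.H29.FibreDepthRing
import Groth.Agent.H29.SkFlatBC
import Groth.Agent.H26.SkFlat
import Groth.Agent.H26.FlatFibreLocal

/-!
# The invariant `s_{A,I}(M)` under a flat base change, part 2

For a flat map `A → B` of Noetherian rings, `B` local, with `(S_n)` fibres and such that
`B/pB` is catenary and equidimensional for all primes `p` of `A`: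
`min (n+1, s_{A,I}(M)) ≤ s_{B, IB}(B ⊗_A M)`.
-/

set_option autoImplicit false
set_option linter.unusedSectionVars false
set_option linter.style.haveILetI false
universe u

open TensorProduct IsLocalRing

namespace Groth.Agent.H23.CutoffCompl

open Groth.Agent.H24 Groth.Agent.H29.CatFlat

section CatEq

variable {C : Type u} [CommRing C] [IsNoetherianRing C] [IsLocalRing C]

/-- In a catenary equidimensional Noetherian local ring, `ht Q ≤ ht P + ht(Q/P)`. -/
theorem height_le_add_height_Ici (hcat : CAlg.IsCatenary C) (heq : EGA4.IsEquidim C)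
    (P Q : PrimeSpectrum C) (hPQ : P ≤ Q) :
    Q.asIdeal.height ≤ P.asIdeal.height + Order.height (⟨Q, hPQ⟩ : Set.Ici P) := by
  have := wellFoundedGT_primeSpectrum (A := C)
  have := wellFoundedLT_primeSpectrum (A := C)
  have hHt := htCond_of_isCatenary_of_isEquidim hcat heq
  obtain ⟨t, hth, htl⟩ := exists_satSeries_of_le hPQ
  have h1 := hHt.height_last t.toLT t.toLT_covBy
  rw [SatSeries.toLT_last, SatSeries.toLT_head, htl, hth, SatSeries.toLT_length] at h1
  rw [PrimeSpectrum.height_eq_orderHeight, PrimeSpectrum.height_eq_orderHeight, h1]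
  gcongr
  let s : LTSeries (Set.Ici P) :=
    ⟨t.length, fun i => ⟨t.toLT i, by
      have := LTSeries.head_le t.toLT i
      rw [SatSeries.toLT_head, hth] at this
      exact this⟩, fun i => t.toLT.step i⟩
  have h2 := Order.length_le_height_last (p := s)
  have h3 : s.last = ⟨Q, hPQ⟩ := Subtype.ext htl
  rw [h3] at h2
  exact h2

end CatEq

section LocQuot

variable {R : Type u} [CommRing R]

/-- `dim R_P/IR_P = ht(P/I)`. -/
theorem ringKrullDim_quotient_localization_eq (I P : Ideal R) [P.IsPrime] (hIP : I ≤ P) :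
    ringKrullDim (Localization.AtPrime P ⧸ I.map (algebraMap R (Localization.AtPrime P))) =
      (((P.map (Ideal.Quotient.mk I)).height : ℕ∞) : WithBot ℕ∞) := by
  haveI hprime : (P.map (Ideal.Quotient.mk I)).IsPrime := map_mk_isPrime_of_le hIP
  haveI : (P.map (Ideal.Quotient.mk I)).LiesOver P := ⟨(comap_map_mk_of_le hIP).symm⟩
  have hS : Algebra.algebraMapSubmonoid (R ⧸ I) P.primeCompl =
      (P.map (Ideal.Quotient.mk I)).primeCompl :=
    Ideal.algebraMapSubmonoid_primeCompl_of_liesOver_surjective _ P Ideal.Quotient.mk_surjective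
  haveI : IsLocalization.AtPrime
      (Localization.AtPrime P ⧸ I.map (algebraMap R (Localization.AtPrime P)))
      (P.map (Ideal.Quotient.mk I)) := by
    unfold IsLocalization.AtPrime
    rw [← hS]
    infer_instance
  exact IsLocalization.AtPrime.ringKrullDim_eq_height (P.map (Ideal.Quotient.mk I)) _

end LocQuot

section DimIneq

theorem comap_mono' {R S : Type u} [CommRing R] [CommRing S] (f : R →+* S) {P Q : PrimeSpectrum S}
    (h : P ≤ Q) : PrimeSpectrum.comap f P ≤ PrimeSpectrum.comap f Q :=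
  Ideal.comap_mono (f := f) (show P.asIdeal ≤ Q.asIdeal from h)

variable {A B : Type u} [CommRing A] [CommRing B] [IsNoetherianRing A] [IsNoetherianRing B]
  [IsLocalRing B] [Algebra A B] [Module.Flat A B]

/-- The dimension inequality `ht(q/p) ≤ ht(Q/P) + dim (B_P/pB_P)` for primes `P ≤ Q` of `B` over
`p ≤ q`, when `B/pB` is catenary and equidimensional. -/
theorem height_Ici_comap_le_add (P Q : PrimeSpectrum B) (hPQ : P ≤ Q)
    (hcat : CAlg.IsCatenary (B ⧸ (P.asIdeal.comap (algebraMap A B)).map (algebraMap A B)))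
    (heq : EGA4.IsEquidim (B ⧸ (P.asIdeal.comap (algebraMap A B)).map (algebraMap A B))) :
    ((Order.height (⟨PrimeSpectrum.comap (algebraMap A B) Q,
        comap_mono' (algebraMap A B) hPQ⟩ :
          Set.Ici (PrimeSpectrum.comap (algebraMap A B) P)) : ℕ∞) : WithBot ℕ∞) ≤
      ((Order.height (⟨Q, hPQ⟩ : Set.Ici P) : ℕ∞) : WithBot ℕ∞) +
        ringKrullDim (EGA4.FibLocRing A B P.asIdeal) := by
  set p : Ideal A := P.asIdeal.comap (algebraMap A B) with hp
  set q : Ideal A := Q.asIdeal.comap (algebraMap A B) with hq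
  set pB : Ideal B := p.map (algebraMap A B) with hpB
  have hle : p ≤ q := Ideal.comap_mono hPQ
  have hpP : pB ≤ P.asIdeal := Ideal.map_comap_le
  have hPQ' : P.asIdeal ≤ Q.asIdeal := hPQ
  have hpQ : pB ≤ Q.asIdeal := hpP.trans hPQ'
  have hne : pB ≠ ⊤ := fun h => P.2.ne_top (top_le_iff.mp (h ▸ hpP))
  haveI : Nontrivial (B ⧸ pB) := Ideal.Quotient.nontrivial_iff.mpr hne
  haveI : IsLocalRing (B ⧸ pB) :=
    IsLocalRing.of_surjective' (Ideal.Quotient.mk pB) Ideal.Quotient.mk_surjective
  have hPbar : (P.asIdeal.map (Ideal.Quotient.mk pB)).IsPrime := map_mk_isPrime_of_le hpP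
  have hQbar : (Q.asIdeal.map (Ideal.Quotient.mk pB)).IsPrime := map_mk_isPrime_of_le hpQ
  let P' : PrimeSpectrum (B ⧸ pB) := ⟨_, hPbar⟩
  let Q' : PrimeSpectrum (B ⧸ pB) := ⟨_, hQbar⟩
  have hP'Q' : P' ≤ Q' := Ideal.map_mono hPQ'
  have hcP : PrimeSpectrum.comap (Ideal.Quotient.mk pB) P' = P :=
    PrimeSpectrum.ext (comap_map_mk_of_le hpP)
  have hcQ : PrimeSpectrum.comap (Ideal.Quotient.mk pB) Q' = Q :=
    PrimeSpectrum.ext (comap_map_mk_of_le hpQ)
  -- (ii)
  have h2 := height_le_add_height_Ici hcat heq P' Q' hP'Q'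
  -- (iv)
  have h4 : Order.height (⟨Q', hP'Q'⟩ : Set.Ici P') ≤ Order.height (⟨Q, hPQ⟩ : Set.Ici P) := by
    let f : Set.Ici P' → Set.Ici P := fun x =>
      ⟨PrimeSpectrum.comap (Ideal.Quotient.mk pB) x.1, by
        have h := comap_mono' (Ideal.Quotient.mk pB) x.2
        rw [hcP] at h
        exact h⟩
    have hf : StrictMono f := fun a b hab => strictMono_comap_mk pB hab
    have h := Order.height_le_height_apply_of_strictMono f hf ⟨Q', hP'Q'⟩
    have hfQ : f ⟨Q', hP'Q'⟩ = ⟨Q, hPQ⟩ := Subtype.ext hcQ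
    rwa [hfQ] at h
  -- (iii)
  have h3 : ringKrullDim (EGA4.FibLocRing A B P.asIdeal) =
      ((P'.asIdeal.height : ℕ∞) : WithBot ℕ∞) := by
    have hI : p.map (algebraMap A (Localization.AtPrime P.asIdeal)) =
        pB.map (algebraMap B (Localization.AtPrime P.asIdeal)) := by
      rw [hpB, Ideal.map_map, ← IsScalarTower.algebraMap_eq]
    rw [← ringKrullDim_quotient_localization_eq pB P.asIdeal hpP]
    exact ringKrullDim_eq_of_ringEquiv (Ideal.quotEquivOfEq hI)
  -- (i)
  haveI hflat : Module.Flat (A ⧸ p) (B ⧸ pB) := Groth.Agent.H26.QuotBase.flat_quotient A B p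
  haveI hpprime : p.IsPrime := Ideal.comap_isPrime _ _
  haveI hqprime : q.IsPrime := Ideal.comap_isPrime _ _
  haveI hqbar : (q.map (Ideal.Quotient.mk p)).IsPrime := map_mk_isPrime_of_le hle
  haveI hlies : Q'.asIdeal.LiesOver (q.map (Ideal.Quotient.mk p)) := by
    constructor
    ext x
    obtain ⟨a, rfl⟩ := Ideal.Quotient.mk_surjective x
    rw [Ideal.under_def, Ideal.mem_comap]
    have e1 : Ideal.Quotient.mk p a ∈ q.map (Ideal.Quotient.mk p) ↔ a ∈ q := by
      rw [← Ideal.mem_comap, comap_map_mk_of_le hle]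
    have e2 : algebraMap (A ⧸ p) (B ⧸ pB) (Ideal.Quotient.mk p a) ∈ Q'.asIdeal ↔
        algebraMap A B a ∈ Q.asIdeal := by
      change Ideal.Quotient.mk pB (algebraMap A B a) ∈ Q.asIdeal.map (Ideal.Quotient.mk pB) ↔ _
      rw [← Ideal.mem_comap, comap_map_mk_of_le hpQ]
    rw [e1, e2, hq, Ideal.mem_comap]
  have h1 : (q.map (Ideal.Quotient.mk p)).height ≤ Q'.asIdeal.height := by
    rw [Ideal.height_eq_height_add_of_liesOver_of_hasGoingDown (q.map (Ideal.Quotient.mk p))
      Q'.asIdeal]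
    exact le_self_add
  have h0 := Groth.Agent.H81.RelCodim.height_Ici_eq (PrimeSpectrum.comap (algebraMap A B) P)
    (PrimeSpectrum.comap (algebraMap A B) Q) (comap_mono' (algebraMap A B) hPQ)
  rw [h0, h3, ← WithBot.coe_add, WithBot.coe_le_coe]
  change (q.map (Ideal.Quotient.mk p)).height ≤ _
  calc (q.map (Ideal.Quotient.mk p)).height ≤ Q'.asIdeal.height := h1
    _ ≤ P'.asIdeal.height + Order.height (⟨Q', hP'Q'⟩ : Set.Ici P') := h2
    _ ≤ P'.asIdeal.height + Order.height (⟨Q, hPQ⟩ : Set.Ici P) := by gcongr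
    _ = _ := add_comm _ _

end DimIneq

section Fibre

variable {A B : Type u} [CommRing A] [CommRing B] [IsNoetherianRing A] [IsNoetherianRing B]
  [Algebra A B]

open Groth.Agent.H26.SkFlat

set_option backward.isDefEq.respectTransparency false in
/-- `(S_k)` fibre rings give `(S_k)` at the closed point of every fibre local ring `B_P/pB_P`. -/
theorem skClosed_fibLocRing (k : ℕ)
    (hfib : ∀ (p : Ideal A) [p.IsPrime], LocCoh.HasSk k (p.Fiber B) (p.Fiber B))
    (r : Ideal B) [hr : r.IsPrime] : SkClosed k (EGA4.FibLocRing A B r) := by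
  set p : Ideal A := r.under A with hp
  have hpp : p.IsPrime := inferInstance
  let q0 := PrimeSpectrum.preimageEquivFiber A B ⟨p, hpp⟩ ⟨⟨r, hr⟩, rfl⟩
  have hq0 : q0.asIdeal.comap (Algebra.TensorProduct.includeRight (R := A) (A := p.ResidueField)
      (B := B)) = r := by
    have := (PrimeSpectrum.preimageEquivFiber A B ⟨p, hpp⟩).left_inv ⟨⟨r, hr⟩, rfl⟩
    exact congrArg (fun x => x.1.asIdeal) this
  haveI : IsNoetherianRing (p.Fiber B) := isNoetherianRing_fiber B p
  have h := hfib p
  rw [hasSk_self_iff_skClosed] at h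
  have h2 : SkClosed k (Localization.AtPrime q0.asIdeal) := @h q0.asIdeal _
  have key : SkClosed k (Localization.AtPrime (q0.asIdeal.comap
      (Algebra.TensorProduct.includeRight (R := A) (A := p.ResidueField) (B := B))) ⧸
      (p.map (algebraMap A B)).map (algebraMap B (Localization.AtPrime (q0.asIdeal.comap
      (Algebra.TensorProduct.includeRight (R := A) (A := p.ResidueField) (B := B)))))) :=
    skClosed_of_ringEquiv k _ _ (Ideal.Fiber.algEquivAux₂ p q0.asIdeal).toRingEquiv h2
  have hgen : ∀ (r' : Ideal B) (hr' : r'.IsPrime),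
      q0.asIdeal.comap (Algebra.TensorProduct.includeRight (R := A) (A := p.ResidueField)
        (B := B)) = r' → SkClosed k (Localization.AtPrime r' ⧸
          (p.map (algebraMap A B)).map (algebraMap B (Localization.AtPrime r'))) := by
    intro r' hr' e
    subst e
    exact key
  have hI : (p.map (algebraMap A B)).map (algebraMap B (Localization.AtPrime r)) =
      (r.comap (algebraMap A B)).map (algebraMap A (Localization.AtPrime r)) := by
    rw [Ideal.map_map, ← IsScalarTower.algebraMap_eq]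
  exact @skClosed_of_ringEquiv k _ _ _ _ (Ideal.quotEquivOfEq hI) (@hgen r hr hq0)

/-- The `(S_k)` inequality at the closed point of the fibre local ring, for the module
`FibLocMod A B P B` over `B_P`. -/
theorem min_le_depth_fibLocMod (k : ℕ)
    (hfib : ∀ (p : Ideal A) [p.IsPrime], LocCoh.HasSk k (p.Fiber B) (p.Fiber B))
    (P : Ideal B) [P.IsPrime] :
    min (k : WithBot ℕ∞) (ringKrullDim (EGA4.FibLocRing A B P)) ≤
      ((LocCoh.depth (Localization.AtPrime P) (EGA4.FibLocMod A B P B) : ℕ∞) : WithBot ℕ∞) := by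
  haveI : Nontrivial (EGA4.FibLocRing A B P) :=
    Groth.Agent.H29.SkFlatBC.nontrivial_fibLocRing (A := A) P
  haveI : IsLocalRing (EGA4.FibLocRing A B P) := inferInstance
  haveI : IsNoetherianRing (Localization.AtPrime P) :=
    IsLocalization.isNoetherianRing P.primeCompl _ inferInstance
  haveI : IsNoetherianRing (EGA4.FibLocRing A B P) := inferInstance
  haveI : IsLocalHom (algebraMap (Localization.AtPrime P) (EGA4.FibLocRing A B P)) :=
    IsLocalHom.of_surjective _ Ideal.Quotient.mk_surjective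
  have h := skClosed_fibLocRing (A := A) k hfib P
  have h1 : LocCoh.depth (Localization.AtPrime P) (EGA4.FibLocMod A B P B) =
      LocCoh.depth (Localization.AtPrime P) (EGA4.FibLocRing A B P) :=
    Groth.Agent.H15.idealDepth_congr (Groth.Agent.H29.FibreDepthGe.fibLocModSelfEquiv (A := A) P) _
  have h2 : LocCoh.depth (Localization.AtPrime P) (EGA4.FibLocRing A B P) =
      LocCoh.depth (EGA4.FibLocRing A B P) (EGA4.FibLocRing A B P) :=
    Groth.Agent.H29.DepthAB.depth_eq (A := Localization.AtPrime P)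
      (B := EGA4.FibLocRing A B P) (EGA4.FibLocRing A B P)
  have h3 := h
  rw [h1, h2, ← IsLocalRing.maximalIdeal_height_eq_ringKrullDim]
  unfold LocCoh.depth
  exact_mod_cast h3

end Fibre

section Main

variable {A B : Type u} [CommRing A] [CommRing B] [IsNoetherianRing A] [IsNoetherianRing B]
  [IsLocalRing B] [Algebra A B] [Module.Flat A B]

/-- an arithmetic lemma in `ℕ∞` -/
theorem arith (n : ℕ) (s d δ h h' f : ℕ∞) (hs : s ≤ d + h) (hSk : min (n : ℕ∞) f ≤ δ)
    (hDI : h ≤ h' + f) (h1 : 1 ≤ h') : min ((n : ℕ∞) + 1) s ≤ d + δ + h' := by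
  rcases le_or_gt f (n : ℕ∞) with hf | hf
  · rw [min_eq_right hf] at hSk
    refine (min_le_right _ _).trans (hs.trans ?_)
    calc d + h ≤ d + (h' + f) := by gcongr
      _ ≤ d + (h' + δ) := by gcongr
      _ = d + δ + h' := by rw [add_assoc, add_comm h' δ]
  · rw [min_eq_left hf.le] at hSk
    refine (min_le_left _ _).trans ?_
    calc (n : ℕ∞) + 1 ≤ δ + h' := add_le_add hSk h1
      _ ≤ d + (δ + h') := le_add_self
      _ = d + δ + h' := (add_assoc _ _ _).symm

/-- **Part 2**: `min (n+1, s_{A,I}(M)) ≤ s_{B,IB}(B ⊗_A M)` for `A → B` flat with `(S_n)` fibres,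
`B` local, and `B/pB` catenary and equidimensional for all primes `p`. -/
theorem le_cutoff_of_flat (n : ℕ)
    (hfib : ∀ (p : Ideal A) [p.IsPrime], LocCoh.HasSk n (p.Fiber B) (p.Fiber B))
    (hC : ∀ (p : Ideal A) [p.IsPrime], p.map (algebraMap A B) ≠ ⊤ →
      CAlg.IsCatenary (B ⧸ p.map (algebraMap A B)) ∧ EGA4.IsEquidim (B ⧸ p.map (algebraMap A B)))
    (I : Ideal A) (M : Type u) [AddCommGroup M] [Module A M] [Module.Finite A M]
    (N : Type u) [AddCommGroup N] [Module B N] (e₀ : B ⊗[A] M ≃ₗ[B] N) :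
    min ((n : ℕ∞) + 1) (Dual2.cutoff A I M) ≤ Dual2.cutoff B (I.map (algebraMap A B)) N := by
  rw [Dual2.cutoff.eq_def B]
  refine le_iInf fun P => le_iInf fun Q => le_iInf fun hPQ => le_iInf fun hIP =>
    le_iInf fun hIQ => ?_
  set p : PrimeSpectrum A := PrimeSpectrum.comap (algebraMap A B) P with hp
  set q : PrimeSpectrum A := PrimeSpectrum.comap (algebraMap A B) Q with hq
  have hpq : p ≤ q := comap_mono' (algebraMap A B) hPQ
  have hIp : ¬ I ≤ p.asIdeal := fun h => hIP ((Ideal.map_mono h).trans Ideal.map_comap_le)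
  have hIq : I ≤ q.asIdeal := Ideal.map_le_iff_le_comap.mp hIQ
  have hs : Dual2.cutoff A I M ≤
      LocCoh.depth (Localization.AtPrime p.asIdeal) (LocalizedModule p.asIdeal.primeCompl M) +
        Order.height (⟨q, hpq⟩ : Set.Ici p) := by
    rw [Dual2.cutoff.eq_def A]
    exact iInf_le_of_le p <| iInf_le_of_le q <| iInf_le_of_le hpq <| iInf_le_of_le hIp <|
      iInf_le_of_le hIq le_rfl
  -- depth formula
  haveI : Module.Finite B (B ⊗[A] M) := inferInstance
  have hdep0 := (Groth.Agent.H29.LocTensor.formulas (A := A) M B P.asIdeal).2.1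
  have hdep1 : LocCoh.depth (Localization.AtPrime P.asIdeal)
      (LocalizedModule P.asIdeal.primeCompl N) =
      LocCoh.depth (Localization.AtPrime P.asIdeal)
        (LocalizedModule P.asIdeal.primeCompl (B ⊗[A] M)) := by
    haveI : IsLocalizedModule P.asIdeal.primeCompl
        ((LocalizedModule.mkLinearMap P.asIdeal.primeCompl N) ∘ₗ (e₀ : B ⊗[A] M →ₗ[B] N)) :=
      IsLocalizedModule.of_linearEquiv_right _ _ e₀
    exact Groth.Agent.H23.CutoffFinite.depth_eq_of_isLocalizedModule P.asIdeal (B ⊗[A] M)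
      (LocalizedModule P.asIdeal.primeCompl N)
      ((LocalizedModule.mkLinearMap P.asIdeal.primeCompl N) ∘ₗ (e₀ : B ⊗[A] M →ₗ[B] N))
  -- fibre
  have hSk := min_le_depth_fibLocMod (A := A) n hfib P.asIdeal
  -- dimension inequality
  have hpB : p.asIdeal.map (algebraMap A B) ≠ ⊤ := fun h =>
    P.2.ne_top (top_le_iff.mp (h ▸ (Ideal.map_comap_le : _ ≤ P.asIdeal)))
  obtain ⟨hcat, heq⟩ := hC p.asIdeal hpB
  have hDI := height_Ici_comap_le_add (A := A) P Q hPQ hcat heq
  -- `1 ≤ ht(Q/P)`
  have h1 : 1 ≤ Order.height (⟨Q, hPQ⟩ : Set.Ici P) := by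
    rw [Order.one_le_iff_ne_zero, Order.height_ne_zero]
    intro hmin
    have h1 : (⟨Q, hPQ⟩ : Set.Ici P) ≤ ⟨P, le_refl P⟩ :=
      hmin (show (⟨P, le_refl P⟩ : Set.Ici P) ≤ ⟨Q, hPQ⟩ from hPQ)
    have h2 : Q ≤ P := h1
    exact hIP (hIQ.trans h2)
  -- the dimension of the fibre as an element of `ℕ∞`
  haveI : Nontrivial (EGA4.FibLocRing A B P.asIdeal) :=
    Groth.Agent.H29.SkFlatBC.nontrivial_fibLocRing (A := A) P.asIdeal
  haveI : IsLocalRing (EGA4.FibLocRing A B P.asIdeal) := inferInstance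
  rw [← IsLocalRing.maximalIdeal_height_eq_ringKrullDim] at hSk hDI
  rw [hdep1, hdep0]
  refine arith n _ _ _ _ _ (maximalIdeal (EGA4.FibLocRing A B P.asIdeal)).height hs ?_ ?_ h1
  · exact_mod_cast hSk
  · exact_mod_cast hDI

end Main

end Groth.Agent.H23.CutoffCompl
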