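import Mathlib
import Groth.Agent.H28.DualCatenary
import Groth.Agent.H26.FlatBCDual8
import Groth.Agent.H26.FlatBCDual12
import Groth.Agent.H31.Support
import Groth.Agent.H23.CutoffCompl2

/-!
# The dimension function of a dualizing complex under flat base change

For `A → B` flat (Noetherian), `ω` dualizing for `A` and `ω ⊗ B` dualizing for `B`:
* `topDeg_eq_of_mem_minimalPrimes`: `n_B(P₀) = n_A(p)` for `P₀` minimal over `pB`;
* `krullDim_Icc_eq`: `dim [P, Q] = n(Q) - n(P)`;
* `height_map_mk_eq`: `dim B_P/pB_P = n_B(P) - n_A(p)`.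
-/

set_option autoImplicit false
set_option linter.unusedSectionVars false
set_option linter.style.haveILetI false
universe u

open CategoryTheory Limits Pretriangulated DerivedCategory TensorProduct

namespace Groth.Agent.H23.DualDimFun

open Groth.Agent.H2.DualCx Groth.Agent.H24 Groth.Agent.H28.DualCatenary

attribute [local instance] HasDerivedCategory.standard

section One

variable {R : Type u} [CommRing R] [IsNoetherianRing R] {ω : Dual.D R}
  (hω : Dual.IsDualizing R ω)

include hω in
/-- `dim [P, Q] = n(Q) - n(P)`. -/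
theorem krullDim_Icc_eq (P Q : PrimeSpectrum R) (hPQ : P ≤ Q) :
    Order.krullDim (Set.Icc P Q) =
      (((topDeg hω Q - topDeg hω P).toNat : ℕ) : WithBot ℕ∞) := by
  have := wellFoundedGT_primeSpectrum (A := R)
  have := wellFoundedLT_primeSpectrum (A := R)
  apply le_antisymm
  · unfold Order.krullDim
    refine iSup_le fun l => ?_
    let l' : LTSeries (PrimeSpectrum R) := l.map Subtype.val (fun a b hab => hab)
    have h1 := topDeg_series hω l'
    have h2 : topDeg hω P ≤ topDeg hω l'.head := topDeg_mono hω (l.head).2.1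
    have h3 : topDeg hω l'.last ≤ topDeg hω Q := topDeg_mono hω (l.last).2.2
    have h4 : l'.length = l.length := rfl
    have h5 : l.length ≤ (topDeg hω Q - topDeg hω P).toNat := by omega
    exact_mod_cast h5
  · obtain ⟨t, hth, htl⟩ := exists_satSeries_of_le hPQ
    have h1 := topDeg_saturated hω t.toLT t.toLT_covBy
    rw [SatSeries.toLT_last, SatSeries.toLT_head, htl, hth, SatSeries.toLT_length] at h1
    let s : LTSeries (Set.Icc P Q) :=
      ⟨t.length, fun i => ⟨t.toLT i, by
        have h := LTSeries.head_le t.toLT i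
        rw [SatSeries.toLT_head, hth] at h
        exact h, by
        have h : t.toLT i ≤ t.toLT.last := t.toLT.monotone (Fin.le_last i)
        rw [SatSeries.toLT_last, htl] at h
        exact h⟩, fun i => t.toLT.step i⟩
    have h2 := Order.LTSeries.length_le_krullDim s
    have h3 : s.length = t.length := rfl
    have h4 : (topDeg hω Q - topDeg hω P).toNat = s.length := by omega
    rw [h4]
    exact h2

include hω in
/-- chains from `P` to `Q` inside `Set.Ici P` have length at least `n(Q) - n(P)` (attained). -/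
theorem le_height_Ici (P Q : PrimeSpectrum R) (hPQ : P ≤ Q) :
    (((topDeg hω Q - topDeg hω P).toNat : ℕ) : ℕ∞) ≤ Order.height (⟨Q, hPQ⟩ : Set.Ici P) := by
  have := wellFoundedGT_primeSpectrum (A := R)
  have := wellFoundedLT_primeSpectrum (A := R)
  obtain ⟨t, hth, htl⟩ := exists_satSeries_of_le hPQ
  have h1 := topDeg_saturated hω t.toLT t.toLT_covBy
  rw [SatSeries.toLT_last, SatSeries.toLT_head, htl, hth, SatSeries.toLT_length] at h1
  let s : LTSeries (Set.Ici P) :=
    ⟨t.length, fun i => ⟨t.toLT i, by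
      have h := LTSeries.head_le t.toLT i
      rw [SatSeries.toLT_head, hth] at h
      exact h⟩, fun i => t.toLT.step i⟩
  have h2 := Order.length_le_height_last (p := s)
  have h3 : s.last = ⟨Q, hPQ⟩ := Subtype.ext htl
  rw [h3] at h2
  have h4 : (topDeg hω Q - topDeg hω P).toNat = s.length := by
    have : s.length = t.length := rfl
    omega
  rw [h4]
  exact h2

end One

section Two

open Groth.Agent.H26.FlatBCHom Groth.Agent.H26.FlatBCDual

variable {A B : Type u} [CommRing A] [CommRing B] [Algebra A B] [Module.Flat A B]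
  [IsNoetherianRing A] [IsNoetherianRing B] {ω : Dual.D A} (hω : Dual.IsDualizing A ω)
  (hB : Dual.IsDualizing B ((LB A B).obj ω))

include hω in
/-- **(TD)** `n_B(P₀) = n_A(p)` for `P₀` minimal over `pB`. -/
theorem topDeg_eq_of_mem_minimalPrimes (p : PrimeSpectrum A) (P₀ : PrimeSpectrum B)
    (hP₀ : P₀.asIdeal ∈ (p.asIdeal.map (algebraMap A B)).minimalPrimes) :
    topDeg hB P₀ = topDeg hω p := by
  set k := topDeg hω p with hk
  set pB := p.asIdeal.map (algebraMap A B) with hpB
  obtain ⟨a, b, hGE, hLE, -⟩ := exists_bounds ω hω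
  have hcomap : PrimeSpectrum.comap (algebraMap A B) P₀ = p :=
    PrimeSpectrum.ext
      (Groth.Agent.H72.EquidimFlat.comap_eq_of_mem_minimalPrimes_map p.asIdeal P₀.asIdeal hP₀)
  have hmem : P₀ ∈ Module.support B (T ((LB A B).obj ω) k (B ⧸ pB)) := by
    let e := TQuotEquiv (C := B) ω a b hGE hLE p.asIdeal k
    rw [e.support_eq]
    haveI := finT'_of_isDualizing hω k (A ⧸ p.asIdeal)
    rw [Groth.Agent.H31.support_baseChange_eq_preimage, Set.mem_preimage, hcomap]
    exact topDeg_mem hω p
  have h1 : k ≤ topDeg hB P₀ := le_topDeg hB P₀ (B ⧸ pB) k hmem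
  have h2 := le_supportDim_of_mem_support_T hB (B ⧸ pB) P₀ k hmem
  have hann : Module.annihilator B (B ⧸ pB) = pB := Ideal.annihilator_quotient
  have hle : Module.annihilator B (B ⧸ pB) ≤ P₀.asIdeal := by rw [hann]; exact hP₀.1.2
  rw [Groth.Agent.H98.GrHt.supportDim_localizedModule_eq_relHt P₀.asIdeal (B ⧸ pB) hle] at h2
  have h5 : Groth.Agent.H98.GrHt.relHt (Module.annihilator B (B ⧸ pB)) P₀.asIdeal hle =
      (P₀.asIdeal.map (Ideal.Quotient.mk pB)).height := by
    rw [Groth.Agent.H98.GrHt.height_map_eq_relHt pB P₀.asIdeal hP₀.1.2]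
    exact Groth.Agent.H98.GrHt.relHt_congr hann hle
  rw [h5] at h2
  have h3 := Groth.Agent.H72.EquidimFlat.map_mk_mem_minimalPrimes pB P₀.asIdeal hP₀
  haveI : (P₀.asIdeal.map (Ideal.Quotient.mk pB)).IsPrime := h3.1.1
  rw [Ideal.height_eq_zero_iff.mpr h3] at h2
  have h4 : (topDeg hB P₀ - k).toNat = 0 := by
    have : (((topDeg hB P₀ - k).toNat : ℕ) : WithBot ℕ∞) ≤ ((0 : ℕ) : WithBot ℕ∞) := by
      simpa using h2
    have h6 : (topDeg hB P₀ - k).toNat ≤ 0 := by exact_mod_cast this
    omega
  omega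

include hω in
/-- **(FD)** `dim B_P/pB_P = ht(P/pB) = n_B(P) - n_A(p)`, `p = P ∩ A`. -/
theorem height_map_mk_eq (P : PrimeSpectrum B) :
    (P.asIdeal.map (Ideal.Quotient.mk
        ((P.asIdeal.comap (algebraMap A B)).map (algebraMap A B)))).height =
      (((topDeg hB P - topDeg hω (PrimeSpectrum.comap (algebraMap A B) P)).toNat : ℕ) : ℕ∞) := by
  set p : PrimeSpectrum A := PrimeSpectrum.comap (algebraMap A B) P with hp
  set pB : Ideal B := (P.asIdeal.comap (algebraMap A B)).map (algebraMap A B) with hpB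
  have hpP : pB ≤ P.asIdeal := Ideal.map_comap_le
  have hPbar : (P.asIdeal.map (Ideal.Quotient.mk pB)).IsPrime := map_mk_isPrime_of_le hpP
  let P' : PrimeSpectrum (B ⧸ pB) := ⟨_, hPbar⟩
  have hcP : PrimeSpectrum.comap (Ideal.Quotient.mk pB) P' = P :=
    PrimeSpectrum.ext (comap_map_mk_of_le hpP)
  apply le_antisymm
  · change P'.asIdeal.height ≤ _
    rw [PrimeSpectrum.height_eq_orderHeight P', Order.height_le_iff']
    intro l hl
    let l' : LTSeries (PrimeSpectrum B) :=
      l.map (PrimeSpectrum.comap (Ideal.Quotient.mk pB)) (strictMono_comap_mk pB)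
    have hlast : l'.last = P := by
      change PrimeSpectrum.comap (Ideal.Quotient.mk pB) l.last = P
      rw [hl, hcP]
    have hhead : pB ≤ l'.head.asIdeal := by
      intro x hx
      change Ideal.Quotient.mk pB x ∈ l.head.asIdeal
      rw [Ideal.Quotient.eq_zero_iff_mem.mpr hx]
      exact Ideal.zero_mem _
    obtain ⟨P₀, hP₀, hP₀le⟩ := Ideal.exists_minimalPrimes_le hhead
    have hTD := topDeg_eq_of_mem_minimalPrimes hω hB p ⟨P₀, hP₀.1.1⟩ hP₀
    have h1 : topDeg hB ⟨P₀, hP₀.1.1⟩ ≤ topDeg hB l'.head :=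
      topDeg_mono hB (show (⟨P₀, hP₀.1.1⟩ : PrimeSpectrum B) ≤ l'.head from hP₀le)
    have h2 := topDeg_series hB l'
    rw [hlast] at h2
    have h3 : l'.length = l.length := rfl
    have h4 : l.length ≤ (topDeg hB P - topDeg hω p).toNat := by omega
    exact_mod_cast h4
  · obtain ⟨P₀, hP₀, hP₀le⟩ := Ideal.exists_minimalPrimes_le hpP
    have hTD := topDeg_eq_of_mem_minimalPrimes hω hB p ⟨P₀, hP₀.1.1⟩ hP₀
    have hP₀P : (⟨P₀, hP₀.1.1⟩ : PrimeSpectrum B) ≤ P := hP₀le
    have h1 := le_height_Ici hB ⟨P₀, hP₀.1.1⟩ P hP₀P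
    rw [hTD, Groth.Agent.H81.RelCodim.height_Ici_eq] at h1
    exact h1.trans (Groth.Agent.H23.CutoffCompl.height_map_mk_mono hP₀.1.2 hP₀le)

end Two

section Fibre

variable {A B : Type u} [CommRing A] [CommRing B] [IsNoetherianRing A] [IsNoetherianRing B]
  [Algebra A B]

set_option backward.isDefEq.respectTransparency false in
/-- transport of a property of the local rings of the fibre rings `p.Fiber B` to the fibre local
rings `B_r/pB_r`. -/
theorem fibLocRing_of_fiber (Pr : ∀ (X : Type u) [CommRing X], Prop)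
    (hiso : ∀ (X Y : Type u) [CommRing X] [CommRing Y], (X ≃+* Y) → Pr X → Pr Y)
    (hfib : ∀ (p : Ideal A) [p.IsPrime] (q : Ideal (p.Fiber B)) [q.IsPrime],
      Pr (Localization.AtPrime q))
    (r : Ideal B) [hr : r.IsPrime] : Pr (EGA4.FibLocRing A B r) := by
  set p : Ideal A := r.under A with hp
  have hpp : p.IsPrime := inferInstance
  let q0 := PrimeSpectrum.preimageEquivFiber A B ⟨p, hpp⟩ ⟨⟨r, hr⟩, rfl⟩
  have hq0 : q0.asIdeal.comap (Algebra.TensorProduct.includeRight (R := A) (A := p.ResidueField)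
      (B := B)) = r := by
    have := (PrimeSpectrum.preimageEquivFiber A B ⟨p, hpp⟩).left_inv ⟨⟨r, hr⟩, rfl⟩
    exact congrArg (fun x => x.1.asIdeal) this
  have h2 : Pr (Localization.AtPrime q0.asIdeal) := hfib p q0.asIdeal
  have key : Pr (Localization.AtPrime (q0.asIdeal.comap
      (Algebra.TensorProduct.includeRight (R := A) (A := p.ResidueField) (B := B))) ⧸
      (p.map (algebraMap A B)).map (algebraMap B (Localization.AtPrime (q0.asIdeal.comap
      (Algebra.TensorProduct.includeRight (R := A) (A := p.ResidueField) (B := B)))))) :=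
    hiso _ _ (Ideal.Fiber.algEquivAux₂ p q0.asIdeal).toRingEquiv h2
  have hgen : ∀ (r' : Ideal B) (hr' : r'.IsPrime),
      q0.asIdeal.comap (Algebra.TensorProduct.includeRight (R := A) (A := p.ResidueField)
        (B := B)) = r' → Pr (Localization.AtPrime r' ⧸
          (p.map (algebraMap A B)).map (algebraMap B (Localization.AtPrime r'))) := by
    intro r' hr' e
    subst e
    exact key
  have hI : (p.map (algebraMap A B)).map (algebraMap B (Localization.AtPrime r)) =
      (r.comap (algebraMap A B)).map (algebraMap A (Localization.AtPrime r)) := by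
    rw [Ideal.map_map, ← IsScalarTower.algebraMap_eq]
  exact hiso _ _ (Ideal.quotEquivOfEq hI) (hgen r hr hq0)

end Fibre

section Main

open Groth.Agent.H26.FlatBCHom Groth.Agent.H26.FlatBCDual IsLocalRing

variable {A B : Type u} [CommRing A] [CommRing B] [Algebra A B] [Module.Flat A B]
  [IsNoetherianRing A] [IsNoetherianRing B] {ω : Dual.D A} (hω : Dual.IsDualizing A ω)
  (hB : Dual.IsDualizing B ((LB A B).obj ω))

include hω hB in
/-- the depth of the fibre local ring `B_P/pB_P` is `n_B(P) - n_A(p)` (Gorenstein fibres). -/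
theorem depth_fibLocMod_eq (P : PrimeSpectrum B) :
    LocCoh.depth (Localization.AtPrime P.asIdeal) (EGA4.FibLocMod A B P.asIdeal B) =
      (((topDeg hB P - topDeg hω (PrimeSpectrum.comap (algebraMap A B) P)).toNat : ℕ) : ℕ∞) := by
  have hG : LocCoh.IsGorensteinLocalRing (EGA4.FibLocRing A B P.asIdeal) :=
    fibLocRing_of_fiber (A := A) (B := B) (fun X _ => LocCoh.IsGorensteinLocalRing X)
      (fun X Y _ _ e h => Groth.Agent.H26.GorRegHom.isGorensteinLocalRing_of_ringEquiv e h)
      (fun p _ q _ => isGorensteinLocalRing_fibre_of_isDualizing ω hω hB p q) P.asIdeal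
  have hCM : LocCoh.IsCohenMacaulayLocalRing (EGA4.FibLocRing A B P.asIdeal) :=
    Groth.Agent.H2.GorensteinCM.isCohenMacaulayLocalRing _
  haveI : IsLocalRing (EGA4.FibLocRing A B P.asIdeal) := hCM.toIsLocalRing
  haveI : IsNoetherianRing (Localization.AtPrime P.asIdeal) :=
    IsLocalization.isNoetherianRing P.asIdeal.primeCompl _ inferInstance
  haveI : IsNoetherianRing (EGA4.FibLocRing A B P.asIdeal) := inferInstance
  haveI : IsLocalHom (algebraMap (Localization.AtPrime P.asIdeal)
      (EGA4.FibLocRing A B P.asIdeal)) :=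
    IsLocalHom.of_surjective _ Ideal.Quotient.mk_surjective
  have h1 : LocCoh.depth (Localization.AtPrime P.asIdeal) (EGA4.FibLocMod A B P.asIdeal B) =
      LocCoh.depth (Localization.AtPrime P.asIdeal) (EGA4.FibLocRing A B P.asIdeal) :=
    Groth.Agent.H15.idealDepth_congr
      (Groth.Agent.H29.FibreDepthGe.fibLocModSelfEquiv (A := A) P.asIdeal) _
  have h2 : LocCoh.depth (Localization.AtPrime P.asIdeal) (EGA4.FibLocRing A B P.asIdeal) =
      LocCoh.depth (EGA4.FibLocRing A B P.asIdeal) (EGA4.FibLocRing A B P.asIdeal) :=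
    Groth.Agent.H29.DepthAB.depth_eq (A := Localization.AtPrime P.asIdeal)
      (B := EGA4.FibLocRing A B P.asIdeal) (EGA4.FibLocRing A B P.asIdeal)
  have h3 := hCM.supportDim_eq_depth
  rw [Module.supportDim_self_eq_ringKrullDim] at h3
  -- the dimension
  set pB : Ideal B := (P.asIdeal.comap (algebraMap A B)).map (algebraMap A B) with hpB
  have hpP : pB ≤ P.asIdeal := Ideal.map_comap_le
  have h4 : ringKrullDim (EGA4.FibLocRing A B P.asIdeal) =
      (((P.asIdeal.map (Ideal.Quotient.mk pB)).height : ℕ∞) : WithBot ℕ∞) := by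
    have hI : (P.asIdeal.comap (algebraMap A B)).map
        (algebraMap A (Localization.AtPrime P.asIdeal)) =
        pB.map (algebraMap B (Localization.AtPrime P.asIdeal)) := by
      rw [hpB, Ideal.map_map, ← IsScalarTower.algebraMap_eq]
    rw [← Groth.Agent.H23.CutoffCompl.ringKrullDim_quotient_localization_eq pB P.asIdeal hpP]
    exact ringKrullDim_eq_of_ringEquiv (Ideal.quotEquivOfEq hI)
  rw [h4, height_map_mk_eq hω hB P] at h3
  rw [h1, h2]
  exact (WithBot.coe_inj.mp h3).symm

include hω hB in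
/-- **Main theorem**: depth and interval dimension under a flat base change `A → B` with `ω ⊗ B`
dualizing, for primes `P ≤ Q` of `B` with `Q` minimal over `(Q ∩ A)B`. -/
theorem depth_add_krullDim_Icc (M : Type u) [AddCommGroup M] [Module A M] [Module.Finite A M]
    (N : Type u) [AddCommGroup N] [Module B N] (e₀ : B ⊗[A] M ≃ₗ[B] N)
    (P Q : PrimeSpectrum B) (hPQ : P ≤ Q)
    (hQ : Q.asIdeal ∈ ((Q.asIdeal.comap (algebraMap A B)).map (algebraMap A B)).minimalPrimes) :
    LocCoh.depth (Localization.AtPrime (P.asIdeal.comap (algebraMap A B)))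
        (LocalizedModule (P.asIdeal.comap (algebraMap A B)).primeCompl M) ≤
      LocCoh.depth (Localization.AtPrime P.asIdeal) (LocalizedModule P.asIdeal.primeCompl N) ∧
    ((LocCoh.depth (Localization.AtPrime P.asIdeal)
        (LocalizedModule P.asIdeal.primeCompl N) : ℕ∞) : WithBot ℕ∞) +
        Order.krullDim (Set.Icc P Q) =
      ((LocCoh.depth (Localization.AtPrime (P.asIdeal.comap (algebraMap A B)))
        (LocalizedModule (P.asIdeal.comap (algebraMap A B)).primeCompl M) : ℕ∞) : WithBot ℕ∞) +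
        Order.krullDim (Set.Icc (PrimeSpectrum.comap (algebraMap A B) P)
          (PrimeSpectrum.comap (algebraMap A B) Q)) := by
  set p : PrimeSpectrum A := PrimeSpectrum.comap (algebraMap A B) P with hp
  set q : PrimeSpectrum A := PrimeSpectrum.comap (algebraMap A B) Q with hq
  have hpq : p ≤ q := Groth.Agent.H23.CutoffCompl.comap_mono' (algebraMap A B) hPQ
  -- depth formula
  haveI : Module.Finite B (B ⊗[A] M) := inferInstance
  have hdep0 := (Groth.Agent.H29.LocTensor.formulas (A := A) M B P.asIdeal).2.1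
  have hdep1 : LocCoh.depth (Localization.AtPrime P.asIdeal)
      (LocalizedModule P.asIdeal.primeCompl N) =
      LocCoh.depth (Localization.AtPrime P.asIdeal)
        (LocalizedModule P.asIdeal.primeCompl (B ⊗[A] M)) := by
    haveI : IsLocalizedModule P.asIdeal.primeCompl
        ((LocalizedModule.mkLinearMap P.asIdeal.primeCompl N) ∘ₗ (e₀ : B ⊗[A] M →ₗ[B] N)) :=
      IsLocalizedModule.of_linearEquiv_right _ _ e₀
    exact Groth.Agent.H23.CutoffFinite.depth_eq_of_isLocalizedModule P.asIdeal (B ⊗[A] M)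
      (LocalizedModule P.asIdeal.primeCompl N)
      ((LocalizedModule.mkLinearMap P.asIdeal.primeCompl N) ∘ₗ (e₀ : B ⊗[A] M →ₗ[B] N))
  have hδ := depth_fibLocMod_eq hω hB P
  rw [hdep1, hdep0, hδ]
  refine ⟨le_self_add, ?_⟩
  -- the dimension functions
  have hTDQ : topDeg hB Q = topDeg hω q := topDeg_eq_of_mem_minimalPrimes hω hB q Q hQ
  have h1 : topDeg hB P ≤ topDeg hB Q := topDeg_mono hB hPQ
  have h2 : topDeg hω p ≤ topDeg hB P := by
    have hpP : p.asIdeal.map (algebraMap A B) ≤ P.asIdeal := Ideal.map_comap_le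
    obtain ⟨P₀, hP₀, hP₀le⟩ := Ideal.exists_minimalPrimes_le hpP
    have hTD := topDeg_eq_of_mem_minimalPrimes hω hB p ⟨P₀, hP₀.1.1⟩ hP₀
    rw [← hTD]
    exact topDeg_mono hB (show (⟨P₀, hP₀.1.1⟩ : PrimeSpectrum B) ≤ P from hP₀le)
  rw [krullDim_Icc_eq hB P Q hPQ, krullDim_Icc_eq hω p q hpq]
  have h3 : (topDeg hB P - topDeg hω p).toNat + (topDeg hB Q - topDeg hB P).toNat =
      (topDeg hω q - topDeg hω p).toNat := by omega
  rw [← h3]
  push_cast
  rw [add_assoc]

end Main

end Groth.Agent.H23.DualDimFun
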