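import Mathlib
import Groth.Prelude.Def_Formal2
import Groth.Agent.H23.DualDimFun
import Groth.Agent.H26.FlatBCDual4
import Groth.Agent.H26.FlatBCDual6
import Groth.Agent.H26.AdicComplMax
import Groth.Agent.H20.ComplNoeth2
import Groth.Agent.H44.ComplDepth
import Groth.Agent.H58.Conn.Quot
import Groth.Agent.S0379

/-!
# Bootstrap lemmas for the finiteness theorem: depth on `I`-adic completions of localizations
-/

set_option autoImplicit false
set_option linter.unusedSectionVars false
set_option linter.style.haveILetI false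
universe u

open CategoryTheory TensorProduct IsLocalRing

namespace Groth.Agent.H23.Bootstrap

attribute [local instance] HasDerivedCategory.standard

section Order

variable {α : Type*} [Preorder α]

/-- `dim [a, x]` is the height of `x` in `[a, ∞)`. -/
theorem krullDim_Icc_eq_height_Ici (a x : α) (h : a ≤ x) :
    Order.krullDim (Set.Icc a x) = ((Order.height (⟨x, h⟩ : Set.Ici a) : ℕ∞) : WithBot ℕ∞) := by
  rw [Order.height_eq_krullDim_Iic]
  let e : Set.Iic (⟨x, h⟩ : Set.Ici a) ≃o Set.Icc a x :=
    { toFun := fun z => ⟨z.1.1, z.1.2, z.2⟩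
      invFun := fun w => ⟨⟨w.1, w.2.1⟩, w.2.2⟩
      left_inv := fun z => rfl
      right_inv := fun w => rfl
      map_rel_iff' := Iff.rfl }
  exact (Order.krullDim_eq_of_orderIso e).symm

end Order

section Ring

variable {R : Type u} [CommRing R]

/-- `dim (R/p)_q = dim [p, q]`. -/
theorem dimBetween_eq_krullDim_Icc (p q : PrimeSpectrum R) (hpq : p ≤ q) :
    Formal2.dimBetween R p.asIdeal q.asIdeal = Order.krullDim (Set.Icc p q) := by
  rw [krullDim_Icc_eq_height_Ici p q hpq, Groth.Agent.H81.RelCodim.height_Ici_eq]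
  exact Groth.Agent.H23.CutoffCompl.ringKrullDim_quotient_localization_eq p.asIdeal q.asIdeal hpq

/-- `dim [P, Q] ≤ dim R/P`. -/
theorem krullDim_Icc_le (P Q : PrimeSpectrum R) (hPQ : P ≤ Q) :
    Order.krullDim (Set.Icc P Q) ≤ ringKrullDim (R ⧸ P.asIdeal) := by
  rw [krullDim_Icc_eq_height_Ici P Q hPQ, ← Groth.Agent.H24.coheight_eq_ringKrullDim_quotient,
    Order.coheight_eq_krullDim_Ici]
  exact Order.height_le_krullDim _

end Ring

section Adic

variable (A : Type u) [CommRing A] [IsNoetherianRing A] (I : Ideal A)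

theorem exists_sub_mem_map (x : AdicCompletion I A) : ∃ a : A,
    x - algebraMap A (AdicCompletion I A) a ∈ I.map (algebraMap A (AdicCompletion I A)) := by
  obtain ⟨a, ha⟩ := Groth.Agent.H26.AdicComplMax.exists_sub_mem_map_pow I I le_rfl 1 x
  rw [pow_one] at ha
  exact ⟨a, ha⟩

/-- a prime of the `I`-adic completion containing `I` is (minimal over) the extension of its
contraction. -/
theorem mem_minimalPrimes_map_comap (Q : Ideal (AdicCompletion I A)) [hQp : Q.IsPrime]
    (hq : I.map (algebraMap A (AdicCompletion I A)) ≤ Q) :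
    Q ∈ ((Q.comap (algebraMap A (AdicCompletion I A))).map
      (algebraMap A (AdicCompletion I A))).minimalPrimes := by
  refine ⟨⟨hQp, Ideal.map_comap_le⟩, ?_⟩
  rintro Q₁ ⟨hQ₁p, hQ₁⟩ hQ₁le b hb
  obtain ⟨a, ha⟩ := exists_sub_mem_map A I b
  have hIq : I ≤ Q.comap (algebraMap A (AdicCompletion I A)) := Ideal.map_le_iff_le_comap.mp hq
  have hx : b - algebraMap A (AdicCompletion I A) a ∈ Q₁ := hQ₁ (Ideal.map_mono hIq ha)
  have ha' : algebraMap A (AdicCompletion I A) a ∈ Q := by
    have := Q.sub_mem hb (hQ₁le hx)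
    simpa using this
  have ha'' : algebraMap A (AdicCompletion I A) a ∈ Q₁ :=
    hQ₁ (Ideal.mem_map_of_mem _ (Ideal.mem_comap.mpr ha'))
  have := Q₁.add_mem hx ha''
  simpa using this

/-- the base change of a dualizing complex to the `I`-adic completion is dualizing. -/
theorem isDualizing_LB_adicCompletion (ω : Dual.D A) (hω : Dual.IsDualizing A ω) :
    haveI : IsNoetherianRing (AdicCompletion I A) :=
      Groth.Agent.H20.isNoetherianRing_adicCompletion I
    haveI : Module.Flat A (AdicCompletion I A) := AdicCompletion.flat_of_isNoetherian I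
    Dual.IsDualizing (AdicCompletion I A)
      ((Groth.Agent.H26.FlatBCHom.LB A (AdicCompletion I A)).obj ω) := by
  haveI : IsNoetherianRing (AdicCompletion I A) :=
    Groth.Agent.H20.isNoetherianRing_adicCompletion I
  haveI : Module.Flat A (AdicCompletion I A) := AdicCompletion.flat_of_isNoetherian I
  exact Groth.Agent.H26.FlatBCDual.isDualizing_LB_of_jacobson I (exists_sub_mem_map A I)
    (Groth.Agent.H26.AdicComplMax.map_le_jacobson I) ω hω

end Adic

section Arith

/-- arithmetic in `WithBot ℕ∞` -/
theorem lt_of_add_lt (d s : ℕ) (δ : ℕ∞) (x : WithBot ℕ∞) (hx : x ≤ (d : WithBot ℕ∞))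
    (h : (((d + s : ℕ) : ℕ∞) : WithBot ℕ∞) < ((δ : ℕ∞) : WithBot ℕ∞) + x) : (s : ℕ∞) < δ := by
  induction x using WithBot.recBotCoe with
  | bot => rw [WithBot.add_bot] at h; exact absurd h (not_lt_bot)
  | coe x =>
    have hx' : x ≤ (d : ℕ∞) := by exact_mod_cast hx
    rw [← WithBot.coe_add, WithBot.coe_lt_coe] at h
    induction δ using ENat.recTopCoe with
    | top => exact ENat.natCast_lt_top s
    | coe n =>
      have hxne : x ≠ ⊤ := ne_top_of_le_ne_top (ENat.natCast_ne_top d) hx'
      obtain ⟨m, rfl⟩ := ENat.ne_top_iff_exists.mp hxne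
      have hm : m ≤ d := by exact_mod_cast hx'
      have h' : d + s < n + m := by exact_mod_cast h
      have : s < n := by omega
      exact_mod_cast this

end Arith

section Loc

open Groth.Agent.H26.FlatBCHom Groth.Agent.H26.FlatBCDual

variable (A : Type u) [CommRing A] [IsNoetherianRing A] (I : Ideal A) (q : Ideal A) [q.IsPrime]

local notation "R" => Localization.AtPrime q
local notation "J" => Ideal.map (algebraMap A (Localization.AtPrime q)) I
local notation "B'" => AdicCompletion (Ideal.map (algebraMap A (Localization.AtPrime q)) I)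
  (Localization.AtPrime q)

/-- the base change of a dualizing complex to the `I`-adic completion of a localization -/
theorem isDualizing_LB_compl_loc (ω : Dual.D A) (hω : Dual.IsDualizing A ω) :
    haveI : IsNoetherianRing B' := Groth.Agent.Lead.RLR.isNoetherianRing_adicCompletion' R J
    Dual.IsDualizing B' ((LB A B').obj ω) := by
  haveI : IsNoetherianRing B' := Groth.Agent.Lead.RLR.isNoetherianRing_adicCompletion' R J
  haveI : IsNoetherianRing R := IsLocalization.isNoetherianRing q.primeCompl _ inferInstance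
  haveI : Module.Flat R B' := AdicCompletion.flat_of_isNoetherian J
  have hωR : Dual.IsDualizing R ((LB A R).obj ω) := isDualizing_LB_localization q.primeCompl ω hω
  have hB'' := isDualizing_LB_adicCompletion R J _ hωR
  exact isDualizing_of_iso (LBcomp R B' ω) hB''

/-- **S8797 core**: the depth condition on the `I`-adic completion of `A_q`. -/
theorem lt_depth_compl_loc (ω : Dual.D A) (hω : Dual.IsDualizing A ω) (hIq : I ≤ q) (d : ℕ)
    (hcd : LocCoh.CdLE A I d) (M : Type u) [AddCommGroup M] [Module A M] [Module.Finite A M]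
    (s : ℕ)
    (hc : ∀ p : PrimeSpectrum A, p ≤ (⟨q, inferInstance⟩ : PrimeSpectrum A) →
      ¬ I ≤ p.asIdeal →
      (s : ℕ∞) < LocCoh.depth (Localization.AtPrime p.asIdeal)
        (LocalizedModule p.asIdeal.primeCompl M) ∨
      (((d + s : ℕ) : ℕ∞) : WithBot ℕ∞) <
        ((LocCoh.depth (Localization.AtPrime p.asIdeal)
          (LocalizedModule p.asIdeal.primeCompl M) : ℕ∞) : WithBot ℕ∞) +
          Formal2.dimBetween A p.asIdeal q)
    (p' : PrimeSpectrum B') (hp' : ¬ I.map (algebraMap A B') ≤ p'.asIdeal)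
    (hmax : ∀ q' : PrimeSpectrum B', p' ≤ q' → I.map (algebraMap A B') ≤ q'.asIdeal →
      q'.asIdeal.IsMaximal) :
    (s : ℕ∞) < LocCoh.depth (Localization.AtPrime p'.asIdeal)
      (LocalizedModule p'.asIdeal.primeCompl
        (AdicCompletion J (LocalizedModule q.primeCompl M))) := by
  haveI : IsNoetherianRing B' := Groth.Agent.Lead.RLR.isNoetherianRing_adicCompletion' R J
  haveI : IsNoetherianRing R := IsLocalization.isNoetherianRing q.primeCompl _ inferInstance
  have hJ : J ≠ ⊤ := Groth.Agent.H44.ComplDepth.J_ne_top A I q hIq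
  haveI hloc : IsLocalRing B' := Groth.Agent.Lead.RLR.isLocalRing_adicCompletion R J hJ
  haveI hlh : IsLocalHom (algebraMap R B') :=
    Groth.Agent.Lead.RLR.isLocalHom_algebraMap_adicCompletion R J hJ
  have hB' := isDualizing_LB_compl_loc A I q ω hω
  let Q : PrimeSpectrum B' := IsLocalRing.closedPoint B'
  have hPQ : p' ≤ Q := IsLocalRing.le_maximalIdeal p'.2.ne_top
  -- the contraction of the closed point
  have hQR : (maximalIdeal B').comap (algebraMap R B') = maximalIdeal R :=
    ((IsLocalRing.local_hom_TFAE (algebraMap R B')).out 0 4).mp hlh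
  have hQA : Q.asIdeal.comap (algebraMap A B') = q := by
    change (maximalIdeal B').comap (algebraMap A B') = q
    rw [IsScalarTower.algebraMap_eq A R B', ← Ideal.comap_comap, hQR]
    exact IsLocalization.AtPrime.under_maximalIdeal R q
  have hQmap : q.map (algebraMap A B') = Q.asIdeal := by
    change q.map (algebraMap A B') = maximalIdeal B'
    rw [IsScalarTower.algebraMap_eq A R B', ← Ideal.map_map,
      Localization.AtPrime.map_eq_maximalIdeal,
      Groth.Agent.Lead.RLR.maximalIdeal_adicCompletion_eq_map R J hJ]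
  have hQ : Q.asIdeal ∈ ((Q.asIdeal.comap (algebraMap A B')).map
      (algebraMap A B')).minimalPrimes := by
    rw [hQA, hQmap, Ideal.minimalPrimes_eq_subsingleton_self]
    exact Set.mem_singleton _
  obtain ⟨e₀⟩ := Groth.Agent.H44.ComplDepth.nonempty_complEquiv A I q M
  obtain ⟨h1, h2⟩ := Groth.Agent.H23.DualDimFun.depth_add_krullDim_Icc hω hB' M _ e₀ p' Q hPQ hQ
  set p : PrimeSpectrum A := PrimeSpectrum.comap (algebraMap A B') p' with hp
  have hcQ : PrimeSpectrum.comap (algebraMap A B') Q = ⟨q, inferInstance⟩ :=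
    PrimeSpectrum.ext hQA
  rw [hcQ] at h2
  have hpq : p ≤ (⟨q, inferInstance⟩ : PrimeSpectrum A) := by
    rw [← hcQ]
    exact Groth.Agent.H23.CutoffCompl.comap_mono' (algebraMap A B') hPQ
  have hIp : ¬ I ≤ p.asIdeal := fun h => hp' ((Ideal.map_mono h).trans Ideal.map_comap_le)
  rcases hc p hpq hIp with h | h
  · exact h.trans_le h1
  · have h3 := dimBetween_eq_krullDim_Icc p ⟨q, inferInstance⟩ hpq
    rw [h3] at h
    change _ < ((LocCoh.depth (Localization.AtPrime (p'.asIdeal.comap (algebraMap A B')))
      (LocalizedModule (p'.asIdeal.comap (algebraMap A B')).primeCompl M) : ℕ∞) : WithBot ℕ∞) +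
        _ at h
    rw [← h2] at h
    refine lt_of_add_lt d s _ _ ?_ h
    -- `dim [p', Q] ≤ d`
    refine (krullDim_Icc_le p' Q hPQ).trans ?_
    have hcd' : LocCoh.CdLE B' (I.map (algebraMap A B')) d :=
      (Groth.Agent.S0379.result A B' I d).1 hcd
    have hf : I.map (algebraMap A B') ≠ ⊤ := by
      intro htop
      have : I.map (algebraMap A B') ≤ maximalIdeal B' := by
        have h0 : I.map (algebraMap A B') ≤ Q.asIdeal := by
          rw [← hQmap]
          exact Ideal.map_mono hIq
        exact h0
      rw [htop] at this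
      exact (maximalIdeal.isMaximal B').ne_top (top_le_iff.mp this)
    have h4 := Groth.Agent.H58.Conn.dim_quot_prime_le p'.asIdeal (I.map (algebraMap A B')) hf d hcd'
    refine h4.trans ?_
    have h5 : ringKrullDim (B' ⧸ (p'.asIdeal ⊔ I.map (algebraMap A B'))) ≤ 0 := by
      have hdim : Ring.KrullDimLE 0 (B' ⧸ (p'.asIdeal ⊔ I.map (algebraMap A B'))) := by
        apply Ring.KrullDimLE.mk₀
        intro P hP
        set P' : Ideal B' :=
          P.comap (Ideal.Quotient.mk (p'.asIdeal ⊔ I.map (algebraMap A B'))) with hP'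
        haveI : P'.IsPrime := Ideal.comap_isPrime _ _
        have hle : p'.asIdeal ⊔ I.map (algebraMap A B') ≤ P' := by
          intro x hx
          rw [hP', Ideal.mem_comap, Ideal.Quotient.eq_zero_iff_mem.mpr hx]
          exact P.zero_mem
        have hmaxP' : P'.IsMaximal :=
          hmax ⟨P', inferInstance⟩ (le_sup_left.trans hle) (le_sup_right.trans hle)
        have hPeq : P = P'.map (Ideal.Quotient.mk (p'.asIdeal ⊔ I.map (algebraMap A B'))) := by
          rw [hP', Ideal.map_comap_of_surjective _ Ideal.Quotient.mk_surjective]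
        rw [hPeq]
        rcases Ideal.map_eq_top_or_isMaximal_of_surjective
          (Ideal.Quotient.mk (p'.asIdeal ⊔ I.map (algebraMap A B')))
          Ideal.Quotient.mk_surjective hmaxP' with h | h
        · exfalso
          rw [← hPeq] at h
          exact hP.ne_top h
        · exact h
      exact (Ring.krullDimLE_iff (n := 0)).mp hdim
    calc (d : WithBot ℕ∞) + ringKrullDim (B' ⧸ (p'.asIdeal ⊔ I.map (algebraMap A B')))
        ≤ (d : WithBot ℕ∞) + 0 := by gcongr
      _ = (d : WithBot ℕ∞) := add_zero _

end Loc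

end Groth.Agent.H23.Bootstrap
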