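import Mathlib
import Groth.Agent.H23.Bootstrap1
import Groth.Agent.H10.TorsionFlat
import Groth.Agent.H20.ComplBij

/-!
# Completions of localizations of an `I`-adic completion

For `A' = Â_I`, a prime `Q ⊇ IA'` of `A'` and `q = Q ∩ A`: the `I`-adic completions of `A_q` and
`A'_Q` are isomorphic (`complMap_loc_bijective`), and the depth condition (6) of the bootstrap
setting transfers from `A` to `A'`.
-/

set_option autoImplicit false
set_option linter.unusedSectionVars false
set_option linter.style.haveILetI false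
universe u

open CategoryTheory TensorProduct IsLocalRing

namespace Groth.Agent.H23.Bootstrap

open Groth.Agent.H10 Groth.Agent.H20

section Gen

variable {R S : Type u} [CommRing R] [CommRing S] [Algebra R S] [Module.Flat R S]

/-- `R/J ≅ S/JS` and `S` flat give `R/Jⁿ ≅ S/JⁿS`. -/
theorem quotBij_pow (J : Ideal R) (hJ : QuotBij R S J) (n : ℕ) : QuotBij R S (J ^ n) :=
  quotBij_of_mk_bijective (mk_bijective_of_pow_killed J hJ n (R ⧸ J ^ n) (by
    intro a ha x
    obtain ⟨r, rfl⟩ := Ideal.Quotient.mk_surjective x
    rw [Algebra.smul_def, Ideal.Quotient.algebraMap_eq, ← map_mul, Ideal.Quotient.eq_zero_iff_mem]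
    exact Ideal.mul_mem_right _ _ ha))

/-- the induced map on `J`-adic completions is bijective. -/
theorem complMap_bijective_of_quotBij (J : Ideal R) (K : Ideal S)
    (hK : K = J.map (algebraMap R S)) (hJ : QuotBij R S J) :
    Function.Bijective (FSch.complMap J K (algebraMap R S) hK.ge) := by
  subst hK
  refine complMap_bijective J _ (algebraMap R S) le_rfl fun n => ?_
  have h1 := (quotBij_iff (S := S) (J ^ n)).mp (quotBij_pow J hJ n)
  have hgen : ∀ (K' : Ideal S) (hK' : K' = (J ^ n).map (algebraMap R S))
      (h : J ^ n ≤ K'.comap (algebraMap R S)),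
      Function.Bijective (Ideal.quotientMap K' (algebraMap R S) h) := by
    intro K' hK' h
    subst hK'
    exact h1
  exact hgen _ (Ideal.map_pow _ _ _).symm _

end Gen

section LocQB

variable {A A' : Type u} [CommRing A] [CommRing A'] [Algebra A A'] (I : Ideal A)
  (Q : Ideal A') [Q.IsPrime]

local notation "q" => Ideal.comap (algebraMap A A') Q

/-- `A/I ≅ A'/IA'` localizes: `A_q/IA_q ≅ A'_Q/IA'_Q` for a prime `Q ⊇ IA'`, `q = Q ∩ A`. -/
theorem quotBij_localization (h : QuotBij A A' I) (hQ : I.map (algebraMap A A') ≤ Q) :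
    haveI : Q.LiesOver q := ⟨rfl⟩
    letI := Localization.AtPrime.algebraOfLiesOver q Q
    QuotBij (Localization.AtPrime q) (Localization.AtPrime Q)
      (I.map (algebraMap A (Localization.AtPrime q))) := by
  haveI : Q.LiesOver q := ⟨rfl⟩
  letI := Localization.AtPrime.algebraOfLiesOver q Q
  set R := Localization.AtPrime q with hR
  set S := Localization.AtPrime Q with hS
  set K : Ideal S := (I.map (algebraMap A A')).map (algebraMap A' S) with hK
  have hJK : (I.map (algebraMap A R)).map (algebraMap R S) = K := by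
    rw [hK, Ideal.map_map, Ideal.map_map, ← IsScalarTower.algebraMap_eq,
      ← IsScalarTower.algebraMap_eq]
  -- decomposition of elements of `A'`
  have hdec : ∀ u : A', ∃ t : A, ∃ y ∈ I.map (algebraMap A A'), u = algebraMap A A' t + y := by
    intro u
    obtain ⟨t, ht⟩ := h.2 u
    refine ⟨t, u - algebraMap A A' t, ?_, by ring⟩
    have := (I.map (algebraMap A A')).neg_mem ht
    rwa [neg_sub] at this
  have hnotin : ∀ (u : A') (t : A) (y : A'), y ∈ I.map (algebraMap A A') →
      u = algebraMap A A' t + y → u ∉ Q → t ∉ q := by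
    intro u t y hy hu huQ htq
    apply huQ
    rw [hu]
    exact Q.add_mem htq (hQ hy)
  have hunit : ∀ t : A, t ∉ q → IsUnit (algebraMap A R t) := fun t ht =>
    IsLocalization.map_units R (⟨t, ht⟩ : (q).primeCompl)
  rw [QuotBij, hJK]
  constructor
  · intro r hr
    obtain ⟨a, t, rfl⟩ := IsLocalization.exists_mk'_eq (q).primeCompl r
    -- `a/1` maps into `K`
    have h1 : algebraMap A' S (algebraMap A A' a) ∈ K := by
      have h2 : algebraMap R S (IsLocalization.mk' R a t * algebraMap A R t) ∈ K := by
        rw [map_mul]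
        exact Ideal.mul_mem_right _ _ hr
      rw [IsLocalization.mk'_spec, ← IsScalarTower.algebraMap_apply A R S,
        IsScalarTower.algebraMap_apply A A' S] at h2
      exact h2
    rw [hK, IsLocalization.mem_map_algebraMap_iff Q.primeCompl S] at h1
    obtain ⟨⟨x, s⟩, hxs⟩ := h1
    rw [← map_mul, IsLocalization.eq_iff_exists Q.primeCompl S] at hxs
    obtain ⟨s', hs'⟩ := hxs
    -- `u * a ∈ IA'` with `u ∉ Q`
    set u : A' := (s' : A') * (s : A') with hu
    have huQ : u ∉ Q := (s' * s).2
    have hua : u * algebraMap A A' a ∈ I.map (algebraMap A A') := by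
      have : u * algebraMap A A' a = (s' : A') * (algebraMap A A' a * (s : A')) := by
        rw [hu]; ring
      rw [this, hs']
      exact Ideal.mul_mem_left _ _ x.2
    obtain ⟨t', y, hy, hut⟩ := hdec u
    have ht'q : t' ∉ q := hnotin u t' y hy hut huQ
    have h3 : algebraMap A A' (t' * a) ∈ I.map (algebraMap A A') := by
      have : algebraMap A A' (t' * a) = u * algebraMap A A' a - y * algebraMap A A' a := by
        rw [hut, map_mul]; ring
      rw [this]
      exact Ideal.sub_mem _ hua (Ideal.mul_mem_right _ _ hy)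
    have h4 : t' * a ∈ I := h.1 _ h3
    have h5 : algebraMap A R a ∈ I.map (algebraMap A R) := by
      have h6 : algebraMap A R (t' * a) ∈ I.map (algebraMap A R) := Ideal.mem_map_of_mem _ h4
      rw [map_mul] at h6
      exact (Ideal.unit_mul_mem_iff_mem _ (hunit t' ht'q)).mp h6
    rw [IsLocalization.mk'_eq_mul_mk'_one]
    exact Ideal.mul_mem_right _ _ h5
  · intro s
    obtain ⟨b, u, rfl⟩ := IsLocalization.exists_mk'_eq Q.primeCompl s
    obtain ⟨a, x, hx, hb⟩ := hdec b
    obtain ⟨t, y, hy, hu⟩ := hdec (u : A')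
    have htq : t ∉ q := hnotin u t y hy hu u.2
    refine ⟨IsLocalization.mk' R a (⟨t, htq⟩ : (q).primeCompl), ?_⟩
    -- multiply by the units `σ(alg t)` and `σ(u)`
    have hu1 : IsUnit (algebraMap A' S (u : A')) := IsLocalization.map_units S u
    have hu2 : IsUnit (algebraMap R S (algebraMap A R t)) := (hunit t htq).map _
    have key : (algebraMap R S (IsLocalization.mk' R a (⟨t, htq⟩ : (q).primeCompl)) -
        IsLocalization.mk' S b u) * (algebraMap R S (algebraMap A R t) * algebraMap A' S (u : A'))
        ∈ K := by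
      have e1 : algebraMap R S (IsLocalization.mk' R a (⟨t, htq⟩ : (q).primeCompl)) *
          algebraMap R S (algebraMap A R t) = algebraMap A' S (algebraMap A A' a) := by
        rw [← map_mul]
        have := IsLocalization.mk'_spec R a (⟨t, htq⟩ : (q).primeCompl)
        rw [this, ← IsScalarTower.algebraMap_apply A R S, IsScalarTower.algebraMap_apply A A' S]
      have e2 : IsLocalization.mk' S b u * algebraMap A' S (u : A') = algebraMap A' S b :=
        IsLocalization.mk'_spec S b u
      have e3 : algebraMap R S (algebraMap A R t) = algebraMap A' S (algebraMap A A' t) := by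
        rw [← IsScalarTower.algebraMap_apply A R S, IsScalarTower.algebraMap_apply A A' S]
      have : (algebraMap R S (IsLocalization.mk' R a (⟨t, htq⟩ : (q).primeCompl)) -
          IsLocalization.mk' S b u) *
          (algebraMap R S (algebraMap A R t) * algebraMap A' S (u : A')) =
          algebraMap A' S (algebraMap A A' a * y - x * algebraMap A A' t) := by
        have l1 : (algebraMap R S (IsLocalization.mk' R a (⟨t, htq⟩ : (q).primeCompl)) -
          IsLocalization.mk' S b u) *
          (algebraMap R S (algebraMap A R t) * algebraMap A' S (u : A')) =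
          (algebraMap R S (IsLocalization.mk' R a (⟨t, htq⟩ : (q).primeCompl)) *
            algebraMap R S (algebraMap A R t)) * algebraMap A' S (u : A') -
          (IsLocalization.mk' S b u * algebraMap A' S (u : A')) *
            algebraMap R S (algebraMap A R t) := by ring
        rw [l1, e1, e2, e3, ← map_mul, ← map_mul, ← map_sub]
        congr 1
        rw [hb]
        conv_lhs => rw [hu]
        ring
      rw [this]
      apply Ideal.mem_map_of_mem
      exact Ideal.sub_mem _ (Ideal.mul_mem_left _ _ hy) (Ideal.mul_mem_right _ _ hx)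
    exact (Ideal.mul_unit_mem_iff_mem _ (hu2.mul hu1)).mp key

end LocQB

section QBAdic

variable (A : Type u) [CommRing A] [IsNoetherianRing A] (I : Ideal A)

/-- `A/I ≅ Â/IÂ`. -/
theorem quotBij_adicCompletion : QuotBij A (AdicCompletion I A) I := by
  refine ⟨fun a ha => ?_, fun x => ?_⟩
  · have := Groth.Agent.H26.AdicComplMax.mem_of_algebraMap_mem_map_pow I I le_rfl 1 a
      (by rwa [pow_one])
    rwa [pow_one] at this
  · obtain ⟨a, ha⟩ := exists_sub_mem_map A I x
    refine ⟨a, ?_⟩
    have := (I.map (algebraMap A (AdicCompletion I A))).neg_mem ha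
    rwa [neg_sub] at this

end QBAdic

section Transfer

variable {A A' : Type u} [CommRing A] [CommRing A'] [Algebra A A'] [IsNoetherianRing A]
  [IsNoetherianRing A'] [Module.Flat A A'] (I : Ideal A) (Q : Ideal A') [Q.IsPrime]
  (M : Type u) [AddCommGroup M] [Module A M] [Module.Finite A M]
  (M' : Type u) [AddCommGroup M'] [Module A' M']

local notation "q" => Ideal.comap (algebraMap A A') Q
local notation "R" => Localization.AtPrime (Ideal.comap (algebraMap A A') Q)
local notation "S" => Localization.AtPrime Q
local notation "J1" =>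
  Ideal.map (algebraMap A (Localization.AtPrime (Ideal.comap (algebraMap A A') Q))) I
local notation "J2" =>
  Ideal.map (algebraMap A' (Localization.AtPrime Q)) (Ideal.map (algebraMap A A') I)
local notation "B'" => AdicCompletion J1 R
local notation "C" => AdicCompletion J2 S

/-- Condition (6) of the bootstrap setting transfers from `(A, q = Q ∩ A)` to `(A', Q)` when
`A → A'` is flat with `A/I ≅ A'/IA'` and `Q ⊇ IA'`. -/
theorem cond6_transfer (hQB : QuotBij A A' I) (hQ : I.map (algebraMap A A') ≤ Q)
    (e₀ : A' ⊗[A] M ≃ₗ[A'] M') (s : ℕ)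
    (h6 : ∀ p' : PrimeSpectrum B', ¬ I.map (algebraMap A B') ≤ p'.asIdeal →
      (∀ q' : PrimeSpectrum B', p' ≤ q' → I.map (algebraMap A B') ≤ q'.asIdeal →
        q'.asIdeal.IsMaximal) →
      (s : ℕ∞) < LocCoh.depth (Localization.AtPrime p'.asIdeal)
        (LocalizedModule p'.asIdeal.primeCompl
          (AdicCompletion J1 (LocalizedModule (q).primeCompl M))))
    (p'' : PrimeSpectrum C)
    (hp1 : ¬ (I.map (algebraMap A A')).map (algebraMap A' C) ≤ p''.asIdeal)
    (hp2 : ∀ q'' : PrimeSpectrum C, p'' ≤ q'' →
      (I.map (algebraMap A A')).map (algebraMap A' C) ≤ q''.asIdeal → q''.asIdeal.IsMaximal) :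
    (s : ℕ∞) < LocCoh.depth (Localization.AtPrime p''.asIdeal)
      (LocalizedModule p''.asIdeal.primeCompl
        (AdicCompletion J2 (LocalizedModule Q.primeCompl M'))) := by
  haveI : Q.LiesOver q := ⟨rfl⟩
  letI algRS := Localization.AtPrime.algebraOfLiesOver q Q
  haveI : Module.Finite A' M' := Module.Finite.equiv e₀
  haveI : IsNoetherianRing B' := Groth.Agent.Lead.RLR.isNoetherianRing_adicCompletion' R J1
  haveI : IsNoetherianRing C := Groth.Agent.Lead.RLR.isNoetherianRing_adicCompletion' S J2
  have hJ : J2 = Ideal.map (algebraMap R S) J1 := by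
    rw [Ideal.map_map, Ideal.map_map, ← IsScalarTower.algebraMap_eq,
      ← IsScalarTower.algebraMap_eq]
  have hφ := complMap_bijective_of_quotBij J1 J2 hJ (quotBij_localization I Q hQB hQ)
  set φ := FSch.complMap J1 J2 (algebraMap R S) hJ.ge with hφdef
  letI algBC : Algebra B' C := φ.toAlgebra
  have halg : ∀ x, algebraMap B' C x = φ x := fun _ => rfl
  haveI : IsScalarTower A B' C := .of_algebraMap_eq fun x => by
    rw [halg]
    show AdicCompletion.of J2 S (algebraMap A S x) =
      φ (AdicCompletion.of J1 R (algebraMap A R x))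
    rw [hφdef, complMap_of, ← IsScalarTower.algebraMap_apply A R S]
  haveI : IsScalarTower A A' C := .of_algebraMap_eq fun x => rfl
  have hφ' : Function.Bijective (algebraMap B' C) := hφ
  haveI : Module.Flat B' C :=
    Module.Flat.of_linearEquiv (LinearEquiv.ofBijective (Algebra.linearMap B' C) hφ').symm
  obtain ⟨e1⟩ := Groth.Agent.H44.ComplDepth.nonempty_complEquiv A I q M
  obtain ⟨e2⟩ := Groth.Agent.H44.ComplDepth.nonempty_complEquiv A' (I.map (algebraMap A A')) Q M'
  haveI : Module.Finite B' (AdicCompletion J1 (LocalizedModule (q).primeCompl M)) :=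
    Module.Finite.equiv e1
  let f1 : C ⊗[B'] (AdicCompletion J1 (LocalizedModule (q).primeCompl M)) ≃ₗ[C]
      C ⊗[B'] (B' ⊗[A] M) :=
    (AlgebraTensorModule.congr (LinearEquiv.refl C C) e1).symm
  let f2 : C ⊗[B'] (B' ⊗[A] M) ≃ₗ[C] C ⊗[A] M := AlgebraTensorModule.cancelBaseChange A B' C C M
  let f3 : C ⊗[A] M ≃ₗ[C] C ⊗[A'] (A' ⊗[A] M) :=
    (AlgebraTensorModule.cancelBaseChange A A' C C M).symm
  let f4 : C ⊗[A'] (A' ⊗[A] M) ≃ₗ[C] C ⊗[A'] M' :=
    AlgebraTensorModule.congr (LinearEquiv.refl C C) e₀
  let e : C ⊗[B'] (AdicCompletion J1 (LocalizedModule (q).primeCompl M)) ≃ₗ[C]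
      AdicCompletion J2 (LocalizedModule Q.primeCompl M') := f1 ≪≫ₗ f2 ≪≫ₗ f3 ≪≫ₗ f4 ≪≫ₗ e2
  have hIC : (I.map (algebraMap A A')).map (algebraMap A' C) =
      (I.map (algebraMap A B')).map (algebraMap B' C) := by
    rw [Ideal.map_map (algebraMap A A') (algebraMap A' C),
      Ideal.map_map (algebraMap A B') (algebraMap B' C), ← IsScalarTower.algebraMap_eq A A' C,
      ← IsScalarTower.algebraMap_eq A B' C]
  set p' : Ideal B' := p''.asIdeal.comap (algebraMap B' C) with hp'
  haveI : p'.IsPrime := Ideal.comap_isPrime _ _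
  have hmin : p''.asIdeal ∈ (p'.map (algebraMap B' C)).minimalPrimes := by
    rw [hp', Ideal.map_comap_of_surjective _ hφ'.2, Ideal.minimalPrimes_eq_subsingleton_self]
    exact Set.mem_singleton _
  have hdepth := Groth.Agent.H44.ComplDepth.depth_eq p' p''.asIdeal rfl
    (AdicCompletion J1 (LocalizedModule (q).primeCompl M))
    (AdicCompletion J2 (LocalizedModule Q.primeCompl M')) e hmin
  rw [hdepth]
  apply h6 ⟨p', inferInstance⟩
  · intro hle
    apply hp1
    rw [hIC]
    exact Ideal.map_le_iff_le_comap.mpr hle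
  · intro q' hq' hIq'
    let φe : B' ≃+* C := RingEquiv.ofBijective (algebraMap B' C) hφ'
    have hφe : ∀ x, φe x = algebraMap B' C x := fun _ => rfl
    let q'' : PrimeSpectrum C :=
      ⟨q'.asIdeal.comap (φe.symm : C →+* B'), Ideal.comap_isPrime _ _⟩
    have hq''c : q''.asIdeal.comap (algebraMap B' C) = q'.asIdeal := by
      ext x
      show φe.symm (algebraMap B' C x) ∈ q'.asIdeal ↔ _
      rw [← hφe, RingEquiv.symm_apply_apply]
    have h1 : p'' ≤ q'' := by
      intro y hy
      obtain ⟨x, rfl⟩ := hφ'.2 y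
      show φe.symm (algebraMap B' C x) ∈ q'.asIdeal
      rw [← hφe, RingEquiv.symm_apply_apply]
      exact hq' hy
    have h2 : (I.map (algebraMap A A')).map (algebraMap A' C) ≤ q''.asIdeal := by
      rw [hIC, Ideal.map_le_iff_le_comap, hq''c]
      exact hIq'
    haveI h3 := hp2 q'' h1 h2
    rw [← hq''c]
    exact Ideal.comap_isMaximal_of_surjective _ hφ'.2

end Transfer

end Groth.Agent.H23.Bootstrap
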