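import Mathlib
import Groth.Prelude.Def_CAlgX
import Groth.Agent.H23.AdicSplit
import Groth.Agent.H96.PSKaehler

/-!
# Formal projectivity of the module of differentials (EGA 0_IV 20.4.9)

If `A` is formally smooth over `k` for the `𝔫`-adic topology, then for every `n` the
`A ⧸ 𝔫ⁿ`-module `(A ⧸ 𝔫ⁿ) ⊗_A Ω_{A/k}` is projective.
-/

set_option autoImplicit false
set_option linter.style.haveILetI false
set_option linter.unusedSectionVars false
universe u

namespace Groth.Agent.H23.FormalProj

open TensorProduct KaehlerDifferential TrivSqZeroExt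

variable {k A : Type u} [CommRing k] [CommRing A] [Algebra k A]

/-- `1 ⊗ ω = 0` in `(A ⧸ I) ⊗ M` for `ω ∈ I M`. -/
theorem one_tmul_eq_zero_of_mem {M : Type*} [AddCommGroup M] [Module A M] (I : Ideal A) (ω : M)
    (hω : ω ∈ (I • ⊤ : Submodule A M)) : (1 : A ⧸ I) ⊗ₜ[A] ω = 0 := by
  induction hω using Submodule.smul_induction_on' with
  | smul a ha m _ =>
    rw [← TensorProduct.smul_tmul, Algebra.smul_def, mul_one, Ideal.Quotient.algebraMap_eq,
      Ideal.Quotient.eq_zero_iff_mem.mpr ha, TensorProduct.zero_tmul]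
  | add x _ y _ hx hy => rw [TensorProduct.tmul_add, hx, hy, add_zero]

theorem projective_baseChange_kaehler (𝔫 : Ideal A) (h : CAlgX.IsAdicFormallySmooth k A 𝔫)
    (n : ℕ) : Module.Projective (A ⧸ 𝔫 ^ n) ((A ⧸ 𝔫 ^ n) ⊗[A] Ω[A⁄k]) := by
  classical
  set C := A ⧸ 𝔫 ^ n with hC
  set P := C ⊗[A] Ω[A⁄k] with hP
  let πF : (P →₀ C) →ₗ[C] P := Finsupp.linearCombination C id
  have hπF : Function.Surjective πF := Finsupp.linearCombination_id_surjective C P
  -- algebra structures
  let algEP : Algebra k (TrivSqZeroExt C P) :=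
    ((algebraMap C (TrivSqZeroExt C P)).comp (algebraMap k C)).toAlgebra
  let algEF : Algebra k (TrivSqZeroExt C (P →₀ C)) :=
    ((algebraMap C (TrivSqZeroExt C (P →₀ C))).comp (algebraMap k C)).toAlgebra
  let d'' : A → P := fun a => (1 : C) ⊗ₜ[A] D k A a
  let ψ : A →ₐ[k] TrivSqZeroExt C P :=
    { toFun := fun a => inl (Ideal.Quotient.mk (𝔫 ^ n) a) + inr (d'' a)
      map_one' := by
        show inl (Ideal.Quotient.mk (𝔫 ^ n) 1) + inr ((1 : C) ⊗ₜ[A] D k A 1) = 1
        rw [Derivation.map_one_eq_zero, tmul_zero, inr_zero, add_zero, map_one]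
        rfl
      map_mul' := fun a b => by
        show inl (Ideal.Quotient.mk (𝔫 ^ n) (a * b)) + inr ((1 : C) ⊗ₜ[A] D k A (a * b)) =
          (inl (Ideal.Quotient.mk (𝔫 ^ n) a) + inr ((1 : C) ⊗ₜ[A] D k A a)) *
            (inl (Ideal.Quotient.mk (𝔫 ^ n) b) + inr ((1 : C) ⊗ₜ[A] D k A b))
        apply TrivSqZeroExt.ext
        · simp
        · rw [Derivation.leibniz, tmul_add, tmul_smul, tmul_smul]
          simp only [snd_add, snd_inl, snd_inr, zero_add, snd_mul, fst_add, fst_inl, fst_inr,
            add_zero, op_smul_eq_smul]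
          rw [← Ideal.Quotient.algebraMap_eq, algebraMap_smul, algebraMap_smul]
      map_zero' := by
        show inl (Ideal.Quotient.mk (𝔫 ^ n) 0) + inr ((1 : C) ⊗ₜ[A] D k A 0) = 0
        rw [map_zero (D k A), tmul_zero, inr_zero, add_zero, map_zero, inl_zero]
      map_add' := fun a b => by
        show inl (Ideal.Quotient.mk (𝔫 ^ n) (a + b)) + inr ((1 : C) ⊗ₜ[A] D k A (a + b)) =
          (inl (Ideal.Quotient.mk (𝔫 ^ n) a) + inr ((1 : C) ⊗ₜ[A] D k A a)) +
            (inl (Ideal.Quotient.mk (𝔫 ^ n) b) + inr ((1 : C) ⊗ₜ[A] D k A b))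
        rw [map_add (D k A), tmul_add, inr_add, map_add, inl_add]
        abel
      commutes' := fun r => by
        show inl (Ideal.Quotient.mk (𝔫 ^ n) (algebraMap k A r)) +
          inr ((1 : C) ⊗ₜ[A] D k A (algebraMap k A r)) = _
        rw [Derivation.map_algebraMap, tmul_zero, inr_zero, add_zero]
        rfl }
  have hψ : ∀ a, ψ a = inl (Ideal.Quotient.mk (𝔫 ^ n) a) + inr ((1 : C) ⊗ₜ[A] D k A a) :=
    fun a => rfl
  let πE : TrivSqZeroExt C (P →₀ C) →ₐ[k] TrivSqZeroExt C P :=
    { (TrivSqZeroExt.map πF).toRingHom with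
      commutes' := fun r => by
        show TrivSqZeroExt.map πF (inl (algebraMap k C r)) = inl (algebraMap k C r)
        rw [map_inl] }
  have hπE : ∀ z, πE z = TrivSqZeroExt.map πF z := fun z => rfl
  have hπEs : Function.Surjective πE := by
    intro z
    obtain ⟨f, hf⟩ := hπF z.snd
    refine ⟨inl z.fst + inr f, ?_⟩
    rw [hπE, map_add, map_inl, map_inr, hf, inl_fst_add_inr_snd_eq]
  have hπEk : RingHom.ker πE ^ 2 = ⊥ := by
    rw [eq_bot_iff, pow_two, Ideal.mul_le]
    intro z hz z' hz'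
    have h1 : z.fst = 0 := by
      have : πE z = 0 := hz
      have := congrArg TrivSqZeroExt.fst this
      rwa [hπE, fst_map, fst_zero] at this
    have h2 : z'.fst = 0 := by
      have : πE z' = 0 := hz'
      have := congrArg TrivSqZeroExt.fst this
      rwa [hπE, fst_map, fst_zero] at this
    rw [Ideal.mem_bot]
    apply TrivSqZeroExt.ext
    · simp [h1]
    · simp [h1, h2]
  have hk : ∀ x ∈ 𝔫 ^ (n + 1), ψ x = 0 := by
    intro x hx
    have hx1 : x ∈ 𝔫 ^ n := Ideal.pow_le_pow_right (Nat.le_succ n) hx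
    have hx2 := Groth.Agent.H96.PSKaehler.derivation_mem_pow_smul (D k A) 𝔫 n x hx
    rw [hψ, Ideal.Quotient.eq_zero_iff_mem.mpr hx1, inl_zero, zero_add,
      one_tmul_eq_zero_of_mem (𝔫 ^ n) _ hx2, inr_zero]
  obtain ⟨χ, hχ⟩ := Groth.Agent.H23.AdicSplit.liftProp_of_adic h _ _ πE hπEs hπEk ψ ⟨n + 1, hk⟩
  have hχb : ∀ a, TrivSqZeroExt.map πF (χ a) = ψ a := fun a => AlgHom.congr_fun hχ a
  have hχfst : ∀ a, (χ a).fst = Ideal.Quotient.mk (𝔫 ^ n) a := by
    intro a
    have := congrArg TrivSqZeroExt.fst (hχb a)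
    rwa [fst_map, hψ, fst_add, fst_inl, fst_inr, add_zero] at this
  have hχsnd : ∀ a, πF (χ a).snd = (1 : C) ⊗ₜ[A] D k A a := by
    intro a
    have := congrArg TrivSqZeroExt.snd (hχb a)
    rwa [snd_map, hψ, snd_add, snd_inl, snd_inr, zero_add] at this
  -- the derivation
  have hsmulk : ∀ (r : k) (a : A), (χ (r • a)).snd = r • (χ a).snd := by
    intro r a
    have h1 : χ (algebraMap k A r) = inl (algebraMap k C r) := χ.commutes r
    rw [Algebra.smul_def, map_mul, h1, snd_mul, fst_inl, snd_inl, smul_zero, add_zero,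
      algebraMap_smul]
  let d : Derivation k A (P →₀ C) :=
    Derivation.mk'
      { toFun := fun a => (χ a).snd
        map_add' := fun a b => by rw [map_add, snd_add]
        map_smul' := fun r a => by
          rw [hsmulk, RingHom.id_apply] }
      (fun a b => by
        show (χ (a * b)).snd = a • (χ b).snd + b • (χ a).snd
        rw [map_mul, snd_mul, hχfst, hχfst, op_smul_eq_smul, ← Ideal.Quotient.algebraMap_eq,
          algebraMap_smul, algebraMap_smul])
  have hd : ∀ a, d a = (χ a).snd := fun a => rfl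
  let σ : P →ₗ[C] (P →₀ C) := LinearMap.liftBaseChange C d.liftKaehlerDifferential
  refine Module.Projective.of_split σ πF ?_
  refine LinearMap.ext fun p => ?_
  induction p using TensorProduct.induction_on with
  | zero => rw [map_zero, map_zero]
  | add x y hx hy => rw [map_add, map_add, hx, hy]
  | tmul c ω =>
    have hω : ω ∈ Submodule.span A (Set.range (D k A)) := by
      rw [KaehlerDifferential.span_range_derivation]
      trivial
    induction hω using Submodule.span_induction generalizing c with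
    | mem y hy =>
      obtain ⟨a, rfl⟩ := hy
      show πF (σ (c ⊗ₜ[A] D k A a)) = c ⊗ₜ[A] D k A a
      rw [LinearMap.liftBaseChange_tmul, Derivation.liftKaehlerDifferential_comp_D, map_smul, hd,
        hχsnd, smul_tmul', smul_eq_mul, mul_one]
    | zero => rw [tmul_zero, map_zero, map_zero]
    | add y z _ _ hy hz => rw [tmul_add, map_add, map_add, hy c, hz c]
    | smul r y _ hy =>
      have : c ⊗ₜ[A] (r • y) = (r • c) ⊗ₜ[A] y := by
        rw [tmul_smul, smul_tmul']
      rw [this]
      exact hy (r • c)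

end Groth.Agent.H23.FormalProj
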