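import Mathlib
import Groth.Prelude.Def_CAlgX
import Groth.Agent.H2.FlatPow
import Groth.Agent.H44.AdicLemmas
import Groth.Agent.H23.FormalProj
import Groth.Agent.H23.ComplBaseChange

/-!
# Completed differentials of a formally smooth complete local algebra are free (EGA 0_IV 20.4.9 + 20.7)

`A` a complete Noetherian local ring, formally smooth over `k` for its adic topology, with
`κ ⊗_A Ω_{A/k}` finite dimensional over the residue field `κ`.  Then the `𝔪`-adic completion of
`Ω_{A/k}` is a finite free `A`-module of rank `dim_κ (κ ⊗_A Ω_{A/k})`.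
-/

set_option autoImplicit false
set_option linter.style.haveILetI false
set_option linter.unusedSectionVars false
universe u

namespace Groth.Agent.H23.ComplDiffFree

open IsLocalRing TensorProduct KaehlerDifferential

variable {k A : Type u} [CommRing k] [CommRing A] [IsLocalRing A] [IsNoetherianRing A]
  [Algebra k A] [IsAdicComplete (maximalIdeal A) A]

theorem main (hfs : CAlgX.IsAdicFormallySmooth k A (maximalIdeal A))
    (hfin : Module.Finite (ResidueField A) (ResidueField A ⊗[A] Ω[A⁄k])) :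
    Module.Finite A (AdicCompletion (maximalIdeal A) (Ω[A⁄k])) ∧
      Module.Free A (AdicCompletion (maximalIdeal A) (Ω[A⁄k])) ∧
      Module.finrank A (AdicCompletion (maximalIdeal A) (Ω[A⁄k])) =
        Module.finrank (ResidueField A) (ResidueField A ⊗[A] Ω[A⁄k]) := by
  have hfg : (maximalIdeal A).FG := (maximalIdeal A).fg_of_isNoetherianRing
  -- reduction modulo the maximal ideal
  haveI hfin' : Module.Finite (A ⧸ maximalIdeal A) ((A ⧸ maximalIdeal A) ⊗[A] Ω[A⁄k]) := hfin
  have hbK : Function.Bijective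
      ((AdicCompletion.of (maximalIdeal A) (Ω[A⁄k])).baseChange (A ⧸ maximalIdeal A)) :=
    Groth.Agent.H23.ComplBaseChange.bijective_baseChange_of (maximalIdeal A) (Ω[A⁄k]) hfg
      (maximalIdeal A) 1 (by rw [pow_one])
  let bK : (A ⧸ maximalIdeal A) ⊗[A] Ω[A⁄k] ≃ₗ[A ⧸ maximalIdeal A]
      (A ⧸ maximalIdeal A) ⊗[A] AdicCompletion (maximalIdeal A) (Ω[A⁄k]) :=
    LinearEquiv.ofBijective _ hbK
  haveI : Module.Finite (A ⧸ maximalIdeal A)
      ((A ⧸ maximalIdeal A) ⊗[A] AdicCompletion (maximalIdeal A) (Ω[A⁄k])) :=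
    Module.Finite.equiv bK
  haveI : Module.Finite A ((A ⧸ maximalIdeal A) ⊗[A] AdicCompletion (maximalIdeal A) (Ω[A⁄k])) :=
    Module.Finite.trans (A ⧸ maximalIdeal A) _
  haveI : Module.Finite A (AdicCompletion (maximalIdeal A) (Ω[A⁄k]) ⧸
      (maximalIdeal A • ⊤ : Submodule A (AdicCompletion (maximalIdeal A) (Ω[A⁄k])))) :=
    Module.Finite.equiv (TensorProduct.quotTensorEquivQuotSMul
        (AdicCompletion (maximalIdeal A) (Ω[A⁄k])) (maximalIdeal A))
  haveI : IsHausdorff (maximalIdeal A) (AdicCompletion (maximalIdeal A) (Ω[A⁄k])) :=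
    (AdicCompletion.isAdicComplete hfg).toIsHausdorff
  haveI hfinE : Module.Finite A (AdicCompletion (maximalIdeal A) (Ω[A⁄k])) :=
    Groth.Agent.H44.finite_of_finite_quotient (maximalIdeal A) _ inferInstance
  -- flatness
  haveI hflat : Module.Flat A (AdicCompletion (maximalIdeal A) (Ω[A⁄k])) := by
    refine Groth.Agent.H2.flat_of_flat_quotient_pow (R := A) (S := A) (maximalIdeal A) ?_ ?_
    · rw [Algebra.algebraMap_self, Ideal.map_id,
        IsLocalRing.jacobson_eq_maximalIdeal ⊥ bot_ne_top]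
    · intro n _
      haveI : Module.Projective (A ⧸ maximalIdeal A ^ n) ((A ⧸ maximalIdeal A ^ n) ⊗[A] Ω[A⁄k]) :=
        Groth.Agent.H23.FormalProj.projective_baseChange_kaehler (maximalIdeal A) hfs n
      have hb : Function.Bijective
          ((AdicCompletion.of (maximalIdeal A) (Ω[A⁄k])).baseChange (A ⧸ maximalIdeal A ^ n)) :=
        Groth.Agent.H23.ComplBaseChange.bijective_baseChange_of (maximalIdeal A) (Ω[A⁄k]) hfg
          (maximalIdeal A ^ n) n le_rfl
      exact Module.Flat.of_linearEquiv (LinearEquiv.ofBijective _ hb).symm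
  haveI hfree : Module.Free A (AdicCompletion (maximalIdeal A) (Ω[A⁄k])) :=
    Module.free_of_flat_of_isLocalRing
  refine ⟨hfinE, hfree, ?_⟩
  have h1 : Module.finrank (A ⧸ maximalIdeal A)
      ((A ⧸ maximalIdeal A) ⊗[A] AdicCompletion (maximalIdeal A) (Ω[A⁄k])) =
      Module.finrank A (AdicCompletion (maximalIdeal A) (Ω[A⁄k])) :=
    Module.finrank_baseChange
  have h2 : Module.finrank (A ⧸ maximalIdeal A) ((A ⧸ maximalIdeal A) ⊗[A] Ω[A⁄k]) =
      Module.finrank (A ⧸ maximalIdeal A)
        ((A ⧸ maximalIdeal A) ⊗[A] AdicCompletion (maximalIdeal A) (Ω[A⁄k])) := bK.finrank_eq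
  rw [← h1, ← h2]
  rfl

end Groth.Agent.H23.ComplDiffFree
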