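import Mathlib
import Groth.Prelude.Def_EGA41

/-!
# The imperfection module and the residue field of a local algebra (core lemmas for EGA 0_IV 22.2.6)

For a local `k`-algebra `A` with a surjection `A → K` onto a field (so `K` is the residue field):

* `injective_lTensor_iff`: injectivity of `f.lTensor (ResidueField A)` is injectivity of `f.lTensor K`;
* `resAlgEquiv`: `ResidueField A ≃ₐ[k] K`;
* `mapBaseChange_lTensor`: the composite `K ⊗ (A ⊗ Ω_k) → K ⊗ Ω_A → Ω_K` is `K ⊗ Ω_k → Ω_K`;
* `finite_imperfection`: if `K ⊗ Ω_k → K ⊗ Ω_A` is injective and `A` is Noetherian, `Υ_{K/k}` is finite;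
* `injective_lTensor_of_detect`: if a derivation `D₀ : A → Kⁿ` restricts on `k` to a linear map
  `δ : K ⊗ Ω_k → Kⁿ` injective on `Υ_{K/k}`, then `K ⊗ Ω_k → K ⊗ Ω_A` is injective.
-/

set_option autoImplicit false
set_option linter.style.haveILetI false
set_option linter.unusedSectionVars false
universe u

namespace Groth.Agent.H23.ImperfCore

open IsLocalRing TensorProduct KaehlerDifferential

section Transfer

variable {A K : Type u} [CommRing A] [IsLocalRing A] [Field K] [Algebra A K]

/-- the residue field is `K`, `A`-linearly. -/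
noncomputable def resEquiv (hπ : Function.Surjective (algebraMap A K)) : ResidueField A ≃ₗ[A] K :=
  haveI : IsLocalHom (algebraMap A K) := IsLocalHom.of_surjective _ hπ
  LinearEquiv.ofBijective
    { toFun := ResidueField.lift (algebraMap A K)
      map_add' := map_add _
      map_smul' := fun a x => by
        rw [Algebra.smul_def, map_mul, RingHom.id_apply, Algebra.smul_def,
          IsLocalRing.ResidueField.algebraMap_eq, ResidueField.lift_residue_apply] }
    ⟨RingHom.injective _, fun y => by
      obtain ⟨a, rfl⟩ := hπ y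
      exact ⟨residue A a, ResidueField.lift_residue_apply _ a⟩⟩

theorem injective_lTensor_iff (hπ : Function.Surjective (algebraMap A K))
    {M N : Type*} [AddCommGroup M] [Module A M] [AddCommGroup N] [Module A N] (f : M →ₗ[A] N) :
    Function.Injective (f.lTensor (ResidueField A)) ↔ Function.Injective (f.lTensor K) := by
  let e := resEquiv hπ
  have hcomm : (e.rTensor N).toLinearMap ∘ₗ f.lTensor (ResidueField A) =
      f.lTensor K ∘ₗ (e.rTensor M).toLinearMap := by
    rw [LinearEquiv.coe_rTensor, LinearEquiv.coe_rTensor, LinearMap.rTensor_comp_lTensor,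
      LinearMap.lTensor_comp_rTensor]
  have h1 : Function.Injective (f.lTensor (ResidueField A)) ↔
      Function.Injective ((e.rTensor N).toLinearMap ∘ₗ f.lTensor (ResidueField A)) := by
    rw [LinearMap.coe_comp]
    exact (Function.Injective.of_comp_iff (e.rTensor N).injective _).symm
  have h2 : Function.Injective (f.lTensor K ∘ₗ (e.rTensor M).toLinearMap) ↔
      Function.Injective (f.lTensor K) := by
    rw [LinearMap.coe_comp]
    exact Function.Injective.of_comp_iff' _ (e.rTensor M).bijective
  rw [h1, hcomm, h2]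

end Transfer

section Core

variable {k A K : Type u} [Field k] [CommRing A] [IsLocalRing A] [Algebra k A] [Field K]
  [Algebra k K] [Algebra A K] [IsScalarTower k A K]

/-- the residue field is `K`, as `k`-algebras. -/
noncomputable def resAlgEquiv (hπ : Function.Surjective (algebraMap A K)) :
    ResidueField A ≃ₐ[k] K :=
  haveI : IsLocalHom (algebraMap A K) := IsLocalHom.of_surjective _ hπ
  AlgEquiv.ofBijective
    { toRingHom := ResidueField.lift (algebraMap A K)
      commutes' := fun x => by
        show ResidueField.lift (algebraMap A K) (algebraMap k (ResidueField A) x) = _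
        rw [IsScalarTower.algebraMap_apply k A (ResidueField A),
          IsLocalRing.ResidueField.algebraMap_eq, ResidueField.lift_residue_apply,
          ← IsScalarTower.algebraMap_apply] }
    ⟨RingHom.injective _, fun y => by
      obtain ⟨a, rfl⟩ := hπ y
      exact ⟨residue A a, ResidueField.lift_residue_apply _ a⟩⟩

/-- induction principle for `K ⊗[A] (A ⊗[k] Ω[k⁄ℤ])`. -/
theorem gen_induction {motive : K ⊗[A] (A ⊗[k] Ω[k⁄ℤ]) → Prop}
    (zero : motive 0) (add : ∀ s t, motive s → motive t → motive (s + t))
    (gen : ∀ (a : K) (b : A) (x : k), motive (a ⊗ₜ[A] (b ⊗ₜ[k] D ℤ k x))) :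
    ∀ t, motive t := by
  have key : ∀ ω : Ω[k⁄ℤ], ∀ (a : K) (b : A), motive (a ⊗ₜ[A] (b ⊗ₜ[k] ω)) := by
    intro ω
    have hω : ω ∈ Submodule.span k (Set.range (D ℤ k)) := by
      rw [KaehlerDifferential.span_range_derivation]
      trivial
    induction hω using Submodule.span_induction with
    | mem y hy =>
      obtain ⟨x, rfl⟩ := hy
      exact fun a b => gen a b x
    | zero =>
      intro a b
      rw [tmul_zero, tmul_zero]
      exact zero
    | add y z _ _ hy hz =>
      intro a b
      rw [tmul_add, tmul_add]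
      exact add _ _ (hy a b) (hz a b)
    | smul r y _ hy =>
      intro a b
      have : b ⊗ₜ[k] (r • y) = (r • b) ⊗ₜ[k] y := by
        rw [tmul_smul, smul_tmul']
      rw [this]
      exact hy a (r • b)
  intro t
  induction t using TensorProduct.induction_on with
  | zero => exact zero
  | add s t hs ht => exact add _ _ hs ht
  | tmul a s =>
    induction s using TensorProduct.induction_on with
    | zero =>
      rw [tmul_zero]
      exact zero
    | add s t hs ht =>
      rw [tmul_add]
      exact add _ _ hs ht
    | tmul b ω => exact key ω a b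

/-- the composite `K ⊗ (A ⊗ Ω_k) → K ⊗ Ω_A → Ω_K` is `K ⊗ Ω_k → Ω_K`. -/
theorem mapBaseChange_lTensor (t : K ⊗[A] (A ⊗[k] Ω[k⁄ℤ])) :
    mapBaseChange ℤ A K ((mapBaseChange ℤ k A).lTensor K t) =
      mapBaseChange ℤ k K (AlgebraTensorModule.cancelBaseChange k A K K (Ω[k⁄ℤ]) t) := by
  induction t using gen_induction with
  | zero => simp
  | add s t hs ht => rw [map_add, map_add, map_add, map_add, hs, ht]
  | gen a b x =>
    rw [LinearMap.lTensor_tmul, mapBaseChange_tmul, mapBaseChange_tmul, map_smul, map_D, map_D,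
      AlgebraTensorModule.cancelBaseChange_tmul, mapBaseChange_tmul, map_D,
      ← IsScalarTower.algebraMap_apply, ← algebraMap_smul K b ((D ℤ K) ((algebraMap k K) x)),
      smul_smul, Algebra.smul_def b a, mul_comm]

/-- (⇒) If `K ⊗ Ω_k → K ⊗ Ω_A` is injective and `A` is Noetherian, `Υ_{K/k}` is finite. -/
theorem finite_imperfection [IsNoetherianRing A] (hπ : Function.Surjective (algebraMap A K))
    (hinj : Function.Injective ((mapBaseChange ℤ k A).lTensor K)) :
    Module.Finite K (EGA41.imperfection ℤ k K) := by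
  let W : Submodule K (K ⊗[A] Ω[A⁄ℤ]) := LinearMap.ker (mapBaseChange ℤ A K)
  have hex := KaehlerDifferential.exact_kerCotangentToTensor_mapBaseChange ℤ A K hπ
  -- `W` is finite over `A`
  let q : (RingHom.ker (algebraMap A K)).Cotangent →ₗ[A] (W.restrictScalars A) :=
    LinearMap.codRestrict (W.restrictScalars A) (kerCotangentToTensor ℤ A K) (fun x => by
      show (kerCotangentToTensor ℤ A K) x ∈ W
      rw [LinearMap.mem_ker]
      exact (hex _).mpr ⟨x, rfl⟩)
  have hq : Function.Surjective q := by
    rintro ⟨w, hw⟩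
    have hw' : mapBaseChange ℤ A K w = 0 := hw
    obtain ⟨x, hx⟩ := (hex w).mp hw'
    exact ⟨x, Subtype.ext hx⟩
  haveI hfC : Module.Finite A (RingHom.ker (algebraMap A K)).Cotangent :=
    Module.Finite.of_surjective (RingHom.ker (algebraMap A K)).toCotangent
      (Ideal.toCotangent_surjective _)
  haveI hfA : Module.Finite A (W.restrictScalars A) := Module.Finite.of_surjective q hq
  haveI hfK : Module.Finite K W := by
    haveI : Module.Finite A W :=
      Module.Finite.equiv ((Submodule.restrictScalarsEquiv A K _ W).restrictScalars A)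
    exact Module.Finite.of_restrictScalars_finite A K W
  -- the injection of the imperfection module into `W`
  let c := AlgebraTensorModule.cancelBaseChange k A K K (Ω[k⁄ℤ])
  let ι : K ⊗[A] (A ⊗[k] Ω[k⁄ℤ]) →ₗ[K] K ⊗[A] Ω[A⁄ℤ] :=
    (mapBaseChange ℤ k A).baseChange K
  have hι : (ι : _ → _) = (mapBaseChange ℤ k A).lTensor K := LinearMap.baseChange_eq_ltensor _
  let j : EGA41.imperfection ℤ k K →ₗ[K] W :=
    LinearMap.codRestrict W (ι ∘ₗ c.symm.toLinearMap ∘ₗ (EGA41.imperfection ℤ k K).subtype)
      (fun u => by
        show mapBaseChange ℤ A K (ι (c.symm u)) = 0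
        rw [hι, mapBaseChange_lTensor, LinearEquiv.apply_symm_apply]
        exact u.2)
  have hj : Function.Injective j := by
    intro u v huv
    have h1 : ι (c.symm u) = ι (c.symm v) := congrArg Subtype.val huv
    rw [hι] at h1
    exact Subtype.ext (c.symm.injective (hinj h1))
  haveI : IsNoetherian K W := isNoetherian_of_isNoetherianRing_of_finite K W
  exact Module.Finite.of_injective j hj

/-- (⇐) If a derivation `D₀ : A → Kⁿ` restricts on `k` to a linear map `δ : K ⊗ Ω_k → Kⁿ`
injective on `Υ_{K/k}`, then `K ⊗ Ω_k → K ⊗ Ω_A` is injective. -/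
theorem injective_lTensor_of_detect {n : ℕ}
    (D₀ : Derivation ℤ A (Fin n → K)) (δ : K ⊗[k] Ω[k⁄ℤ] →ₗ[K] (Fin n → K))
    (hD : ∀ x : k, D₀ (algebraMap k A x) = δ ((1 : K) ⊗ₜ[k] D ℤ k x))
    (hδ : ∀ u ∈ EGA41.imperfection ℤ k K, δ u = 0 → u = 0) :
    Function.Injective ((mapBaseChange ℤ k A).lTensor K) := by
  let c := AlgebraTensorModule.cancelBaseChange k A K K (Ω[k⁄ℤ])
  let Φ₂ : K ⊗[A] Ω[A⁄ℤ] →ₗ[K] (Fin n → K) :=
    LinearMap.liftBaseChange K D₀.liftKaehlerDifferential
  have claim2 : ∀ t, Φ₂ ((mapBaseChange ℤ k A).lTensor K t) = δ (c t) := by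
    intro t
    induction t using gen_induction with
    | zero => simp
    | add s t hs ht => rw [map_add, map_add, map_add, map_add, hs, ht]
    | gen a b x =>
      rw [LinearMap.lTensor_tmul, mapBaseChange_tmul, map_D, LinearMap.liftBaseChange_tmul,
        map_smul, Derivation.liftKaehlerDifferential_comp_D, hD,
        AlgebraTensorModule.cancelBaseChange_tmul]
      have : (b • a) ⊗ₜ[k] D ℤ k x = (b • a) • ((1 : K) ⊗ₜ[k] D ℤ k x) := by
        rw [smul_tmul', smul_eq_mul, mul_one]
      rw [this, map_smul, smul_assoc]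
      rw [smul_comm]
  rw [injective_iff_map_eq_zero]
  intro t ht
  have h1 : c t ∈ EGA41.imperfection ℤ k K := by
    show mapBaseChange ℤ k K (c t) = 0
    rw [← mapBaseChange_lTensor, ht, map_zero]
  have h2 : δ (c t) = 0 := by rw [← claim2, ht, map_zero]
  exact c.map_eq_zero_iff.mp (hδ _ h1 h2)

end Core

end Groth.Agent.H23.ImperfCore
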