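import Mathlib
import Groth.Prelude.Def_EGA41
import Groth.Agent.H13.AdicTower
import Groth.Agent.H20.CoeffField
import Groth.Agent.H47.CoeffFieldP
import Groth.Agent.H96.CartierMain
import Groth.Agent.H23.ImperfCore

/-!
# The rank of `κ ⊗ Ω_{A/k₀}` for a formally smooth complete local `k₀`-algebra

`finrank_eq`: for `A` a complete Noetherian local `k₀`-algebra (`k₀` a field), formally smooth over
`k₀` for its adic topology, with residue field `κ` finitely generated over `k₀`:
`dim_κ (κ ⊗_A Ω_{A/k₀}) = dim_κ (𝔪/𝔪²) + trdeg_{k₀} κ`.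
-/

set_option autoImplicit false
set_option linter.style.haveILetI false
set_option linter.unusedSectionVars false
universe u

namespace Groth.Agent.H23.ComplDiffRank

open IsLocalRing TensorProduct KaehlerDifferential

section Count

variable {K U Vz V OZ Ok Cot : Type*} [Field K]
  [AddCommGroup U] [Module K U] [AddCommGroup Vz] [Module K Vz] [AddCommGroup V] [Module K V]
  [AddCommGroup OZ] [Module K OZ] [AddCommGroup Ok] [Module K Ok] [AddCommGroup Cot] [Module K Cot]

/-- the dimension count behind EGA 0_IV 20.7.? -/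
theorem finrank_count (ι : U →ₗ[K] Vz) (p : Vz →ₗ[K] V) (cz : Cot →ₗ[K] Vz) (Φz : Vz →ₗ[K] OZ)
    (Φ : V →ₗ[K] Ok) (u : U →ₗ[K] OZ)
    (hι : Function.Injective ι) (hcz : Function.Injective cz)
    (hιp : LinearMap.range ι = LinearMap.ker p)
    (hczΦz : LinearMap.range cz = LinearMap.ker Φz)
    (hqΦ : LinearMap.range (p ∘ₗ cz) = LinearMap.ker Φ) (hΦ : Function.Surjective Φ)
    (hu : Φz ∘ₗ ι = u)
    [Module.Finite K Cot] [Module.Finite K Ok] :
    Module.Finite K V ∧ Module.Finite K (LinearMap.ker u) ∧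
      Module.finrank K V + Module.finrank K (LinearMap.ker u) =
        Module.finrank K Cot + Module.finrank K Ok := by
  set q := p ∘ₗ cz with hq
  -- `cz (ker q) = ι (ker u)`
  have hmap : (LinearMap.ker q).map cz = (LinearMap.ker u).map ι := by
    ext x
    constructor
    · rintro ⟨y, hy, rfl⟩
      have h1 : cz y ∈ LinearMap.ker p := hy
      rw [← hιp] at h1
      obtain ⟨t, ht⟩ := h1
      refine ⟨t, ?_, ht⟩
      show u t = 0
      rw [← hu, LinearMap.comp_apply, ht]
      have : cz y ∈ LinearMap.range cz := ⟨y, rfl⟩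
      rw [hczΦz] at this
      exact this
    · rintro ⟨t, ht, rfl⟩
      have h1 : ι t ∈ LinearMap.ker Φz := by
        rw [LinearMap.mem_ker, ← LinearMap.comp_apply, hu]
        exact ht
      rw [← hczΦz] at h1
      obtain ⟨y, hy⟩ := h1
      refine ⟨y, ?_, hy⟩
      show q y = 0
      rw [hq, LinearMap.comp_apply, hy]
      have : ι t ∈ LinearMap.range ι := ⟨t, rfl⟩
      rw [hιp] at this
      exact this
  have e1 : LinearMap.ker q ≃ₗ[K] (LinearMap.ker q).map cz :=
    Submodule.equivMapOfInjective cz hcz _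
  have e2 : LinearMap.ker u ≃ₗ[K] (LinearMap.ker u).map ι :=
    Submodule.equivMapOfInjective ι hι _
  have e3 : LinearMap.ker q ≃ₗ[K] LinearMap.ker u :=
    e1.trans ((LinearEquiv.ofEq _ _ hmap).trans e2.symm)
  haveI : Module.Finite K (LinearMap.ker u) := Module.Finite.equiv e3
  have h1 : Module.finrank K (LinearMap.range q) + Module.finrank K (LinearMap.ker q) =
      Module.finrank K Cot := LinearMap.finrank_range_add_finrank_ker q
  haveI : Module.Finite K (LinearMap.ker Φ) := by
    rw [← hqΦ]
    infer_instance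
  haveI : Module.Finite K V :=
    Module.Finite.of_exact (f := (LinearMap.ker Φ).subtype) (g := Φ)
      (fun y => by
        constructor
        · intro hy
          exact ⟨⟨y, hy⟩, rfl⟩
        · rintro ⟨z, rfl⟩
          exact z.2) hΦ
  have h2 : Module.finrank K (LinearMap.range Φ) + Module.finrank K (LinearMap.ker Φ) =
      Module.finrank K V := LinearMap.finrank_range_add_finrank_ker Φ
  have h3 : Module.finrank K (LinearMap.range Φ) = Module.finrank K Ok := by
    rw [LinearMap.range_eq_top.mpr hΦ, finrank_top]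
  have h4 : Module.finrank K (LinearMap.ker Φ) = Module.finrank K (LinearMap.range q) := by
    rw [hqΦ]
  have h5 : Module.finrank K (LinearMap.ker q) = Module.finrank K (LinearMap.ker u) :=
    e3.finrank_eq
  refine ⟨inferInstance, inferInstance, ?_⟩
  omega

end Count

section Coeff

/-- a coefficient field of a complete local ring containing a field. -/
theorem exists_coeffField (R : Type u) [CommRing R] [IsLocalRing R]
    [IsAdicComplete (maximalIdeal R) R] (k₀ : Type u) [Field k₀] [Algebra k₀ R] :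
    ∃ s : ResidueField R →+* R, (residue R).comp s = RingHom.id _ := by
  obtain h0 | ⟨p, hp, hpk⟩ := CharP.exists' k₀
  · haveI : CharZero (ResidueField R) :=
      charZero_of_injective_algebraMap (algebraMap k₀ (ResidueField R)).injective
    exact Groth.Agent.H20.coeffField R
  · haveI := hp
    haveI : CharP R p := charP_of_injective_algebraMap (algebraMap k₀ R).injective p
    exact Groth.Agent.H47.exists_coeffField_charP p R

end Coeff

section Main

variable {k₀ A : Type u} [Field k₀] [CommRing A] [IsLocalRing A] [IsNoetherianRing A]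
  [Algebra k₀ A]

local notation "K" => ResidueField A

theorem algebraMap_residue_surjective : Function.Surjective (algebraMap A K) :=
  Ideal.Quotient.mk_surjective

theorem ker_algebraMap_residue : RingHom.ker (algebraMap A K) = maximalIdeal A := by
  rw [IsLocalRing.ResidueField.algebraMap_eq]
  exact IsLocalRing.ker_residue

/-- the conormal map `𝔪/𝔪² → κ ⊗ Ω_{A/ℤ}` is injective when there is a coefficient field. -/
theorem kerCotangentToTensor_injective (s : K →+* A) (hs : (residue A).comp s = RingHom.id _) :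
    Function.Injective (kerCotangentToTensor ℤ A K) := by
  let g : K →ₐ[ℤ] A ⧸ RingHom.ker (IsScalarTower.toAlgHom ℤ A K).toRingHom ^ 2 :=
    (Ideal.Quotient.mkₐ ℤ _).comp s.toIntAlgHom
  have hg : (IsScalarTower.toAlgHom ℤ A K).kerSquareLift.comp g = AlgHom.id ℤ K := by
    ext x
    show (IsScalarTower.toAlgHom ℤ A K).kerSquareLift (Ideal.Quotient.mk _ (s x)) = x
    rw [AlgHom.kerSquareLift_mk]
    exact RingHom.congr_fun hs x
  obtain ⟨l, hl⟩ :=
    (retractionKerCotangentToTensorEquivSection (R := ℤ) (P := A) (S := K)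
      algebraMap_residue_surjective).symm ⟨g, hg⟩
  intro x y hxy
  have := congrArg l hxy
  rwa [← LinearMap.comp_apply, ← LinearMap.comp_apply, hl] at this

/-- naturality of the conormal map in the base ring -/
theorem baseChange_map_kerCotangentToTensor
    (x : (RingHom.ker (algebraMap A K)).Cotangent) :
    (KaehlerDifferential.map ℤ k₀ A A).baseChange K (kerCotangentToTensor ℤ A K x) =
      kerCotangentToTensor k₀ A K x := by
  obtain ⟨y, rfl⟩ := Ideal.toCotangent_surjective _ x
  rw [kerCotangentToTensor_toCotangent, kerCotangentToTensor_toCotangent,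
    LinearMap.baseChange_tmul, map_D]
  rfl

theorem finrank_eq [IsAdicComplete (maximalIdeal A) A]
    (hfs : CAlgX.IsAdicFormallySmooth k₀ A (maximalIdeal A)) [Algebra.EssFiniteType k₀ K] :
    Module.Finite K (K ⊗[A] Ω[A⁄k₀]) ∧
      Module.finrank K (K ⊗[A] Ω[A⁄k₀]) =
        Module.finrank K (CotangentSpace A) + Cardinal.toNat (Algebra.trdeg k₀ K) := by
  obtain ⟨s, hs⟩ := exists_coeffField A k₀
  have hπ := algebraMap_residue_surjective (A := A)
  -- the maps
  let ι : K ⊗[A] (A ⊗[k₀] Ω[k₀⁄ℤ]) →ₗ[K] K ⊗[A] Ω[A⁄ℤ] := (mapBaseChange ℤ k₀ A).baseChange K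
  have hιc : (ι : _ → _) = (mapBaseChange ℤ k₀ A).lTensor K := LinearMap.baseChange_eq_ltensor _
  let p : K ⊗[A] Ω[A⁄ℤ] →ₗ[K] K ⊗[A] Ω[A⁄k₀] := (KaehlerDifferential.map ℤ k₀ A A).baseChange K
  have hpc : (p : _ → _) = (KaehlerDifferential.map ℤ k₀ A A).lTensor K :=
    LinearMap.baseChange_eq_ltensor _
  let e := Ideal.Cotangent.equivOfEq (maximalIdeal A) (RingHom.ker (algebraMap A K))
    ker_algebraMap_residue.symm
  let cz : CotangentSpace A →ₗ[K] K ⊗[A] Ω[A⁄ℤ] :=
    ((kerCotangentToTensor ℤ A K) ∘ₗ e.toLinearMap).extendScalarsOfSurjective hπ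
  have hczc : ∀ x, cz x = kerCotangentToTensor ℤ A K (e x) := fun x => rfl
  let Φz : K ⊗[A] Ω[A⁄ℤ] →ₗ[K] Ω[K⁄ℤ] := mapBaseChange ℤ A K
  let Φ : K ⊗[A] Ω[A⁄k₀] →ₗ[K] Ω[K⁄k₀] := mapBaseChange k₀ A K
  let c := AlgebraTensorModule.cancelBaseChange k₀ A K K (Ω[k₀⁄ℤ])
  let u : K ⊗[A] (A ⊗[k₀] Ω[k₀⁄ℤ]) →ₗ[K] Ω[K⁄ℤ] := Φz ∘ₗ ι
  -- the hypotheses of the count
  have hι : Function.Injective ι := by
    rw [hιc]
    exact Groth.Agent.H13.AdicTower.injective_of_adic hfs
  have hcz : Function.Injective cz := by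
    intro x y hxy
    rw [hczc, hczc] at hxy
    exact e.injective (kerCotangentToTensor_injective s hs hxy)
  have hιp : LinearMap.range ι = LinearMap.ker p := by
    have hex := lTensor_exact K (KaehlerDifferential.exact_mapBaseChange_map ℤ k₀ A)
      (KaehlerDifferential.map_surjective ℤ k₀ A)
    ext x
    rw [LinearMap.mem_range, LinearMap.mem_ker]
    have h1 := hex x
    rw [← hpc, ← hιc] at h1
    exact h1.symm
  have hczΦz : LinearMap.range cz = LinearMap.ker Φz := by
    have hex := KaehlerDifferential.exact_kerCotangentToTensor_mapBaseChange ℤ A K hπ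
    ext x
    rw [LinearMap.mem_range, LinearMap.mem_ker]
    constructor
    · rintro ⟨y, rfl⟩
      exact (hex _).mpr ⟨e y, rfl⟩
    · intro hx
      obtain ⟨y, hy⟩ := (hex x).mp hx
      exact ⟨e.symm y, by rw [hczc, LinearEquiv.apply_symm_apply, hy]⟩
  have hqΦ : LinearMap.range (p ∘ₗ cz) = LinearMap.ker Φ := by
    have hex := KaehlerDifferential.exact_kerCotangentToTensor_mapBaseChange k₀ A K hπ
    ext x
    rw [LinearMap.mem_range, LinearMap.mem_ker]
    constructor
    · rintro ⟨y, rfl⟩
      rw [LinearMap.comp_apply, hczc, baseChange_map_kerCotangentToTensor]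
      exact (hex _).mpr ⟨e y, rfl⟩
    · intro hx
      obtain ⟨y, hy⟩ := (hex x).mp hx
      refine ⟨e.symm y, ?_⟩
      rw [LinearMap.comp_apply, hczc, LinearEquiv.apply_symm_apply,
        baseChange_map_kerCotangentToTensor, hy]
  have hΦ : Function.Surjective Φ := KaehlerDifferential.mapBaseChange_surjective k₀ A K hπ
  obtain ⟨hC1, hC2, hC3⟩ := Groth.Agent.H96.Cartier.cartier k₀ K
  haveI := hC1
  haveI := hC2
  obtain ⟨h1, h2, h3⟩ := finrank_count ι p cz Φz Φ u hι hcz hιp hczΦz hqΦ hΦ rfl
  -- `ker u` is the imperfection module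
  have hu : ∀ t, u t = mapBaseChange ℤ k₀ K (c t) := by
    intro t
    show mapBaseChange ℤ A K (ι t) = _
    rw [hιc]
    exact Groth.Agent.H23.ImperfCore.mapBaseChange_lTensor t
  have hker : (LinearMap.ker u).map c.toLinearMap = EGA41.imperfection ℤ k₀ K := by
    ext x
    constructor
    · rintro ⟨t, ht, rfl⟩
      show mapBaseChange ℤ k₀ K (c t) = 0
      rw [← hu]
      exact ht
    · intro hx
      refine ⟨c.symm x, ?_, c.apply_symm_apply x⟩
      show u (c.symm x) = 0
      rw [hu, LinearEquiv.apply_symm_apply]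
      exact hx
  have h4 : Module.finrank K (LinearMap.ker u) =
      Module.finrank K (EGA41.imperfection ℤ k₀ K) := by
    rw [← hker]
    exact (c.submoduleMap (LinearMap.ker u)).finrank_eq
  refine ⟨h1, ?_⟩
  rw [h4] at h3
  have h3' : Module.finrank K (K ⊗[A] Ω[A⁄k₀]) + Module.finrank K (EGA41.imperfection ℤ k₀ K) =
      Module.finrank K (CotangentSpace A) + Module.finrank K (Ω[K⁄k₀]) := h3
  have hC3' : (Module.finrank K (Ω[K⁄k₀]) : ℤ) - Module.finrank K (EGA41.imperfection ℤ k₀ K) =
      Cardinal.toNat (Algebra.trdeg k₀ K) := hC3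
  clear h3 hC3 h4
  omega

end Main

end Groth.Agent.H23.ComplDiffRank
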