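import Mathlib
import Groth.Agent.H61.DefAlg.FlatColon

/-!
# Ratliff's theorem, part 1: general lemmas

* `eq_or_eq_maximalIdeal_of_ringKrullDim_quotient_le_one`: in a local ring, primes above a prime `Q`
  with `dim R/Q ≤ 1`.
* `exists_idempotent_of_minimal_of_maximal`: a prime of a Noetherian ring that is both minimal and
  maximal is cut out by an idempotent.
* `mem_inf_smul_top_of_flat`, `mem_colonList_smul_top_of_flat`: flatness and finite intersections /
  colons.
* `exists_sub_mem_map_of_forall_smul_mem`: the gluing lemma.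
* `exists_pow_le_of_forall_isPrime`: an ideal of a Noetherian local ring contained in no prime other
  than the maximal ideal contains a power of the maximal ideal.
-/

set_option autoImplicit false
universe u

open TensorProduct

namespace Groth.Agent.H23.Ratliff

open IsLocalRing

/-- In a local ring, if `R ⧸ Q` has dimension at most one, every prime above `Q` is `Q` or the
maximal ideal. -/
theorem eq_or_eq_maximalIdeal_of_ringKrullDim_quotient_le_one {R : Type*} [CommRing R]
    [IsLocalRing R] (Q : Ideal R) [Q.IsPrime] (hd : ringKrullDim (R ⧸ Q) ≤ 1)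
    (P : Ideal R) [P.IsPrime] (hQP : Q ≤ P) : P = Q ∨ P = maximalIdeal R := by
  by_contra hcon
  push Not at hcon
  obtain ⟨h1, h2⟩ := hcon
  have hPm : P < maximalIdeal R :=
    lt_of_le_of_ne (IsLocalRing.le_maximalIdeal (Ideal.IsPrime.ne_top ‹_›)) h2
  have hQP' : Q < P := lt_of_le_of_ne hQP (Ne.symm h1)
  have hmQ : Q ≤ maximalIdeal R := hQP.trans hPm.le
  let f := Ideal.Quotient.mk Q
  have hsurj : Function.Surjective f := Ideal.Quotient.mk_surjective
  have hker : RingHom.ker f = Q := Ideal.mk_ker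
  have hPp : (P.map f).IsPrime := Ideal.map_isPrime_of_surjective hsurj (by rw [hker]; exact hQP)
  have hmp : ((maximalIdeal R).map f).IsPrime :=
    Ideal.map_isPrime_of_surjective hsurj (by rw [hker]; exact hmQ)
  have hcm : ∀ {c : Ideal R}, Q ≤ c → (c.map f).comap f = c := by
    intro c hc
    rw [Ideal.comap_map_of_surjective _ hsurj, ← RingHom.ker_eq_comap_bot, hker, sup_eq_left.mpr hc]
  have hlt1 : P.map f < (maximalIdeal R).map f := by
    refine lt_of_le_of_ne (Ideal.map_mono hPm.le) fun heq => ?_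
    have := congrArg (Ideal.comap f) heq
    rw [hcm hQP, hcm hmQ] at this
    exact hPm.ne this
  have hlt0 : (⊥ : Ideal (R ⧸ Q)) < P.map f := by
    rw [bot_lt_iff_ne_bot]
    intro heq
    have := congrArg (Ideal.comap f) heq
    rw [hcm hQP, ← RingHom.ker_eq_comap_bot, hker] at this
    exact hQP'.ne this.symm
  have hbp : (⊥ : Ideal (R ⧸ Q)).IsPrime := Ideal.isPrime_bot
  have hh1 : (1 : ℕ∞) ≤ (P.map f).height := by
    have := Ideal.height_add_one_le_of_lt_of_isPrime hlt0
    exact le_trans (by simp) this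
  have hh2 : (2 : ℕ∞) ≤ ((maximalIdeal R).map f).height := by
    have := Ideal.height_add_one_le_of_lt_of_isPrime hlt1
    refine le_trans ?_ this
    calc (2 : ℕ∞) = 1 + 1 := by norm_num
      _ ≤ (P.map f).height + 1 := by gcongr
  have hh3 : (((maximalIdeal R).map f).height : WithBot ℕ∞) ≤ ringKrullDim (R ⧸ Q) :=
    Ideal.height_le_ringKrullDim_of_ne_top hmp.ne_top
  have : ((2 : ℕ∞) : WithBot ℕ∞) ≤ 1 := (WithBot.coe_le_coe.mpr hh2).trans (hh3.trans hd)
  have h21 : (2 : ℕ∞) ≤ 1 := by exact_mod_cast this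
  exact absurd h21 (by decide)

/-- In a Noetherian ring, a prime which is both minimal and maximal is cut out by an idempotent. -/
theorem exists_idempotent_of_minimal_of_maximal {T : Type*} [CommRing T] [IsNoetherianRing T]
    (q : Ideal T) (hmin : q ∈ minimalPrimes T) (hmax : q.IsMaximal) :
    ∃ e : T, IsIdempotentElem e ∧ e ∉ q ∧ ∀ (P : Ideal T), P.IsPrime → P ≠ q → e ∈ P := by
  have hqp : q.IsPrime := hmin.1.1
  let x : PrimeSpectrum T := ⟨q, hqp⟩
  have hclosed : IsClosed ({x} : Set (PrimeSpectrum T)) :=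
    (PrimeSpectrum.isClosed_singleton_iff_isMaximal x).mpr hmax
  have hfin : (minimalPrimes T).Finite := minimalPrimes.finite_of_isNoetherianRing (R := T)
  have hcompl : ({x} : Set (PrimeSpectrum T))ᶜ =
      ⋃ p ∈ (minimalPrimes T \ {q}), PrimeSpectrum.zeroLocus (p : Set T) := by
    ext y
    simp only [Set.mem_compl_iff, Set.mem_singleton_iff, Set.mem_iUnion,
      PrimeSpectrum.mem_zeroLocus, SetLike.coe_subset_coe, exists_prop]
    constructor
    · intro hy
      obtain ⟨p, hp, hpy⟩ := Ideal.exists_minimalPrimes_le (bot_le : (⊥ : Ideal T) ≤ y.asIdeal)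
      refine ⟨p, ⟨hp, ?_⟩, hpy⟩
      intro hpq
      rw [Set.mem_singleton_iff] at hpq
      rw [hpq] at hpy
      have : q = y.asIdeal := hmax.eq_of_le y.2.ne_top hpy
      exact hy (PrimeSpectrum.ext this.symm)
    · rintro ⟨p, ⟨hp, hpq⟩, hpy⟩ hyx
      rw [hyx] at hpy
      have : p = q := le_antisymm hpy (hmin.2 ⟨hp.1.1, bot_le⟩ hpy)
      exact hpq this
  have hopen : IsOpen ({x} : Set (PrimeSpectrum T)) := by
    rw [← isClosed_compl_iff, hcompl]
    exact Set.Finite.isClosed_biUnion (hfin.subset Set.sdiff_subset)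
      (fun p _ => PrimeSpectrum.isClosed_zeroLocus _)
  obtain ⟨e, he, hs⟩ := PrimeSpectrum.exists_idempotent_basicOpen_eq_of_isClopen ⟨hclosed, hopen⟩
  refine ⟨e, he, ?_, ?_⟩
  · have : x ∈ (PrimeSpectrum.basicOpen e : Set (PrimeSpectrum T)) := by
      rw [← hs]; exact Set.mem_singleton x
    exact this
  · intro P hP hPq
    by_contra heP
    have : (⟨P, hP⟩ : PrimeSpectrum T) ∈ (PrimeSpectrum.basicOpen e : Set (PrimeSpectrum T)) := heP
    rw [← hs, Set.mem_singleton_iff] at this
    exact hPq (congrArg PrimeSpectrum.asIdeal this)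

/-- An ideal of a Noetherian local ring which is contained in no prime other than the maximal
ideal contains a power of the maximal ideal. -/
theorem exists_pow_le_of_forall_isPrime {R : Type*} [CommRing R] [IsLocalRing R]
    [IsNoetherianRing R] (J : Ideal R)
    (h : ∀ P : Ideal R, P.IsPrime → J ≤ P → P = maximalIdeal R) :
    ∃ k : ℕ, maximalIdeal R ^ k ≤ J := by
  apply Ideal.exists_pow_le_of_le_radical_of_fg _ (Ideal.fg_of_isNoetherianRing _)
  rw [Ideal.radical_eq_sInf]
  refine le_sInf ?_
  rintro P ⟨hJP, hP⟩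
  rw [h P hP hJP]

open Groth.Agent.H61.DefAlg

section FlatInf

variable {A : Type*} [CommRing A] {M : Type*} [AddCommGroup M] [Module A M]

/-- For a flat module, `IM ∩ JM = (I ∩ J)M`. -/
theorem mem_inf_smul_top_of_flat [Module.Flat A M] (I J : Ideal A) (y : M)
    (hI : y ∈ I • (⊤ : Submodule A M)) (hJ : y ∈ J • (⊤ : Submodule A M)) :
    y ∈ (I ⊓ J) • (⊤ : Submodule A M) := by
  let μ : (A ⧸ (I ⊓ J)) →ₗ[A] (A ⧸ I) × (A ⧸ J) :=
    LinearMap.prod (Submodule.mapQ (I ⊓ J) I LinearMap.id inf_le_left)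
      (Submodule.mapQ (I ⊓ J) J LinearMap.id inf_le_right)
  have hμ : Function.Injective μ := by
    rw [← LinearMap.ker_eq_bot, eq_bot_iff]
    intro x hx
    obtain ⟨a, rfl⟩ := Submodule.Quotient.mk_surjective _ x
    rw [LinearMap.mem_ker] at hx
    have hx' : ((Submodule.Quotient.mk a : A ⧸ I), (Submodule.Quotient.mk a : A ⧸ J)) = 0 := hx
    rw [Prod.mk_eq_zero, Submodule.Quotient.mk_eq_zero, Submodule.Quotient.mk_eq_zero] at hx'
    rw [Submodule.mem_bot, Submodule.Quotient.mk_eq_zero]
    exact ⟨hx'.1, hx'.2⟩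
  have hinj : Function.Injective (μ.rTensor M) :=
    Module.Flat.rTensor_preserves_injective_linearMap μ hμ
  rw [← one_tmul_eq_zero_iff]
  apply hinj
  rw [map_zero, LinearMap.rTensor_tmul]
  apply (TensorProduct.prodLeft A A (A ⧸ I) (A ⧸ J) M).injective
  rw [map_zero]
  have h1 : μ (1 : A ⧸ (I ⊓ J)) = ((1 : A ⧸ I), (1 : A ⧸ J)) := rfl
  rw [h1, TensorProduct.prodLeft_tmul, Prod.mk_eq_zero]
  exact ⟨(one_tmul_eq_zero_iff I y).mpr hI, (one_tmul_eq_zero_iff J y).mpr hJ⟩

/-- The colon of an ideal by a list of elements. -/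
def colonList (I : Ideal A) : List A → Ideal A
  | [] => ⊤
  | a :: L => colon I a ⊓ colonList I L

theorem mul_mem_of_mem_colonList (I : Ideal A) (L : List A) (v : A) (hv : v ∈ colonList I L)
    (a : A) (ha : a ∈ L) : a * v ∈ I := by
  induction L with
  | nil => simp at ha
  | cons b L ih =>
    rcases List.mem_cons.mp ha with rfl | h
    · exact hv.1
    · exact ih hv.2 h

theorem mem_colonList_smul_top_of_flat [Module.Flat A M] (I : Ideal A) (L : List A) (y : M)
    (h : ∀ a ∈ L, a • y ∈ I • (⊤ : Submodule A M)) :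
    y ∈ colonList I L • (⊤ : Submodule A M) := by
  induction L with
  | nil =>
    change y ∈ (⊤ : Ideal A) • (⊤ : Submodule A M)
    rw [Submodule.top_smul]
    exact Submodule.mem_top
  | cons b L ih =>
    exact mem_inf_smul_top_of_flat _ _ y
      (mem_colon_smul_top_of_flat I b y (h b List.mem_cons_self))
      (ih fun a ha => h a (List.mem_cons_of_mem _ ha))

end FlatInf

section Glue

variable {A : Type*} [CommRing A] {B : Type*} [CommRing B] [Algebra A B]

/-- Gluing lemma: `B` flat over `A`, `𝔞` a finitely generated ideal such that `A → B/𝔞B` is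
surjective. If `𝔞 c ⊆ I B` then `c ∈ A + I B`. -/
theorem exists_sub_mem_map_of_forall_smul_mem [Module.Flat A B] (I 𝔞 : Ideal A) (h𝔞 : 𝔞.FG)
    (hdense : ∀ b : B, ∃ y : A, b - algebraMap A B y ∈ 𝔞.map (algebraMap A B)) (c : B)
    (hc : ∀ a ∈ 𝔞, algebraMap A B a * c ∈ I.map (algebraMap A B)) :
    ∃ u : A, c - algebraMap A B u ∈ I.map (algebraMap A B) := by
  classical
  obtain ⟨S, hS⟩ := h𝔞
  let L : List A := S.toList
  have hL : ∀ a ∈ L, a ∈ 𝔞 := by
    intro a ha
    rw [← hS]
    exact Ideal.subset_span (Finset.mem_coe.mpr (Finset.mem_toList.mp ha))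
  have hmem : ∀ (J : Ideal A) (x : B),
      x ∈ J • (⊤ : Submodule A B) ↔ x ∈ J.map (algebraMap A B) := by
    intro J x
    rw [Ideal.smul_top_eq_map]
    rfl
  have h1 : c ∈ colonList I L • (⊤ : Submodule A B) := by
    apply mem_colonList_smul_top_of_flat
    intro a ha
    rw [hmem, Algebra.smul_def]
    exact hc a (hL a ha)
  have hv𝔞 : ∀ v ∈ colonList I L, ∀ a ∈ 𝔞, a * v ∈ I := by
    intro v hv a ha
    rw [← hS] at ha
    refine Submodule.span_induction (p := fun a _ => a * v ∈ I) ?_ ?_ ?_ ?_ ha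
    · intro a ha
      exact mul_mem_of_mem_colonList I L v hv a (Finset.mem_toList.mpr (Finset.mem_coe.mp ha))
    · simp
    · intro x y _ _ hx hy
      rw [add_mul]; exact I.add_mem hx hy
    · intro r x _ hx
      rw [smul_eq_mul, mul_assoc]; exact I.mul_mem_left r hx
  refine Submodule.smul_induction_on (p := fun c => ∃ u : A, c - algebraMap A B u ∈
    I.map (algebraMap A B)) h1 ?_ ?_
  · intro v hv b _
    obtain ⟨y, hy⟩ := hdense b
    refine ⟨v * y, ?_⟩
    have : v • b - algebraMap A B (v * y) = algebraMap A B v * (b - algebraMap A B y) := by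
      rw [Algebra.smul_def, map_mul]; ring
    rw [this]
    have key : ∀ z ∈ 𝔞.map (algebraMap A B), algebraMap A B v * z ∈ I.map (algebraMap A B) := by
      intro z hz
      refine Submodule.span_induction (p := fun z _ => algebraMap A B v * z ∈
        I.map (algebraMap A B)) ?_ ?_ ?_ ?_ hz
      · rintro _ ⟨a, ha, rfl⟩
        rw [← map_mul, mul_comm]
        exact Ideal.mem_map_of_mem _ (hv𝔞 v hv a ha)
      · simp
      · intro x y _ _ hx hy
        rw [mul_add]; exact Ideal.add_mem _ hx hy
      · intro r x _ hx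
        rw [smul_eq_mul, mul_left_comm]; exact Ideal.mul_mem_left _ r hx
    exact key _ hy
  · rintro x y ⟨u, hu⟩ ⟨w, hw⟩
    refine ⟨u + w, ?_⟩
    have : x + y - algebraMap A B (u + w) = (x - algebraMap A B u) + (y - algebraMap A B w) := by
      rw [map_add]; ring
    rw [this]
    exact Ideal.add_mem _ hu hw

end Glue

end Groth.Agent.H23.Ratliff
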