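import Mathlib
import Groth.Agent.H23.Ratliff1
import Groth.Agent.H72.FormalEquidim
import Groth.Agent.H57.CLoc

set_option autoImplicit false
set_option linter.unusedSectionVars false
set_option linter.style.haveILetI false
universe u

open TensorProduct IsLocalRing

namespace Groth.Agent.H23.Ratliff

section Setup

variable (A : Type u) [CommRing A] [IsDomain A] [IsNoetherianRing A] [IsLocalRing A]

attribute [local instance] Algebra.TensorProduct.rightAlgebra

/-- The completion of `A`. -/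
noncomputable abbrev Ah := AdicCompletion (maximalIdeal A) A
/-- The generic fibre ring `K ⊗ Â`. -/
noncomputable abbrev TT := FractionRing A ⊗[A] Ah A
/-- The image of `A ∖ 0` in `Â`. -/
noncomputable abbrev MM : Submonoid (Ah A) :=
  Algebra.algebraMapSubmonoid (Ah A) (nonZeroDivisors A)

theorem isLocalization_TT : IsLocalization (MM A) (TT A) :=
  (Algebra.isLocalization_iff_isPushout (nonZeroDivisors A) (FractionRing A)).mpr inferInstance

theorem MM_le : MM A ≤ nonZeroDivisors (Ah A) := by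
  rintro _ ⟨s, hs, rfl⟩
  rw [← isRegular_iff_mem_nonZeroDivisors, ← isLeftRegular_iff_isRegular]
  have h := Module.Flat.isSMulRegular_of_nonZeroDivisors (M := Ah A) hs
  intro x y hxy
  apply h
  simpa only [Algebra.smul_def] using hxy

theorem algebraMap_TT_injective : Function.Injective (algebraMap (Ah A) (TT A)) :=
  haveI := isLocalization_TT A
  IsLocalization.injective (TT A) (MM_le A)

/-- Stage 1 of the base case: the idempotent. -/
theorem exists_idempotent (hm : maximalIdeal A ≠ ⊥) (Q : Ideal (Ah A))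
    (hQ : Q ∈ minimalPrimes (Ah A)) (hd : ringKrullDim (Ah A ⧸ Q) ≤ 1) :
    haveI := Groth.Agent.H72.FormalEquidim.isLocalRing_compl A
    ∃ (e : TT A) (q : Ideal (TT A)) (k : ℕ), IsIdempotentElem e ∧ q.IsPrime ∧
      q.comap (algebraMap (Ah A) (TT A)) = Q ∧ e ∉ q ∧
      (∀ a ∈ maximalIdeal A ^ k, ∃ c : Ah A,
        algebraMap (Ah A) (TT A) (algebraMap A (Ah A) a) * e = algebraMap (Ah A) (TT A) c) ∧
      (∀ P : Ideal (Ah A), P.IsPrime →
        (∀ x : Ah A, algebraMap (Ah A) (TT A) x * e = 0 → x ∈ P) →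
          P = Q ∨ P = maximalIdeal (Ah A)) := by
  haveI := Groth.Agent.H72.FormalEquidim.isLocalRing_compl A
  haveI := Groth.Agent.H72.FormalEquidim.isNoetherianRing_compl A
  haveI hlh := Groth.Agent.H72.FormalEquidim.isLocalHom_compl A
  haveI hloc := isLocalization_TT A
  haveI hTN : IsNoetherianRing (TT A) := IsLocalization.isNoetherianRing (MM A) (TT A) inferInstance
  have hQp : Q.IsPrime := hQ.1.1
  -- `Q` is disjoint from `M`
  have hdisj : Disjoint (MM A : Set (Ah A)) (Q : Set (Ah A)) :=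
    Disjoint.mono_left (MM_le A) (Ideal.disjoint_nonZeroDivisors_of_mem_minimalPrimes hQ).symm
  let q : Ideal (TT A) := Q.map (algebraMap (Ah A) (TT A))
  have hqp : q.IsPrime := IsLocalization.isPrime_of_isPrime_disjoint (MM A) (TT A) Q hQp hdisj
  have hqc : q.comap (algebraMap (Ah A) (TT A)) = Q :=
    IsLocalization.under_map_of_isPrime_disjoint (MM A) (TT A) hQp hdisj
  -- `q` is a minimal prime
  have hqmin : q ∈ minimalPrimes (TT A) := by
    refine ⟨⟨hqp, bot_le⟩, ?_⟩
    rintro P ⟨hP, -⟩ hPq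
    have h1 : P.comap (algebraMap (Ah A) (TT A)) ≤ Q := by
      rw [← hqc]; exact Ideal.comap_mono hPq
    have h2 : Q ≤ P.comap (algebraMap (Ah A) (TT A)) :=
      hQ.2 ⟨Ideal.comap_isPrime _ _, bot_le⟩ h1
    have h3 := IsLocalization.map_under (MM A) (TT A) P
    rw [Ideal.under_def] at h3
    rw [← h3]
    exact Ideal.map_mono h2
  -- a nonzero element of the maximal ideal
  obtain ⟨a₀, ha₀m, ha₀⟩ := Submodule.exists_mem_ne_zero_of_ne_bot hm
  have ha₀M : algebraMap A (Ah A) a₀ ∈ MM A :=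
    ⟨a₀, mem_nonZeroDivisors_of_ne_zero ha₀, rfl⟩
  have hmle : (maximalIdeal A).map (algebraMap A (Ah A)) ≤ maximalIdeal (Ah A) :=
    ((IsLocalRing.local_hom_TFAE (algebraMap A (Ah A))).out 0 2).mp hlh
  have ha₀h : algebraMap A (Ah A) a₀ ∈ maximalIdeal (Ah A) :=
    hmle (Ideal.mem_map_of_mem _ ha₀m)
  -- `q` is maximal
  have hqmax : q.IsMaximal := by
    obtain ⟨𝔪, h𝔪, hq𝔪⟩ := Ideal.exists_le_maximal q hqp.ne_top
    have h𝔪p : 𝔪.IsPrime := h𝔪.isPrime
    have hP : (𝔪.comap (algebraMap (Ah A) (TT A))).IsPrime := Ideal.comap_isPrime _ _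
    have hQP : Q ≤ 𝔪.comap (algebraMap (Ah A) (TT A)) := by
      rw [← hqc]; exact Ideal.comap_mono hq𝔪
    rcases eq_or_eq_maximalIdeal_of_ringKrullDim_quotient_le_one Q hd _ hQP with h | h
    · have h3 := IsLocalization.map_under (MM A) (TT A) 𝔪
      rw [Ideal.under_def, h] at h3
      have : 𝔪 = q := h3.symm
      rw [← this]; exact h𝔪
    · exfalso
      have h1 : algebraMap (Ah A) (TT A) (algebraMap A (Ah A) a₀) ∈ 𝔪 := by
        have : algebraMap A (Ah A) a₀ ∈ 𝔪.comap (algebraMap (Ah A) (TT A)) := by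
          rw [h]; exact ha₀h
        exact this
      have h2 : IsUnit (algebraMap (Ah A) (TT A) (algebraMap A (Ah A) a₀)) :=
        IsLocalization.map_units (TT A) (⟨_, ha₀M⟩ : MM A)
      exact h𝔪.ne_top (Ideal.eq_top_of_isUnit_mem _ h1 h2)
  obtain ⟨e, he, heq, hother⟩ := exists_idempotent_of_minimal_of_maximal q hqmin hqmax
  have he1 : e * (1 - e) = 0 := by
    rw [mul_sub, mul_one, he.eq, sub_self]
  -- primes containing the annihilator of `e`
  have hI₁ : ∀ P : Ideal (Ah A), P.IsPrime →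
      (∀ x : Ah A, algebraMap (Ah A) (TT A) x * e = 0 → x ∈ P) →
        P = Q ∨ P = maximalIdeal (Ah A) := by
    intro P hP hann
    refine eq_or_eq_maximalIdeal_of_ringKrullDim_quotient_le_one Q hd P ?_
    intro x hx
    have hnil : algebraMap (Ah A) (TT A) x * e ∈ nilradical (TT A) := by
      rw [nilradical_eq_sInf, Ideal.mem_sInf]
      intro P' hP'
      by_cases hP'q : P' = q
      · rw [hP'q]
        exact Ideal.mul_mem_right _ _ (Ideal.mem_map_of_mem _ hx)
      · exact Ideal.mul_mem_left _ _ (hother P' hP' hP'q)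
    obtain ⟨N, hN⟩ := hnil
    have h2 : algebraMap (Ah A) (TT A) (x ^ (N + 1)) * e = 0 := by
      have : (algebraMap (Ah A) (TT A) x * e) ^ (N + 1) = 0 := by
        rw [pow_succ, hN, zero_mul]
      rw [mul_pow, he.pow_succ_eq, ← map_pow] at this
      exact this
    exact hP.mem_of_pow_mem _ (hann _ h2)
  -- an element of the annihilator of `1 - e` outside `Q`
  obtain ⟨⟨c, s⟩, hcs⟩ := IsLocalization.surj (MM A) e
  simp only at hcs
  have hcI₂ : algebraMap (Ah A) (TT A) c * (1 - e) = 0 := by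
    rw [← hcs, mul_right_comm, he1, zero_mul]
  have hcQ : c ∉ Q := by
    intro hc
    have h1 : e * algebraMap (Ah A) (TT A) (s : Ah A) ∈ q := by
      rw [hcs]; exact Ideal.mem_map_of_mem _ hc
    rcases hqp.mem_or_mem h1 with h | h
    · exact heq h
    · have : (s : Ah A) ∈ Q := by rw [← hqc]; exact h
      exact Set.disjoint_left.mp hdisj s.2 this
  -- the sum of the two annihilators is primary to the maximal ideal
  let I₁ : Ideal (Ah A) := (Submodule.span (Ah A) {e}).annihilator
  let I₂ : Ideal (Ah A) := (Submodule.span (Ah A) {1 - e}).annihilator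
  have hmemI₁ : ∀ x : Ah A, x ∈ I₁ ↔ algebraMap (Ah A) (TT A) x * e = 0 := by
    intro x
    rw [Submodule.mem_annihilator_span_singleton, Algebra.smul_def]
  have hmemI₂ : ∀ x : Ah A, x ∈ I₂ ↔ algebraMap (Ah A) (TT A) x * (1 - e) = 0 := by
    intro x
    rw [Submodule.mem_annihilator_span_singleton, Algebra.smul_def]
  obtain ⟨k, hk⟩ := exists_pow_le_of_forall_isPrime (I₁ ⊔ I₂) (by
    intro P hP hJP
    rcases hI₁ P hP (fun x hx => hJP (Ideal.mem_sup_left ((hmemI₁ x).mpr hx))) with h | h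
    · exfalso
      have : c ∈ P := hJP (Ideal.mem_sup_right ((hmemI₂ c).mpr hcI₂))
      rw [h] at this
      exact hcQ this
    · exact h)
  refine ⟨e, q, k, he, hqp, hqc, heq, ?_, hI₁⟩
  intro a ha
  have h1 : algebraMap A (Ah A) a ∈ maximalIdeal (Ah A) ^ k := by
    have h2 := hmle
    have h3 := Ideal.mem_map_of_mem (algebraMap A (Ah A)) ha
    rw [Ideal.map_pow] at h3
    exact Ideal.pow_right_mono h2 k h3
  obtain ⟨y₁, hy₁, y₂, hy₂, hy⟩ := Submodule.mem_sup.mp (hk h1)
  refine ⟨y₂, ?_⟩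
  rw [← hy, map_add, add_mul, (hmemI₁ y₁).mp hy₁, zero_add]
  have := (hmemI₂ y₂).mp hy₂
  rw [mul_sub, mul_one, sub_eq_zero] at this
  exact this.symm

/-- Stage 2 of the base case: an element of `K ⊗ Â` which is multiplied into `Â` by a power of the
maximal ideal differs from an element of `K` by an element of `Â`. -/
theorem exists_eq_add_of_pow_mul (e : TT A) (k : ℕ)
    (hk : ∀ a ∈ maximalIdeal A ^ k, ∃ c : Ah A,
      algebraMap (Ah A) (TT A) (algebraMap A (Ah A) a) * e = algebraMap (Ah A) (TT A) c) :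
    ∃ (x : FractionRing A) (c : Ah A),
      e = algebraMap (FractionRing A) (TT A) x + algebraMap (Ah A) (TT A) c := by
  haveI hloc := isLocalization_TT A
  obtain ⟨⟨c₀, s'⟩, hcs⟩ := IsLocalization.surj (MM A) e
  simp only at hcs
  obtain ⟨s, hs, hss'⟩ := s'.2
  have h1 : ∀ a ∈ maximalIdeal A ^ k,
      algebraMap A (Ah A) a * c₀ ∈ (Ideal.span {s}).map (algebraMap A (Ah A)) := by
    intro a ha
    obtain ⟨ca, hca⟩ := hk a ha
    have h2 : algebraMap (Ah A) (TT A) (algebraMap A (Ah A) a * c₀) =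
        algebraMap (Ah A) (TT A) (ca * (s' : Ah A)) := by
      rw [map_mul, map_mul, ← hcs, ← hca]; ring
    rw [algebraMap_TT_injective A h2, Ideal.map_span, Set.image_singleton,
      Ideal.mem_span_singleton']
    exact ⟨ca, by rw [hss']⟩
  obtain ⟨u, hu⟩ := exists_sub_mem_map_of_forall_smul_mem (Ideal.span {s}) (maximalIdeal A ^ k)
    (Ideal.fg_of_isNoetherianRing _)
    (fun b => Groth.Agent.H57.CLoc.exists_sub_algebraMap_mem (maximalIdeal A)
      (Ideal.fg_of_isNoetherianRing (maximalIdeal A)) k b) c₀ h1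
  rw [Ideal.map_span, Set.image_singleton, Ideal.mem_span_singleton'] at hu
  obtain ⟨c'', hc''⟩ := hu
  refine ⟨IsLocalization.mk' (FractionRing A) u ⟨s, hs⟩, c'', ?_⟩
  have hunit : IsUnit (algebraMap (Ah A) (TT A) (s' : Ah A)) := IsLocalization.map_units _ s'
  apply hunit.mul_left_injective
  change e * algebraMap (Ah A) (TT A) (s' : Ah A) = (_ + _) * algebraMap (Ah A) (TT A) (s' : Ah A)
  rw [hcs, add_mul]
  have h3 : algebraMap (Ah A) (TT A) (s' : Ah A) =
      algebraMap (FractionRing A) (TT A) (algebraMap A (FractionRing A) s) := by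
    rw [← hss', ← IsScalarTower.algebraMap_apply, ← IsScalarTower.algebraMap_apply]
  have h4 : algebraMap (FractionRing A) (TT A) (IsLocalization.mk' (FractionRing A) u ⟨s, hs⟩) *
      algebraMap (Ah A) (TT A) (s' : Ah A) = algebraMap (Ah A) (TT A) (algebraMap A (Ah A) u) := by
    rw [h3, ← map_mul, IsLocalization.mk'_spec, ← IsScalarTower.algebraMap_apply,
      ← IsScalarTower.algebraMap_apply]
  rw [h4, ← map_mul, ← map_add, ← hss', hc'']
  congr 1
  ring

end Setup

end Groth.Agent.H23.Ratliff
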