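import Mathlib
import Groth.Agent.H23.Ratliff2
import Groth.Agent.H23.CutoffFinite

set_option autoImplicit false
set_option linter.unusedSectionVars false
set_option linter.style.haveILetI false
universe u

open TensorProduct IsLocalRing

namespace Groth.Agent.H23.Ratliff

section Base

variable (A : Type u) [CommRing A] [IsDomain A] [IsNoetherianRing A] [IsLocalRing A]

attribute [local instance] Algebra.TensorProduct.rightAlgebra

/-- `B ⊗_A C` is finite over `C` (for the right algebra structure). -/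
theorem finite_tensor_right {R : Type*} [CommRing R] (B C : Type*) [CommRing B] [CommRing C]
    [Algebra R B] [Algebra R C] [Module.Finite R B] : Module.Finite C (B ⊗[R] C) := by
  refine Module.Finite.of_equiv_equiv (A₁ := C) (B₁ := C ⊗[R] B)
    (RingEquiv.refl _) (Algebra.TensorProduct.comm R C B).toRingEquiv ?_
  ext x
  simp [Algebra.TensorProduct.right_algebraMap_apply]

set_option backward.isDefEq.respectTransparency false in
/-- The base case of Ratliff's theorem: a universally catenary Noetherian local domain whose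
completion has a component of dimension at most one has dimension at most one. -/
theorem ringKrullDim_le_one_of_quotient_le_one (hUC : CAlg.IsUniversallyCatenary A)
    (Q : Ideal (Ah A)) (hQ : Q ∈ minimalPrimes (Ah A)) (hd : ringKrullDim (Ah A ⧸ Q) ≤ 1) :
    ringKrullDim A ≤ 1 := by
  haveI := Groth.Agent.H72.FormalEquidim.isLocalRing_compl A
  haveI := Groth.Agent.H72.FormalEquidim.isNoetherianRing_compl A
  haveI hlh := Groth.Agent.H72.FormalEquidim.isLocalHom_compl A
  by_cases hm : maximalIdeal A = ⊥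
  · have hf : IsField A := IsLocalRing.isField_iff_maximalIdeal_eq.mpr hm
    rw [ringKrullDim_eq_zero_of_isField hf]
    exact zero_le_one
  obtain ⟨e, q, k, he, hqp, hqc, heq, hk, hI₁⟩ := exists_idempotent A hm Q hQ hd
  obtain ⟨x, c, hxc⟩ := exists_eq_add_of_pow_mul A e k hk
  have he1 : e * (1 - e) = 0 := by
    rw [mul_sub, mul_one, he.eq, sub_self]
  have hinjT := algebraMap_TT_injective A
  haveI hff : Module.FaithfullyFlat A (Ah A) := Module.FaithfullyFlat.of_flat_of_isLocalHom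
  -- the subring `Â[e]`
  let R' : Subalgebra (Ah A) (TT A) := Algebra.adjoin (Ah A) {e}
  have heR' : e ∈ R' := Algebra.subset_adjoin (Set.mem_singleton e)
  have hR' : ∀ r ∈ R', ∃ α β : Ah A,
      r = algebraMap (Ah A) (TT A) α + algebraMap (Ah A) (TT A) β * e := by
    intro r hr
    refine Algebra.adjoin_induction (p := fun r _ => ∃ α β : Ah A,
      r = algebraMap (Ah A) (TT A) α + algebraMap (Ah A) (TT A) β * e) ?_ ?_ ?_ ?_ hr
    · intro y hy
      rw [Set.mem_singleton_iff] at hy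
      exact ⟨0, 1, by rw [hy]; simp⟩
    · intro α
      exact ⟨α, 0, by simp⟩
    · rintro _ _ _ _ ⟨α, β, rfl⟩ ⟨α', β', rfl⟩
      exact ⟨α + α', β + β', by rw [map_add, map_add]; ring⟩
    · rintro _ _ _ _ ⟨α, β, rfl⟩ ⟨α', β', rfl⟩
      refine ⟨α * α', α * β' + β * α' + β * β', ?_⟩
      rw [map_add, map_add, map_mul, map_mul, map_mul, map_mul]
      have : ∀ a b a' b' : TT A, (a + b * e) * (a' + b' * e) =
          a * a' + (a * b' + b * a') * e + b * b' * (e * e) := by intros; ring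
      rw [this, he.eq]; ring
  -- the birational extension `B`
  let ιK : FractionRing A →ₐ[A] TT A := IsScalarTower.toAlgHom A (FractionRing A) (TT A)
  let B : Subalgebra A (FractionRing A) := (R'.restrictScalars A).comap ιK
  have hmemB : ∀ y : FractionRing A, y ∈ B ↔ algebraMap (FractionRing A) (TT A) y ∈ R' := by
    intro y; rfl
  have hxB : x ∈ B := by
    rw [hmemB]
    have : algebraMap (FractionRing A) (TT A) x = e - algebraMap (Ah A) (TT A) c := by
      rw [hxc]; ring
    rw [this]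
    exact sub_mem heR' (Subalgebra.algebraMap_mem R' c)
  -- `B` is finite over `A`
  obtain ⟨a₀, ha₀m, ha₀⟩ := Submodule.exists_mem_ne_zero_of_ne_bot hm
  have ha₀k : a₀ ^ k ∈ maximalIdeal A ^ k := Ideal.pow_mem_pow ha₀m k
  have ha₀k0 : a₀ ^ k ≠ 0 := pow_ne_zero k ha₀
  obtain ⟨ck, hck⟩ := hk _ ha₀k
  have hBmul : ∀ y ∈ B, ∃ z : A, algebraMap A (FractionRing A) z =
      algebraMap A (FractionRing A) (a₀ ^ k) * y := by
    intro y hy
    obtain ⟨α, β, hαβ⟩ := hR' _ ((hmemB y).mp hy)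
    obtain ⟨⟨u, s⟩, hus⟩ := IsLocalization.mk'_surjective (nonZeroDivisors A)
      (algebraMap A (FractionRing A) (a₀ ^ k) * y)
    have h1 : algebraMap A (FractionRing A) (a₀ ^ k) * y * algebraMap A (FractionRing A) s =
        algebraMap A (FractionRing A) u := by
      rw [← hus, IsLocalization.mk'_spec]
    have h2 : algebraMap (Ah A) (TT A) ((algebraMap A (Ah A) (a₀ ^ k) * α + β * ck) *
        algebraMap A (Ah A) s) = algebraMap (Ah A) (TT A) (algebraMap A (Ah A) u) := by
      have h3 := congrArg (algebraMap (FractionRing A) (TT A)) h1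
      rw [map_mul, map_mul, hαβ, ← IsScalarTower.algebraMap_apply,
        ← IsScalarTower.algebraMap_apply, ← IsScalarTower.algebraMap_apply,
        IsScalarTower.algebraMap_apply A (Ah A) (TT A) (a₀ ^ k),
        IsScalarTower.algebraMap_apply A (Ah A) (TT A) s,
        IsScalarTower.algebraMap_apply A (Ah A) (TT A) u] at h3
      rw [← h3, map_mul, map_add, map_mul, map_mul, ← hck]
      ring
    have h4 := hinjT h2
    have h5 : u ∈ Ideal.span {(s : A)} := by
      rw [← Ideal.comap_map_eq_self_of_faithfullyFlat (B := Ah A) (Ideal.span {(s : A)}),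
        Ideal.mem_comap, Ideal.map_span, Set.image_singleton, Ideal.mem_span_singleton', ← h4]
      exact ⟨_, rfl⟩
    obtain ⟨z, hz⟩ := Ideal.mem_span_singleton'.mp h5
    refine ⟨z, ?_⟩
    have hs0 : algebraMap A (FractionRing A) s ≠ 0 := by
      rw [Ne, map_eq_zero_iff _ (IsFractionRing.injective A (FractionRing A))]
      exact nonZeroDivisors.ne_zero s.2
    apply mul_right_cancel₀ hs0
    rw [h1, ← hz, map_mul]
  haveI hBfin : Module.Finite A B := by
    have hfg : (Subalgebra.toSubmodule B).FG := by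
      refine Submodule.FG.of_le (T := Submodule.span A {(algebraMap A (FractionRing A) (a₀ ^ k))⁻¹})
        (Submodule.fg_span_singleton _) ?_
      intro y hy
      obtain ⟨z, hz⟩ := hBmul y hy
      rw [Submodule.mem_span_singleton]
      refine ⟨z, ?_⟩
      have h0 : algebraMap A (FractionRing A) (a₀ ^ k) ≠ 0 := by
        rw [Ne, map_eq_zero_iff _ (IsFractionRing.injective A (FractionRing A))]
        exact ha₀k0
      rw [Algebra.smul_def, hz, mul_comm, ← mul_assoc, inv_mul_cancel₀ h0, one_mul]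
    exact Module.Finite.iff_fg.mpr hfg
  haveI hBnoeth : IsNoetherianRing B := IsNoetherianRing.of_finite A B
  haveI hBfaith : FaithfulSMul A B := by
    rw [faithfulSMul_iff_algebraMap_injective]
    intro a b hab
    exact IsFractionRing.injective A (FractionRing A) (congrArg Subtype.val hab)
  -- the tensor product `B ⊗ Â` and its map to `K ⊗ Â`
  let φ : B ⊗[A] Ah A →ₐ[A] TT A := Algebra.TensorProduct.map B.val (AlgHom.id A (Ah A))
  have hφinj : Function.Injective φ := by
    have h1 := Module.Flat.rTensor_preserves_injective_linearMap (M := Ah A) B.val.toLinearMap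
      Subtype.val_injective
    have h2 : ⇑φ = ⇑(LinearMap.rTensor (Ah A) B.val.toLinearMap) := by
      ext t
      induction t using TensorProduct.induction_on with
      | zero => simp
      | tmul b y => simp [φ]
      | add t t' ht ht' => rw [map_add, map_add, ht, ht']
    rw [h2]; exact h1
  have hφr : ∀ y : Ah A, φ (algebraMap (Ah A) (B ⊗[A] Ah A) y) = algebraMap (Ah A) (TT A) y := by
    intro y
    rw [Algebra.TensorProduct.right_algebraMap_apply, Algebra.TensorProduct.right_algebraMap_apply]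
    simp [φ]
  have hφl : ∀ b : B, φ (algebraMap B (B ⊗[A] Ah A) b) =
      algebraMap (FractionRing A) (TT A) (b : FractionRing A) := by
    intro b
    rw [Algebra.TensorProduct.algebraMap_apply, Algebra.TensorProduct.algebraMap_apply]
    simp [φ]
  let ê : B ⊗[A] Ah A := algebraMap B (B ⊗[A] Ah A) ⟨x, hxB⟩ + algebraMap (Ah A) (B ⊗[A] Ah A) c
  have hφê : φ ê = e := by
    rw [map_add, hφl, hφr, hxc]
  haveI hfinh : Module.Finite (Ah A) (B ⊗[A] Ah A) := finite_tensor_right B (Ah A)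
  haveI hint : Algebra.IsIntegral (Ah A) (B ⊗[A] Ah A) := Algebra.IsIntegral.of_finite _ _
  haveI hBhnoeth : @IsNoetherianRing (B ⊗[A] Ah A) Ring.toSemiring :=
    IsNoetherianRing.of_finite (Ah A) _
  -- the prime `𝔔` and the maximal ideal `𝔐`
  let 𝔔 : @Ideal (B ⊗[A] Ah A) CommRing.toCommSemiring.toSemiring := q.comap φ.toRingHom
  have h𝔔p : 𝔔.IsPrime := Ideal.comap_isPrime _ _
  have h1ê : 1 - ê ∈ 𝔔 := by
    change φ (1 - ê) ∈ q
    rw [map_sub, map_one, hφê]
    have : e * (1 - e) ∈ q := by rw [he1]; exact q.zero_mem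
    exact (hqp.mem_or_mem this).resolve_left heq
  obtain ⟨𝔐, h𝔐max, h𝔔𝔐⟩ := Ideal.exists_le_maximal 𝔔 h𝔔p.ne_top
  haveI h𝔐p : 𝔐.IsPrime := h𝔐max.isPrime
  have hê𝔐 : ê ∉ 𝔐 := by
    intro h
    have : (1 : B ⊗[A] Ah A) ∈ 𝔐 := by
      have h0 : (1 : B ⊗[A] Ah A) = ê + (1 - ê) := (add_sub_cancel ê 1).symm
      rw [h0]
      exact 𝔐.add_mem h (h𝔔𝔐 h1ê)
    exact h𝔐p.ne_top ((Ideal.eq_top_iff_one _).mpr this)
  -- primes below `𝔐` contract to `Q` or the maximal ideal
  have hkey : ∀ 𝔓 : Ideal (B ⊗[A] Ah A), 𝔓.IsPrime → 𝔓 ≤ 𝔐 →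
      𝔓.comap (algebraMap (Ah A) (B ⊗[A] Ah A)) = Q ∨
        𝔓.comap (algebraMap (Ah A) (B ⊗[A] Ah A)) = maximalIdeal (Ah A) := by
    intro 𝔓 h𝔓 h𝔓𝔐
    refine hI₁ _ (Ideal.comap_isPrime _ _) ?_
    intro y hy
    rw [Ideal.mem_comap]
    have h2 : algebraMap (Ah A) (B ⊗[A] Ah A) y * ê = 0 := by
      apply hφinj
      rw [map_mul, hφr, hφê, hy, map_zero]
    have h3 : algebraMap (Ah A) (B ⊗[A] Ah A) y * ê ∈ 𝔓 := by rw [h2]; exact 𝔓.zero_mem
    exact (h𝔓.mem_or_mem h3).resolve_right (fun h => hê𝔐 (h𝔓𝔐 h))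
  -- the height of `𝔐` is at most one
  have hht𝔐 : 𝔐.height ≤ 1 := by
    rw [show (1 : ℕ∞) = ((1 : ℕ) : ℕ∞) from rfl, Ideal.height_le_iff]
    intro 𝔓 h𝔓 h𝔓𝔐
    rw [Nat.cast_one, Order.lt_one_iff, Ideal.height_eq_zero_iff]
    by_contra hnotmin
    obtain ⟨𝔓', h𝔓'min, h𝔓'le⟩ := Ideal.exists_minimalPrimes_le (bot_le : ⊥ ≤ 𝔓)
    have h𝔓'p : 𝔓'.IsPrime := h𝔓'min.1.1
    have h𝔓'lt : 𝔓' < 𝔓 := lt_of_le_of_ne h𝔓'le (fun h => hnotmin (h ▸ h𝔓'min))
    have hc1 := Ideal.IsIntegral.comap_lt_comap (R := Ah A) (A := B ⊗[A] Ah A) (I := 𝔓') (J := 𝔓)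
      h𝔓'lt
    have hc2 := Ideal.IsIntegral.comap_lt_comap (R := Ah A) (A := B ⊗[A] Ah A) (I := 𝔓) (J := 𝔐)
      h𝔓𝔐
    have hle : 𝔐.comap (algebraMap (Ah A) (B ⊗[A] Ah A)) ≤ maximalIdeal (Ah A) :=
      IsLocalRing.le_maximalIdeal (Ideal.IsPrime.ne_top (Ideal.comap_isPrime _ _))
    have hP : 𝔓.comap (algebraMap (Ah A) (B ⊗[A] Ah A)) = Q := by
      rcases hkey 𝔓 h𝔓 h𝔓𝔐.le with h | h
      · exact h
      · exact absurd (h ▸ hc2) (not_lt_of_ge hle)
    have hP' : 𝔓'.comap (algebraMap (Ah A) (B ⊗[A] Ah A)) = Q := by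
      rcases hkey 𝔓' h𝔓'p (h𝔓'le.trans h𝔓𝔐.le) with h | h
      · exact h
      · exact absurd (h ▸ hc1.trans hc2) (not_lt_of_ge hle)
    rw [hP, hP'] at hc1
    exact lt_irrefl _ hc1
  -- the maximal ideal `N` of `B`
  let N : Ideal B := 𝔐.comap (algebraMap B (B ⊗[A] Ah A))
  haveI hNp : N.IsPrime := Ideal.comap_isPrime _ _
  haveI : 𝔐.LiesOver N := ⟨rfl⟩
  have hN𝔐 : N.height ≤ 𝔐.height := by
    rw [Ideal.height_eq_height_add_of_liesOver_of_hasGoingDown N 𝔐]
    exact le_self_add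
  have h𝔐c : (𝔐.comap (algebraMap (Ah A) (B ⊗[A] Ah A))).IsMaximal :=
    Ideal.isMaximal_comap_of_isIntegral_of_isMaximal 𝔐
  have h𝔐c' : 𝔐.comap (algebraMap (Ah A) (B ⊗[A] Ah A)) = maximalIdeal (Ah A) :=
    IsLocalRing.eq_maximalIdeal h𝔐c
  have hNA : N.comap (algebraMap A B) = maximalIdeal A := by
    rw [Ideal.comap_comap, ← IsScalarTower.algebraMap_eq,
      IsScalarTower.algebraMap_eq A (Ah A) (B ⊗[A] Ah A), ← Ideal.comap_comap, h𝔐c']
    exact ((IsLocalRing.local_hom_TFAE (algebraMap A (Ah A))).out 0 4).mp hlh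
  haveI : N.LiesOver (maximalIdeal A) := ⟨hNA.symm⟩
  have hNm : N.height = (maximalIdeal A).height :=
    Groth.Agent.H23.CutoffFinite.height_eq_of_liesOver A hUC B (maximalIdeal A) N
  rw [← IsLocalRing.maximalIdeal_height_eq_ringKrullDim, ← hNm]
  exact_mod_cast hN𝔐.trans hht𝔐

end Base

end Groth.Agent.H23.Ratliff
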