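import Mathlib
import Groth.Agent.H23.Ratliff3
import Groth.Agent.H24.Catenary

set_option autoImplicit false
set_option linter.unusedSectionVars false
set_option linter.style.haveILetI false
universe u

open TensorProduct IsLocalRing

namespace Groth.Agent.H23.Ratliff

section Step

variable (A : Type u) [CommRing A] [IsDomain A] [IsNoetherianRing A] [IsLocalRing A]

/-- The induction step of Ratliff's theorem: if `dim Â/Q ≥ 2` there is a prime `Q' > Q` of `Â`,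
minimal over `p Â` for its contraction `p`, which is a height one prime of `A`. -/
theorem exists_prime_step (hm : maximalIdeal A ≠ ⊥) (Q : Ideal (Ah A))
    (hQ : Q ∈ minimalPrimes (Ah A)) (hd : ¬ ringKrullDim (Ah A ⧸ Q) ≤ 1) :
    ∃ Q' : Ideal (Ah A), Q'.IsPrime ∧ Q < Q' ∧ Q'.comap (algebraMap A (Ah A)) ≠ ⊥ ∧
      (Q'.comap (algebraMap A (Ah A))).height ≤ 1 ∧
      Q' ∈ ((Q'.comap (algebraMap A (Ah A))).map (algebraMap A (Ah A))).minimalPrimes := by
  haveI := Groth.Agent.H72.FormalEquidim.isLocalRing_compl A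
  haveI := Groth.Agent.H72.FormalEquidim.isNoetherianRing_compl A
  haveI hlh := Groth.Agent.H72.FormalEquidim.isLocalHom_compl A
  have hQp : Q.IsPrime := hQ.1.1
  have hmax : maximalIdeal (Ah A) = (maximalIdeal A).map (algebraMap A (Ah A)) :=
    Groth.Agent.Lead.RLR.maximalIdeal_adicCompletion_eq_map A _
      (Groth.Agent.H72.FormalEquidim.maximalIdeal_ne_top A)
  have hdisj : Disjoint (MM A : Set (Ah A)) (Q : Set (Ah A)) :=
    Disjoint.mono_left (MM_le A) (Ideal.disjoint_nonZeroDivisors_of_mem_minimalPrimes hQ).symm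
  -- the finite set of primes to avoid
  let PP : Set (Ideal (Ah A)) :=
    (⋃ Q₂ ∈ (minimalPrimes (Ah A) \ {Q}), (Q ⊔ Q₂).minimalPrimes) \ {maximalIdeal (Ah A)}
  have hPPfin : PP.Finite := by
    refine Set.Finite.subset (Set.Finite.biUnion
      ((minimalPrimes.finite_of_isNoetherianRing (R := Ah A)).subset Set.sdiff_subset)
      (fun Q₂ _ => Ideal.finite_minimalPrimes_of_isNoetherianRing (Ah A) (Q ⊔ Q₂))) Set.sdiff_subset
  let S : Set (Ideal A) := insert ⊥ ((Ideal.comap (algebraMap A (Ah A))) '' PP)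
  have hSfin : S.Finite := (hPPfin.image _).insert _
  have hSprime : ∀ I ∈ S, I.IsPrime := by
    intro I hI
    rcases hI with rfl | ⟨P, hP, rfl⟩
    · exact Ideal.isPrime_bot
    · obtain ⟨Q₂, -, hPmin⟩ := Set.mem_iUnion₂.mp hP.1
      haveI := hPmin.1.1
      exact Ideal.comap_isPrime _ _
  have hSle : ¬ ∃ I ∈ S, maximalIdeal A ≤ I := by
    rintro ⟨I, hI, hmI⟩
    rcases hI with rfl | ⟨P, hP, rfl⟩
    · exact hm (le_bot_iff.mp hmI)
    · obtain ⟨Q₂, -, hPmin⟩ := Set.mem_iUnion₂.mp hP.1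
      have hPp : P.IsPrime := hPmin.1.1
      have h1 : maximalIdeal (Ah A) ≤ P := by
        rw [hmax]; exact Ideal.map_le_iff_le_comap.mpr hmI
      exact hP.2 ((IsLocalRing.maximalIdeal.isMaximal (Ah A)).eq_of_le hPp.ne_top h1).symm
  have havoid : ¬ ((maximalIdeal A : Set A) ⊆ ⋃ I ∈ S, (I : Set A)) := by
    intro hsub
    exact hSle ((Ideal.subset_union_prime_finite hSfin (f := id) ⊥ ⊥
      (fun I hI _ _ => hSprime I hI)).mp hsub)
  obtain ⟨a, ham, haS⟩ := Set.not_subset.mp havoid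
  have haS' : ∀ I ∈ S, a ∉ I := by
    intro I hI haI
    exact haS (Set.mem_iUnion₂.mpr ⟨I, hI, haI⟩)
  have ha0 : a ≠ 0 := fun h => haS' ⊥ (Set.mem_insert _ _) (h ▸ (⊥ : Ideal A).zero_mem)
  -- `a ∉ Q`
  have haQ : algebraMap A (Ah A) a ∉ Q := by
    intro h
    exact Set.disjoint_left.mp hdisj ⟨a, mem_nonZeroDivisors_of_ne_zero ha0, rfl⟩ h
  have hahm : algebraMap A (Ah A) a ∈ maximalIdeal (Ah A) := by
    rw [hmax]; exact Ideal.mem_map_of_mem _ ham
  -- a minimal prime over `Q + (a)`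
  have hne : Q ⊔ Ideal.span {algebraMap A (Ah A) a} ≠ ⊤ := by
    intro h
    have : Q ⊔ Ideal.span {algebraMap A (Ah A) a} ≤ maximalIdeal (Ah A) :=
      sup_le (IsLocalRing.le_maximalIdeal hQp.ne_top)
        ((Ideal.span_singleton_le_iff_mem _).mpr hahm)
    rw [h] at this
    exact (IsLocalRing.maximalIdeal.isMaximal (Ah A)).ne_top (top_le_iff.mp this)
  obtain ⟨Q', hQ'min⟩ := Ideal.nonempty_minimalPrimes hne
  have hQ'p : Q'.IsPrime := hQ'min.1.1
  have hQQ' : Q ≤ Q' := le_sup_left.trans hQ'min.1.2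
  have haQ' : algebraMap A (Ah A) a ∈ Q' :=
    hQ'min.1.2 (Ideal.mem_sup_right (Ideal.mem_span_singleton_self _))
  have hlt : Q < Q' := lt_of_le_of_ne hQQ' (fun h => haQ (h ▸ haQ'))
  have hcov : (⟨Q, hQp⟩ : PrimeSpectrum (Ah A)) ⋖ ⟨Q', hQ'p⟩ :=
    Groth.Agent.H24.covBy_of_mem_minimalPrimes_sup_span (p := ⟨Q, hQp⟩) haQ hQ'min
  have hbetween : ∀ P : Ideal (Ah A), P.IsPrime → Q ≤ P → P ≤ Q' → P = Q ∨ P = Q' := by
    intro P hP hQP hPQ'
    by_contra hcon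
    push Not at hcon
    have h1 : (⟨Q, hQp⟩ : PrimeSpectrum (Ah A)) < ⟨P, hP⟩ :=
      lt_of_le_of_ne hQP (fun h => hcon.1 (congrArg PrimeSpectrum.asIdeal h).symm)
    have h2 : (⟨P, hP⟩ : PrimeSpectrum (Ah A)) < ⟨Q', hQ'p⟩ :=
      lt_of_le_of_ne hPQ' (fun h => hcon.2 (congrArg PrimeSpectrum.asIdeal h))
    exact hcov.2 h1 h2
  -- `Q' ≠ m̂`
  have hQ'm : Q' ≠ maximalIdeal (Ah A) := by
    intro h
    apply hd
    have h1 : (Q'.map (Ideal.Quotient.mk Q)).height ≤ 1 :=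
      Ideal.map_height_le_one_of_mem_minimalPrimes hQ'min
    haveI : Nontrivial (Ah A ⧸ Q) := Ideal.Quotient.nontrivial_iff.mpr hQp.ne_top
    haveI : IsLocalRing (Ah A ⧸ Q) :=
      IsLocalRing.of_surjective' (Ideal.Quotient.mk Q) Ideal.Quotient.mk_surjective
    rw [← IsLocalRing.maximalIdeal_height_eq_ringKrullDim,
      ← IsLocalRing.map_maximalIdeal_of_surjective _ Ideal.Quotient.mk_surjective, ← h]  
    exact_mod_cast h1
  -- `Q'` contains no other minimal prime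
  have honly : ∀ Q₂ ∈ minimalPrimes (Ah A), Q₂ ≤ Q' → Q₂ = Q := by
    intro Q₂ hQ₂ hQ₂Q'
    by_contra hne2
    obtain ⟨P, hPmin, hPQ'⟩ := Ideal.exists_minimalPrimes_le (sup_le hQQ' hQ₂Q')
    have hPp : P.IsPrime := hPmin.1.1
    have hQP : Q ≤ P := le_sup_left.trans hPmin.1.2
    have hQ₂P : Q₂ ≤ P := le_sup_right.trans hPmin.1.2
    rcases hbetween P hPp hQP hPQ' with h | h
    · rw [h] at hQ₂P
      exact hne2 (le_antisymm hQ₂P (hQ.2 ⟨hQ₂.1.1, bot_le⟩ hQ₂P))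
    · have hPPP : Q' ∈ PP := by
        refine ⟨Set.mem_iUnion₂.mpr ⟨Q₂, ⟨hQ₂, hne2⟩, h ▸ hPmin⟩, hQ'm⟩
      exact haS' _ (Set.mem_insert_of_mem _ ⟨Q', hPPP, rfl⟩) haQ'
  have hbelow : ∀ P : Ideal (Ah A), P.IsPrime → P ≤ Q' → Q ≤ P := by
    intro P hP hPQ'
    obtain ⟨Q₂, hQ₂, hQ₂P⟩ := Ideal.exists_minimalPrimes_le (bot_le : (⊥ : Ideal (Ah A)) ≤ P)
    rw [← honly Q₂ hQ₂ (hQ₂P.trans hPQ')]
    exact hQ₂P
  -- the height of `Q'`
  have hhtQ' : Q'.height ≤ 1 := by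
    rw [show (1 : ℕ∞) = ((1 : ℕ) : ℕ∞) from rfl, Ideal.height_le_iff]
    intro P hP hPQ'
    rw [Nat.cast_one, Order.lt_one_iff, Ideal.height_eq_zero_iff]
    rcases hbetween P hP (hbelow P hP hPQ'.le) hPQ'.le with h | h
    · rw [h]; exact hQ
    · exact absurd h hPQ'.ne
  refine ⟨Q', hQ'p, hlt, ?_, ?_, ?_⟩
  · intro h
    have : a ∈ Q'.comap (algebraMap A (Ah A)) := haQ'
    rw [h] at this
    exact ha0 this
  · haveI : Q'.LiesOver (Q'.comap (algebraMap A (Ah A))) := ⟨rfl⟩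
    haveI : (Q'.comap (algebraMap A (Ah A))).IsPrime := Ideal.comap_isPrime _ _
    refine le_trans ?_ hhtQ'
    rw [Ideal.height_eq_height_add_of_liesOver_of_hasGoingDown
      (Q'.comap (algebraMap A (Ah A))) Q']
    exact le_self_add
  · refine ⟨⟨hQ'p, Ideal.map_comap_le⟩, ?_⟩
    rintro P ⟨hP, hpP⟩ hPQ'
    have haP : algebraMap A (Ah A) a ∈ P := hpP (Ideal.mem_map_of_mem _ haQ')
    rcases hbetween P hP (hbelow P hP hPQ') hPQ' with h | h
    · exact absurd (h ▸ haP) haQ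
    · exact h.ge

end Step

end Groth.Agent.H23.Ratliff
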