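import Mathlib
import Groth.Agent.H23.Ratliff4
import Groth.Agent.H14.EquidimFibre
import Groth.Agent.H72.FormalEquidim4
import Groth.Agent.H26.ComplQuot
import Groth.Agent.S9126

set_option autoImplicit false
set_option linter.unusedSectionVars false
set_option linter.style.haveILetI false
set_option linter.overlappingInstances false
universe u

open TensorProduct IsLocalRing

namespace Groth.Agent.H23.Ratliff

section Main

/-- If `A` is not a field, every component of the completion has positive dimension. -/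
theorem one_le_ringKrullDim_quotient (A : Type u) [CommRing A] [IsDomain A] [IsNoetherianRing A]
    [IsLocalRing A] (hm : maximalIdeal A ≠ ⊥) (Q : Ideal (Ah A)) (hQ : Q ∈ minimalPrimes (Ah A)) :
    1 ≤ ringKrullDim (Ah A ⧸ Q) := by
  haveI := Groth.Agent.H72.FormalEquidim.isLocalRing_compl A
  haveI := Groth.Agent.H72.FormalEquidim.isNoetherianRing_compl A
  haveI hlh := Groth.Agent.H72.FormalEquidim.isLocalHom_compl A
  have hQp : Q.IsPrime := hQ.1.1
  have hdisj : Disjoint (MM A : Set (Ah A)) (Q : Set (Ah A)) :=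
    Disjoint.mono_left (MM_le A) (Ideal.disjoint_nonZeroDivisors_of_mem_minimalPrimes hQ).symm
  obtain ⟨a₀, ha₀m, ha₀⟩ := Submodule.exists_mem_ne_zero_of_ne_bot hm
  have hmle : (maximalIdeal A).map (algebraMap A (Ah A)) ≤ maximalIdeal (Ah A) :=
    ((IsLocalRing.local_hom_TFAE (algebraMap A (Ah A))).out 0 2).mp hlh
  have ha₀h : algebraMap A (Ah A) a₀ ∈ maximalIdeal (Ah A) :=
    hmle (Ideal.mem_map_of_mem _ ha₀m)
  have ha₀Q : algebraMap A (Ah A) a₀ ∉ Q := fun h =>
    Set.disjoint_left.mp hdisj ⟨a₀, mem_nonZeroDivisors_of_ne_zero ha₀, rfl⟩ h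
  haveI : Nontrivial (Ah A ⧸ Q) := Ideal.Quotient.nontrivial_iff.mpr hQp.ne_top
  haveI : IsLocalRing (Ah A ⧸ Q) :=
    IsLocalRing.of_surjective' (Ideal.Quotient.mk Q) Ideal.Quotient.mk_surjective
  haveI : IsDomain (Ah A ⧸ Q) := Ideal.Quotient.isDomain Q
  have hne : maximalIdeal (Ah A ⧸ Q) ≠ ⊥ := by
    intro h
    have h1 : Ideal.Quotient.mk Q (algebraMap A (Ah A) a₀) ∈ maximalIdeal (Ah A ⧸ Q) := by
      rw [← IsLocalRing.map_maximalIdeal_of_surjective _ Ideal.Quotient.mk_surjective]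
      exact Ideal.mem_map_of_mem _ ha₀h
    rw [h, Ideal.mem_bot, Ideal.Quotient.eq_zero_iff_mem] at h1
    exact ha₀Q h1
  have hbp : (⊥ : Ideal (Ah A ⧸ Q)).IsPrime := Ideal.isPrime_bot
  have h2 := Ideal.height_add_one_le_of_lt_of_isPrime (bot_lt_iff_ne_bot.mpr hne)
  rw [← IsLocalRing.maximalIdeal_height_eq_ringKrullDim]
  have h3 : (1 : ℕ∞) ≤ (maximalIdeal (Ah A ⧸ Q)).height := le_trans (by simp) h2
  exact_mod_cast h3

/-- Ratliff: in a universally catenary Noetherian local domain, every component of the completion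
has full dimension. -/
theorem ringKrullDim_le_quotient (n : ℕ) : ∀ (A : Type u) [CommRing A] [IsDomain A]
    [IsNoetherianRing A] [IsLocalRing A], CAlg.IsUniversallyCatenary A → ringKrullDim A = n →
    ∀ Q ∈ minimalPrimes (Ah A), ringKrullDim A ≤ ringKrullDim (Ah A ⧸ Q) := by
  induction n using Nat.strong_induction_on with
  | _ n ih =>
  intro A _ _ _ _ hUC hn Q hQ
  haveI := Groth.Agent.H72.FormalEquidim.isLocalRing_compl A
  haveI := Groth.Agent.H72.FormalEquidim.isNoetherianRing_compl A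
  haveI hlh := Groth.Agent.H72.FormalEquidim.isLocalHom_compl A
  have hQp : Q.IsPrime := hQ.1.1
  haveI : Nontrivial (Ah A ⧸ Q) := Ideal.Quotient.nontrivial_iff.mpr hQp.ne_top
  by_cases hm : maximalIdeal A = ⊥
  · have hf : IsField A := IsLocalRing.isField_iff_maximalIdeal_eq.mpr hm
    rw [ringKrullDim_eq_zero_of_isField hf]
    exact ringKrullDim_nonneg_of_nontrivial
  by_cases hd : ringKrullDim (Ah A ⧸ Q) ≤ 1
  · exact (ringKrullDim_le_one_of_quotient_le_one A hUC Q hQ hd).trans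
      (one_le_ringKrullDim_quotient A hm Q hQ)
  -- the induction step
  obtain ⟨Q', hQ'p, hlt, hp0, hht, hmin⟩ := exists_prime_step A hm Q hQ hd
  haveI hp₁ : (Q'.comap (algebraMap A (Ah A))).IsPrime := Ideal.comap_isPrime _ _
  generalize hp₁def : Q'.comap (algebraMap A (Ah A)) = p₁ at hp0 hht hmin hp₁
  haveI : IsDomain (A ⧸ p₁) := Ideal.Quotient.isDomain p₁
  have hUC₁ : CAlg.IsUniversallyCatenary (A ⧸ p₁) := Groth.Agent.S9126.result A (A ⧸ p₁) hUC
  -- dimension of `A ⧸ p₁`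
  have hC : Groth.Agent.H24.CatenaryCond (PrimeSpectrum A) :=
    (hUC.2 A inferInstance).2
  have hE : ∀ P ∈ minimalPrimes A, ringKrullDim (A ⧸ P) = ringKrullDim A := by
    intro P hP
    rw [IsDomain.minimalPrimes_eq_singleton_bot, Set.mem_singleton_iff] at hP
    rw [hP]
    exact ringKrullDim_eq_of_ringEquiv (RingEquiv.quotientBot A)
  have h5 := Groth.Agent.H14.EquidimFibre.height_add_coheight_eq hE hC ⟨p₁, hp₁⟩
  have h6 := Groth.Agent.H24.coheight_eq_ringKrullDim_quotient (⟨p₁, hp₁⟩ : PrimeSpectrum A)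
  have hht1 : p₁.height = 1 := by
    refine le_antisymm hht ?_
    rw [Order.one_le_iff_pos, pos_iff_ne_zero, Ne, Ideal.height_eq_zero_iff_eq_bot]
    exact hp0
  change ((p₁.height + Order.coheight (⟨p₁, hp₁⟩ : PrimeSpectrum A) : ℕ∞) : WithBot ℕ∞) =
    ringKrullDim A at h5
  change ((Order.coheight (⟨p₁, hp₁⟩ : PrimeSpectrum A) : ℕ∞) : WithBot ℕ∞) =
    ringKrullDim (A ⧸ p₁) at h6
  rw [hht1, hn] at h5
  have h5' : (1 : ℕ∞) + Order.coheight (⟨p₁, hp₁⟩ : PrimeSpectrum A) = (n : ℕ∞) := by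
    exact_mod_cast h5
  have hfin : Order.coheight (⟨p₁, hp₁⟩ : PrimeSpectrum A) ≠ ⊤ := by
    intro h
    rw [h, add_top] at h5'
    exact ENat.top_ne_natCast n h5'
  obtain ⟨n₁, hn₁⟩ := ENat.ne_top_iff_exists.mp hfin
  rw [← hn₁] at h5' h6
  have hnn₁ : 1 + n₁ = n := by exact_mod_cast h5'
  have hdim₁ : ringKrullDim (A ⧸ p₁) = (n₁ : ℕ) := by
    rw [← h6]; rfl
  -- induction hypothesis
  have hIH := ih n₁ (by omega) (A ⧸ p₁) hUC₁ hdim₁
  have hEq₁ : EGA4.IsEquidim (Ah (A ⧸ p₁)) := by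
    intro Q₁ hQ₁
    refine le_antisymm (ringKrullDim_quotient_le Q₁) ?_
    rw [Groth.Agent.Lead.RLR.ringKrullDim_adicCompletion_eq (A ⧸ p₁) (maximalIdeal (A ⧸ p₁))
      (Groth.Agent.H72.FormalEquidim.maximalIdeal_ne_top _)]
    exact hIH Q₁ hQ₁
  obtain ⟨e, -⟩ := Groth.Agent.H26.ComplQuot.exists_adicCompletion_quotient_equiv A p₁
  have hEq : EGA4.IsEquidim (Ah A ⧸ p₁.map (algebraMap A (Ah A))) :=
    Groth.Agent.H72.FormalEquidim.isEquidim_of_ringEquiv e.symm hEq₁
  -- the image of `Q'` is a minimal prime of the quotient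
  have hpQ' : p₁.map (algebraMap A (Ah A)) ≤ Q' := hmin.1.2
  have hmin' : Q'.map (Ideal.Quotient.mk (p₁.map (algebraMap A (Ah A)))) ∈
      minimalPrimes (Ah A ⧸ p₁.map (algebraMap A (Ah A))) := by
    have h1 := Ideal.minimalPrimes_map_of_surjective
      (f := Ideal.Quotient.mk (p₁.map (algebraMap A (Ah A)))) Ideal.Quotient.mk_surjective
      (p₁.map (algebraMap A (Ah A)))
    rw [Ideal.mk_ker, sup_idem, Ideal.map_quotient_self] at h1
    change _ ∈ (⊥ : Ideal _).minimalPrimes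
    rw [h1]
    exact ⟨Q', hmin, rfl⟩
  have h7 := hEq _ hmin'
  rw [Groth.Agent.H72.FormalEquidim.ringKrullDim_quotient_comap_mk,
    Ideal.comap_map_of_surjective _ Ideal.Quotient.mk_surjective, ← RingHom.ker_eq_comap_bot,
    Ideal.mk_ker, sup_eq_left.mpr hpQ',
    Groth.Agent.H72.FormalEquidim.ringKrullDim_quotient_map_compl A p₁, hdim₁] at h7
  -- conclusion
  have h8 := Order.coheight_add_one_le
    (show (⟨Q, hQp⟩ : PrimeSpectrum (Ah A)) < ⟨Q', hQ'p⟩ from hlt)
  have h9 := Groth.Agent.H24.coheight_eq_ringKrullDim_quotient (⟨Q, hQp⟩ : PrimeSpectrum (Ah A))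
  have h10 := Groth.Agent.H24.coheight_eq_ringKrullDim_quotient (⟨Q', hQ'p⟩ : PrimeSpectrum (Ah A))
  change ((Order.coheight (⟨Q, hQp⟩ : PrimeSpectrum (Ah A)) : ℕ∞) : WithBot ℕ∞) =
    ringKrullDim (Ah A ⧸ Q) at h9
  change ((Order.coheight (⟨Q', hQ'p⟩ : PrimeSpectrum (Ah A)) : ℕ∞) : WithBot ℕ∞) =
    ringKrullDim (Ah A ⧸ Q') at h10
  rw [h7] at h10
  have h11 : Order.coheight (⟨Q', hQ'p⟩ : PrimeSpectrum (Ah A)) = (n₁ : ℕ∞) := by
    exact_mod_cast h10
  rw [h11] at h8
  rw [hn, ← h9, ← hnn₁]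
  have : ((1 + n₁ : ℕ) : ℕ∞) ≤ Order.coheight (⟨Q, hQp⟩ : PrimeSpectrum (Ah A)) := by
    rw [add_comm]; exact_mod_cast h8
  exact_mod_cast this

/-- Ratliff: the completion of a universally catenary Noetherian local domain is
equidimensional. -/
theorem isEquidim_cpl_of_isUniversallyCatenary (A : Type u) [CommRing A] [IsDomain A]
    [IsNoetherianRing A] [IsLocalRing A] (hUC : CAlg.IsUniversallyCatenary A) :
    EGA4.IsEquidim (AdicCompletion (maximalIdeal A) A) := by
  have h1 : ringKrullDim A ≠ ⊤ := ringKrullDim_ne_top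
  have h2 : ringKrullDim A ≠ ⊥ := ringKrullDim_ne_bot
  obtain ⟨x, hx⟩ := WithBot.ne_bot_iff_exists.mp h2
  have hx' : x ≠ ⊤ := by
    intro h
    rw [h] at hx
    exact h1 hx.symm
  obtain ⟨n, hn⟩ := ENat.ne_top_iff_exists.mp hx'
  have hdim : ringKrullDim A = (n : ℕ) := by
    rw [← hx, ← hn]; rfl
  intro Q hQ
  refine le_antisymm (ringKrullDim_quotient_le Q) ?_
  rw [Groth.Agent.Lead.RLR.ringKrullDim_adicCompletion_eq A (maximalIdeal A)
    (Groth.Agent.H72.FormalEquidim.maximalIdeal_ne_top _)]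
  exact ringKrullDim_le_quotient n A hUC hdim Q hQ

/-- **Ratliff's theorem**: a universally catenary Noetherian local ring is formally catenary. -/
theorem isFormallyCatenary_of_isUniversallyCatenary (A : Type u) [CommRing A] [IsLocalRing A]
    [IsNoetherianRing A] (hA : CAlg.IsUniversallyCatenary A) : EGA4.IsFormallyCatenary A := by
  intro p hp
  haveI : IsDomain (A ⧸ p) := Ideal.Quotient.isDomain p
  have hUC' : CAlg.IsUniversallyCatenary (A ⧸ p) := Groth.Agent.S9126.result A (A ⧸ p) hA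
  exact isEquidim_cpl_of_isUniversallyCatenary (A ⧸ p) hUC'

end Main

end Groth.Agent.H23.Ratliff
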