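import Mathlib
import Groth.Agent.H2.HT.StabilizeMain
import Groth.Agent.H23.Bootstrap1
import Groth.Agent.H58.LCLocalGlobal

/-!
# Faltings' finiteness theorem in terms of the cutoff `s_{A,I}(M)` (dualizing complex case)

For a Noetherian ring `A` with a dualizing complex, an ideal `I` and a finite module `M`:
`H^i_I(M)` is finite for all `i ≤ s` iff `s < s_{A,I}(M)`.
-/

set_option autoImplicit false
set_option linter.unusedSectionVars false
set_option linter.style.haveILetI false
universe u

open CategoryTheory Limits Opposite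

namespace Groth.Agent.H23.Faltings

attribute [local instance] HasDerivedCategory.standard

open Groth.Agent.H2.HT

section Kill

variable {A : Type u} [CommRing A] [IsNoetherianRing A]

theorem zeroLocus_pow_subset (I : Ideal A) (n : ℕ) :
    PrimeSpectrum.zeroLocus ((I ^ n : Ideal A) : Set A) ⊆ PrimeSpectrum.zeroLocus (I : Set A) := by
  intro p hp
  rw [PrimeSpectrum.mem_zeroLocus, SetLike.coe_subset_coe] at hp ⊢
  exact p.2.le_of_pow_le hp

/-- annihilation of `HDI` gives annihilation of `H_{V(I)}` (converse of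
`smul_HDI_eq_zero_of_HX`). -/
theorem smul_HX_eq_zero_of_HDI (I : Ideal A) (g : A) (K : Dual.D A) (i : ℤ)
    (h : ∀ y : Dual2.HDI A I K i, g • y = 0)
    (x : HX (PrimeSpectrum.zeroLocus (I : Set A)) (K⟦i⟧)) : g • x = 0 := by
  obtain ⟨J, hJ, α, rfl⟩ := exists_repI (K⟦i⟧) x
  have hrad : I ≤ J.radical := (PrimeSpectrum.zeroLocus_subset_zeroLocus_iff J I).mp hJ
  obtain ⟨m, hm⟩ := Ideal.exists_pow_le_of_le_radical_of_fg hrad
    ((isNoetherianRing_iff_ideal_fg A).1 inferInstance I)
  have h0 := h (ιP I (K⟦i⟧) m (sqmap hm ≫ α))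
  rw [← map_smul] at h0
  obtain ⟨m', hm', h1⟩ := ιP_eq_zero I (K⟦i⟧) _ h0
  rw [← ιI_res (zeroLocus_pow_subset I m') hJ ((Ideal.pow_le_pow_right hm').trans hm) (K⟦i⟧) α,
    ← map_smul]
  have h2 : sqmap ((Ideal.pow_le_pow_right hm').trans hm) =
      sqmap (Ideal.pow_le_pow_right hm') ≫ sqmap hm := (sqmap_comp _ _).symm
  rw [h2, Category.assoc, ← Linear.comp_smul, h1, map_zero]

end Kill

section Main

variable {A : Type u} [CommRing A] [IsNoetherianRing A] {ω : Dual.D A}
  (hω : Dual.IsDualizing A ω)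

include hω in
/-- finiteness of `H^i_I(M)` for `i ≤ s` forces Faltings' condition -/
theorem cond_of_finite (I : Ideal A) (M : Type u) [AddCommGroup M] [Module A M]
    [Module.Finite A M] (s : ℕ)
    (hfin : ∀ i : ℕ, i ≤ s → Module.Finite A (LocCoh.H I i M)) :
    ∀ p q : PrimeSpectrum A, ¬ I ≤ p.asIdeal → I ≤ q.asIdeal → p ≤ q →
      (s : WithBot ℕ∞) < ((LocCoh.depth (Localization.AtPrime p.asIdeal)
        (LocalizedModule p.asIdeal.primeCompl M) : ℕ∞) : WithBot ℕ∞) +
        Order.krullDim (Set.Icc p q) := by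
  classical
  -- a power of `I` kills all `H^i`, `i ≤ s`
  have hk : ∀ i : ℕ, i ≤ s → ∃ n : ℕ, ∀ x : LocCoh.H I i M, ∀ r ∈ I ^ n, r • x = 0 := by
    intro i hi
    haveI := hfin i hi
    exact Groth.Agent.H58.LC.exists_pow_kill_of_finite I (LocCoh.H I i M)
      (fun x => Groth.Agent.H58.LC.isTors_H I i (ModuleCat.of A M) x)
  choose! nn hnn using hk
  let n : ℕ := (Finset.range (s + 1)).sup nn
  have hn : ∀ i : ℕ, i ≤ s → ∀ r ∈ I ^ n, ∀ x : LocCoh.H I i M, r • x = 0 := by
    intro i hi r hr x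
    refine hnn i hi x r (Ideal.pow_le_pow_right ?_ hr)
    exact Finset.le_sup (f := nn) (Finset.mem_range.mpr (by omega))
  let T : Set (PrimeSpectrum A) := PrimeSpectrum.zeroLocus (I : Set A)
  have hT : StableUnderSpecialization T :=
    (PrimeSpectrum.isClosed_zeroLocus _).stableUnderSpecialization
  have hcond := (faltings_module hω T T hT hT s M).1 ⟨I ^ n, zeroLocus_pow_subset I n,
    (kill_HT_iff_kill_HX (T := T) M (I ^ n) s).2 (by
      intro i hi a ha x
      by_cases hi0 : i < 0
      · haveI : (Dual.inD A M).IsGE 0 := inferInstance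
        haveI := subsingleton_HX_of_isGE (T := T) (Dual.inD A M) 0 i hi0
        exact Subsingleton.elim _ _
      · obtain ⟨j, rfl⟩ : ∃ j : ℕ, i = (j : ℤ) := ⟨i.toNat, by omega⟩
        refine smul_HX_eq_zero_of_HDI I a (Dual.inD A M) (j : ℤ) (fun y => ?_) x
        obtain ⟨e⟩ := Groth.Agent.H9.LD.nonempty_hdi_inD_equiv_H I j M
        have := hn j (by omega) a ha (e y)
        rw [← map_smul] at this
        exact e.injective (this.trans (map_zero _).symm))⟩
  intro p q hp hq hpq
  refine hcond p q (fun h => hp ?_) ?_ hpq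
  · rwa [PrimeSpectrum.mem_zeroLocus, SetLike.coe_subset_coe] at h
  · rw [PrimeSpectrum.mem_zeroLocus, SetLike.coe_subset_coe]
    exact hq

end Main

section Cutoff

variable {A : Type u} [CommRing A]

/-- Faltings' condition is `s < s_{A,I}(M)`. -/
theorem lt_cutoff_iff (I : Ideal A) (M : Type u) [AddCommGroup M] [Module A M] (s : ℕ) :
    (s : ℕ∞) < Dual2.cutoff A I M ↔
    ∀ p q : PrimeSpectrum A, ¬ I ≤ p.asIdeal → I ≤ q.asIdeal → p ≤ q →
      (s : WithBot ℕ∞) < ((LocCoh.depth (Localization.AtPrime p.asIdeal)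
        (LocalizedModule p.asIdeal.primeCompl M) : ℕ∞) : WithBot ℕ∞) +
        Order.krullDim (Set.Icc p q) := by
  have key : ∀ (p q : PrimeSpectrum A) (hpq : p ≤ q),
      ((s : WithBot ℕ∞) < ((LocCoh.depth (Localization.AtPrime p.asIdeal)
        (LocalizedModule p.asIdeal.primeCompl M) : ℕ∞) : WithBot ℕ∞) +
        Order.krullDim (Set.Icc p q)) ↔
      (s : ℕ∞) < LocCoh.depth (Localization.AtPrime p.asIdeal)
        (LocalizedModule p.asIdeal.primeCompl M) + Order.height (⟨q, hpq⟩ : Set.Ici p) := by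
    intro p q hpq
    rw [Groth.Agent.H23.Bootstrap.krullDim_Icc_eq_height_Ici p q hpq, ← WithBot.coe_add]
    exact WithBot.coe_lt_coe
  constructor
  · intro h p q hp hq hpq
    rw [key p q hpq]
    refine lt_of_lt_of_le h ?_
    rw [Dual2.cutoff.eq_def]
    exact iInf_le_of_le p <| iInf_le_of_le q <| iInf_le_of_le hpq <| iInf_le_of_le hp <|
      iInf_le_of_le hq le_rfl
  · intro h
    have h1 : ((s + 1 : ℕ) : ℕ∞) ≤ Dual2.cutoff A I M := by
      rw [Dual2.cutoff.eq_def]
      refine le_iInf fun p => le_iInf fun q => le_iInf fun hpq => le_iInf fun hp =>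
        le_iInf fun hq => ?_
      have := (key p q hpq).1 (h p q hp hq hpq)
      rw [Nat.cast_add, Nat.cast_one]
      exact Order.add_one_le_of_lt this
    refine lt_of_lt_of_le ?_ h1
    exact_mod_cast Nat.lt_succ_self s

end Cutoff

section Final

variable {A : Type u} [CommRing A] [IsNoetherianRing A] {ω : Dual.D A}
  (hω : Dual.IsDualizing A ω)

include hω in
/-- **Faltings' theorem, dualizing complex case**. -/
theorem finite_iff_lt_cutoff (I : Ideal A) (M : Type u) [AddCommGroup M] [Module A M]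
    [Module.Finite A M] (s : ℕ) :
    (∀ i : ℕ, i ≤ s → Module.Finite A (LocCoh.H I i M)) ↔ (s : ℕ∞) < Dual2.cutoff A I M := by
  rw [lt_cutoff_iff]
  constructor
  · exact cond_of_finite hω I M s
  · intro h i hi
    exact Groth.Agent.H2.HT.Stab.finite_H_of_cond hω I M s h i hi

end Final

end Groth.Agent.H23.Faltings
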