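import Mathlib
import Groth.Agent.H23.Faltings1
import Groth.Agent.H58.LCFlat2
import Groth.Agent.H12.JacTFAE
import Groth.Agent.H44.ComplDepth
import Groth.Agent.H26.SkTensor
import Groth.Agent.S0376
import Groth.Agent.S1725

/-!
# Faltings' finiteness theorem: localization and completion steps

* `krullDim_Icc_comap_localization`, `member_eq`: the terms of the infimum defining `s_{A,I}(M)` are
  unchanged by localization.
* `finite_tensor_H_iff`: flat base change of finiteness of local cohomology.
* `local_main`: the theorem for a universally catenary Noetherian local ring.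
-/

set_option autoImplicit false
set_option linter.unusedSectionVars false
set_option linter.style.haveILetI false
universe u

open TensorProduct IsLocalRing

namespace Groth.Agent.H23.Faltings

section Loc

variable {A : Type u} [CommRing A] (S : Submonoid A) (B : Type u) [CommRing B] [Algebra A B]
  [IsLocalization S B]

include S in
/-- primes of `A` below the contraction of a prime of `B = S⁻¹A` are disjoint from `S` -/
theorem disjoint_of_le_comap (Q : PrimeSpectrum B) (r : PrimeSpectrum A)
    (hr : r ≤ PrimeSpectrum.comap (algebraMap A B) Q) : Disjoint (S : Set A) (r.asIdeal : Set A) := by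
  have h1 := ((IsLocalization.isPrime_iff_isPrime_disjoint S B Q.asIdeal).mp Q.2).2
  exact Set.disjoint_of_subset_right (fun x hx => hr hx) h1

/-- the prime of `B` generated by a prime of `A` disjoint from `S` -/
noncomputable def mapPrime (r : PrimeSpectrum A) (hr : Disjoint (S : Set A) (r.asIdeal : Set A)) :
    PrimeSpectrum B :=
  ⟨r.asIdeal.map (algebraMap A B), IsLocalization.isPrime_of_isPrime_disjoint S B _ r.2 hr⟩

theorem comap_mapPrime (r : PrimeSpectrum A) (hr : Disjoint (S : Set A) (r.asIdeal : Set A)) :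
    PrimeSpectrum.comap (algebraMap A B) (mapPrime S B r hr) = r :=
  PrimeSpectrum.ext (IsLocalization.under_map_of_isPrime_disjoint S B r.2 hr)

theorem mapPrime_comap (P : PrimeSpectrum B) (h) :
    mapPrime S B (PrimeSpectrum.comap (algebraMap A B) P) h = P :=
  PrimeSpectrum.ext (IsLocalization.map_under S B P.asIdeal)

include S in
theorem le_of_comap_le (P Q : PrimeSpectrum B)
    (h : PrimeSpectrum.comap (algebraMap A B) P ≤ PrimeSpectrum.comap (algebraMap A B) Q) :
    P ≤ Q := by
  have h1 : (P.asIdeal.comap (algebraMap A B)).map (algebraMap A B) ≤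
      (Q.asIdeal.comap (algebraMap A B)).map (algebraMap A B) := Ideal.map_mono h
  rwa [IsLocalization.map_under S B, IsLocalization.map_under S B] at h1

include S in
/-- intervals of primes are unchanged by localization -/
theorem krullDim_Icc_comap_localization (P Q : PrimeSpectrum B) :
    Order.krullDim (Set.Icc P Q) =
      Order.krullDim (Set.Icc (PrimeSpectrum.comap (algebraMap A B) P)
        (PrimeSpectrum.comap (algebraMap A B) Q)) := by
  apply le_antisymm
  · let f : Set.Icc P Q → Set.Icc (PrimeSpectrum.comap (algebraMap A B) P)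
        (PrimeSpectrum.comap (algebraMap A B) Q) := fun z =>
      ⟨PrimeSpectrum.comap (algebraMap A B) z.1,
        Groth.Agent.H23.CutoffCompl.comap_mono' _ z.2.1,
        Groth.Agent.H23.CutoffCompl.comap_mono' _ z.2.2⟩
    have hf : StrictMono f := by
      intro a b hab
      refine lt_of_le_not_ge (Groth.Agent.H23.CutoffCompl.comap_mono' _ hab.le) fun hba => ?_
      exact (not_le_of_gt hab) (le_of_comap_le S B b.1 a.1 hba)
    exact Order.krullDim_le_of_strictMono f hf
  · let g : Set.Icc (PrimeSpectrum.comap (algebraMap A B) P)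
        (PrimeSpectrum.comap (algebraMap A B) Q) → Set.Icc P Q := fun w =>
      ⟨mapPrime S B w.1 (disjoint_of_le_comap S B Q w.1 w.2.2), by
        refine ⟨le_of_comap_le S B _ _ ?_, le_of_comap_le S B _ _ ?_⟩
        · rw [comap_mapPrime]; exact w.2.1
        · rw [comap_mapPrime]; exact w.2.2⟩
    have hg : StrictMono g := by
      intro a b hab
      have hab' : a.1 < b.1 := hab
      refine lt_of_le_not_ge (show (g a).1.asIdeal ≤ (g b).1.asIdeal from
        Ideal.map_mono hab'.le) fun hba => ?_
      have h1 := Groth.Agent.H23.CutoffCompl.comap_mono' (algebraMap A B) hba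
      rw [comap_mapPrime, comap_mapPrime] at h1
      exact (not_le_of_gt hab') h1
    exact Order.krullDim_le_of_strictMono g hg

include S in
theorem height_Ici_comap_localization (P Q : PrimeSpectrum B) (hPQ : P ≤ Q) :
    Order.height (⟨Q, hPQ⟩ : Set.Ici P) =
      Order.height (⟨PrimeSpectrum.comap (algebraMap A B) Q,
        Groth.Agent.H23.CutoffCompl.comap_mono' _ hPQ⟩ :
          Set.Ici (PrimeSpectrum.comap (algebraMap A B) P)) := by
  have h1 := Groth.Agent.H23.Bootstrap.krullDim_Icc_eq_height_Ici P Q hPQ
  have h2 := Groth.Agent.H23.Bootstrap.krullDim_Icc_eq_height_Ici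
    (PrimeSpectrum.comap (algebraMap A B) P) (PrimeSpectrum.comap (algebraMap A B) Q)
    (Groth.Agent.H23.CutoffCompl.comap_mono' _ hPQ)
  rw [krullDim_Icc_comap_localization S B P Q, h2] at h1
  exact (WithBot.coe_injective h1).symm

end Loc

section Cutoff

variable {A : Type u} [CommRing A] [IsNoetherianRing A] (S : Submonoid A) (B : Type u) [CommRing B]
  [Algebra A B] [IsLocalization S B]
  (I : Ideal A) (M : Type u) [AddCommGroup M] [Module A M] [Module.Finite A M]
  (N : Type u) [AddCommGroup N] [Module B N] (e₀ : B ⊗[A] M ≃ₗ[B] N)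

include S e₀ in
/-- depth of the localization of `N = S⁻¹M` at a prime of `S⁻¹A` -/
theorem depth_comap_localization (P : PrimeSpectrum B) :
    LocCoh.depth (Localization.AtPrime P.asIdeal) (LocalizedModule P.asIdeal.primeCompl N) =
    LocCoh.depth (Localization.AtPrime (PrimeSpectrum.comap (algebraMap A B) P).asIdeal)
      (LocalizedModule (PrimeSpectrum.comap (algebraMap A B) P).asIdeal.primeCompl M) := by
  haveI : IsNoetherianRing B := IsLocalization.isNoetherianRing S B inferInstance
  haveI : Module.Flat A B := IsLocalization.flat B S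
  have hmin : P.asIdeal ∈ (((PrimeSpectrum.comap (algebraMap A B) P).asIdeal).map
      (algebraMap A B)).minimalPrimes := by
    have : ((PrimeSpectrum.comap (algebraMap A B) P).asIdeal).map (algebraMap A B) = P.asIdeal :=
      IsLocalization.map_under S B P.asIdeal
    rw [this, Ideal.minimalPrimes_eq_subsingleton_self]
    exact Set.mem_singleton _
  exact Groth.Agent.H44.ComplDepth.depth_eq (PrimeSpectrum.comap (algebraMap A B) P).asIdeal
    P.asIdeal rfl M N e₀ hmin

include S e₀ in
/-- `s_{A,I}(M) ≤ s_{S⁻¹A, I S⁻¹A}(S⁻¹M)` -/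
theorem cutoff_le_cutoff_localization :
    Dual2.cutoff A I M ≤ Dual2.cutoff B (I.map (algebraMap A B)) N := by
  rw [Dual2.cutoff.eq_def B]
  refine le_iInf fun P => le_iInf fun Q => le_iInf fun hPQ => le_iInf fun hIP =>
    le_iInf fun hIQ => ?_
  rw [depth_comap_localization S B M N e₀ P, height_Ici_comap_localization S B P Q hPQ,
    Dual2.cutoff.eq_def A]
  have hIp : ¬ I ≤ (PrimeSpectrum.comap (algebraMap A B) P).asIdeal :=
    fun h => hIP ((Ideal.map_mono h).trans Ideal.map_comap_le)
  have hIq : I ≤ (PrimeSpectrum.comap (algebraMap A B) Q).asIdeal :=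
    Ideal.map_le_iff_le_comap.mp hIQ
  exact iInf_le_of_le _ <| iInf_le_of_le _ <|
    iInf_le_of_le (Groth.Agent.H23.CutoffCompl.comap_mono' _ hPQ) <| iInf_le_of_le hIp <|
      iInf_le_of_le hIq le_rfl

include S e₀ in
/-- the term of a pair of primes of `S⁻¹A` bounds `s_{S⁻¹A, I S⁻¹A}(S⁻¹M)` -/
theorem cutoff_localization_le (P Q : PrimeSpectrum B) (hPQ : P ≤ Q)
    (hIP : ¬ I ≤ (PrimeSpectrum.comap (algebraMap A B) P).asIdeal)
    (hIQ : I ≤ (PrimeSpectrum.comap (algebraMap A B) Q).asIdeal) :
    Dual2.cutoff B (I.map (algebraMap A B)) N ≤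
      LocCoh.depth (Localization.AtPrime (PrimeSpectrum.comap (algebraMap A B) P).asIdeal)
        (LocalizedModule (PrimeSpectrum.comap (algebraMap A B) P).asIdeal.primeCompl M) +
      Order.height (⟨PrimeSpectrum.comap (algebraMap A B) Q,
        Groth.Agent.H23.CutoffCompl.comap_mono' _ hPQ⟩ :
          Set.Ici (PrimeSpectrum.comap (algebraMap A B) P)) := by
  rw [← depth_comap_localization S B M N e₀ P, ← height_Ici_comap_localization S B P Q hPQ,
    Dual2.cutoff.eq_def B]
  have h1 : ¬ I.map (algebraMap A B) ≤ P.asIdeal := fun h => hIP (Ideal.map_le_iff_le_comap.mp h)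
  have h2 : I.map (algebraMap A B) ≤ Q.asIdeal := Ideal.map_le_iff_le_comap.mpr hIQ
  exact iInf_le_of_le P <| iInf_le_of_le Q <| iInf_le_of_le hPQ <| iInf_le_of_le h1 <|
    iInf_le_of_le h2 le_rfl

end Cutoff

section FB

variable {R : Type u} [CommRing R] [IsNoetherianRing R] {R' : Type u} [CommRing R']
  [IsNoetherianRing R'] [Algebra R R'] [Module.Flat R R'] (I : Ideal R)
  (N : Type u) [AddCommGroup N] [Module R N] (N' : Type u) [AddCommGroup N'] [Module R' N']
  (e₀ : R' ⊗[R] N ≃ₗ[R'] N') (i : ℕ)

include e₀ in
/-- flat base change for local cohomology, with the base changed module replaced by an isomorphic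
one -/
theorem nonempty_tensor_H_equiv :
    Nonempty (R' ⊗[R] LocCoh.H I i N ≃ₗ[R'] LocCoh.H (I.map (algebraMap R R')) i N') := by
  obtain ⟨φ⟩ := Groth.Agent.H58.LC.fbProp (R' := R') I i N
  let ψ : LocCoh.H (I.map (algebraMap R R')) i (R' ⊗[R] N) ≃ₗ[R']
      LocCoh.H (I.map (algebraMap R R')) i N' :=
    ((localCohomology (I.map (algebraMap R R')) i).mapIso e₀.toModuleIso).toLinearEquiv
  exact ⟨φ ≪≫ₗ ψ⟩

include e₀ in
theorem finite_H_baseChange_of_finite_H (h : Module.Finite R (LocCoh.H I i N)) :
    Module.Finite R' (LocCoh.H (I.map (algebraMap R R')) i N') := by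
  obtain ⟨e⟩ := nonempty_tensor_H_equiv I N N' e₀ i
  exact Module.Finite.equiv e

include e₀ in
theorem finite_H_of_finite_H_baseChange [Module.FaithfullyFlat R R']
    (h : Module.Finite R' (LocCoh.H (I.map (algebraMap R R')) i N')) :
    Module.Finite R (LocCoh.H I i N) := by
  obtain ⟨e⟩ := nonempty_tensor_H_equiv I N N' e₀ i
  haveI : Module.Finite R' (R' ⊗[R] LocCoh.H I i N) := Module.Finite.equiv e.symm
  exact Module.Finite.of_finite_tensorProduct_of_faithfullyFlat R'

end FB

section LocFin

variable {A : Type u} [CommRing A] [IsNoetherianRing A] (I : Ideal A)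
  (M : Type u) [AddCommGroup M] [Module A M] (i : ℕ) (q : Ideal A) [q.IsPrime]

/-- the base change isomorphism `A_q ⊗ M ≃ M_q` -/
noncomputable def locEquiv : Localization.AtPrime q ⊗[A] M ≃ₗ[Localization.AtPrime q]
    LocalizedModule q.primeCompl M :=
  (IsLocalizedModule.isBaseChange q.primeCompl (Localization.AtPrime q)
    (LocalizedModule.mkLinearMap q.primeCompl M)).equiv

theorem finite_localizedModule_H
    (h : Module.Finite (Localization.AtPrime q)
      (LocCoh.H (I.map (algebraMap A (Localization.AtPrime q))) i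
        (LocalizedModule q.primeCompl M))) :
    Module.Finite (Localization.AtPrime q) (LocalizedModule q.primeCompl (LocCoh.H I i M)) := by
  haveI : IsNoetherianRing (Localization.AtPrime q) :=
    IsLocalization.isNoetherianRing q.primeCompl _ inferInstance
  obtain ⟨e⟩ := nonempty_tensor_H_equiv I M _ (locEquiv M q) i
  haveI : Module.Finite (Localization.AtPrime q) (Localization.AtPrime q ⊗[A] LocCoh.H I i M) :=
    Module.Finite.equiv e.symm
  exact Module.Finite.equiv (locEquiv (LocCoh.H I i M) q)

end LocFin

section Local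

variable (R : Type u) [CommRing R] [IsLocalRing R] [IsNoetherianRing R]

/-- **Faltings' theorem for a universally catenary Noetherian local ring**. -/
theorem local_main (hUC : CAlg.IsUniversallyCatenary R) (I : Ideal R)
    (N : Type u) [AddCommGroup N] [Module R N] [Module.Finite R N] (n : ℕ) :
    ((∀ i : ℕ, i ≤ n → Module.Finite R (LocCoh.H I i N)) → (n : ℕ∞) < Dual2.cutoff R I N) ∧
    (EGA4.HasCMFormalFibres R → (n : ℕ∞) < Dual2.cutoff R I N →
      ∀ i : ℕ, i ≤ n → Module.Finite R (LocCoh.H I i N)) := by
  have := Groth.Agent.H72.FormalEquidim.isLocalRing_compl R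
  have := Groth.Agent.H72.FormalEquidim.isNoetherianRing_compl R
  haveI : Module.Flat R (AdicCompletion (maximalIdeal R) R) := inferInstance
  haveI : Module.FaithfullyFlat R (AdicCompletion (maximalIdeal R) R) :=
    Groth.Agent.H12.JacTFAE.h12 R (maximalIdeal R)
      (by rw [IsLocalRing.jacobson_eq_maximalIdeal ⊥ bot_ne_top])
  haveI : IsAdicComplete (IsLocalRing.maximalIdeal (AdicCompletion (maximalIdeal R) R))
      (AdicCompletion (maximalIdeal R) R) :=
    AdicCompletion.isAdicComplete_of_fg (maximalIdeal R).fg_of_isNoetherianRing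
  obtain ⟨ω, hω⟩ := Groth.Agent.S0376.result (AdicCompletion (maximalIdeal R) R)
  let e₀ := AdicCompletion.ofTensorProductEquivOfFiniteNoetherian (maximalIdeal R) N
  haveI : Module.Finite (AdicCompletion (maximalIdeal R) R) (AdicCompletion (maximalIdeal R) N) :=
    Module.Finite.equiv e₀
  have hD := finite_iff_lt_cutoff hω (I.map (algebraMap R (AdicCompletion (maximalIdeal R) R)))
    (AdicCompletion (maximalIdeal R) N) n
  obtain ⟨h1, h2⟩ := Groth.Agent.S1725.result R hUC I N n
  constructor
  · intro hfin
    exact lt_of_lt_of_le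
      (hD.1 fun i hi => finite_H_baseChange_of_finite_H I N _ e₀ i (hfin i hi)) h1
  · intro hCM hlt i hi
    have hSn : EGA4.HasSnFormalFibres n R := fun p _ =>
      Groth.Agent.H26.SkTensor.hasSk_of_isCohenMacaulayRing n _ (hCM p)
    have h3 := h2 hSn
    have h4 : (n : ℕ∞) < min ((n : ℕ∞) + 1) (Dual2.cutoff R I N) :=
      lt_min (by exact_mod_cast Nat.lt_succ_self n) hlt
    exact finite_H_of_finite_H_baseChange I N _ e₀ i (hD.2 (lt_of_lt_of_le h4 h3) i hi)

end Local

end Groth.Agent.H23.Faltings
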