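import Mathlib
import Groth.Agent.S0390

/-!
# A flatness criterion by comparison with a flat module (towards EGA 0_IV 19.7.1)

`A` Noetherian local, `B` a Noetherian local `A`-algebra (local homomorphism), `C` a flat
`A`-module and `v : B → C` an `A`-linear map such that `k ⊗ B → k ⊗ C` is injective.  Then `B` is
flat over `A`.
-/

set_option autoImplicit false
set_option linter.style.haveILetI false
set_option linter.unusedSectionVars false

namespace Groth.Agent.H23.FlatOfAdic

open TensorProduct IsLocalRing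

universe u

section Star

variable {A : Type u} [CommRing A] {B C : Type u} [AddCommGroup B] [Module A B] [AddCommGroup C]
  [Module A C] (v : B →ₗ[A] C)

/-- If `k ⊗ B → k ⊗ C` is injective (`k = A/𝔪` a field) then so is `V ⊗ B → V ⊗ C` for every
`A`-module `V` killed by `𝔪`. -/
theorem lTensor_injective_of_killed (m : Ideal A) [m.IsMaximal]
    (hv : Function.Injective (v.lTensor (A ⧸ m)))
    (V : Type u) [AddCommGroup V] [Module A V] (hV : ∀ a ∈ m, ∀ x : V, a • x = 0) :
    Function.Injective (v.lTensor V) := by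
  letI : Field (A ⧸ m) := Ideal.Quotient.field m
  have htors : Module.IsTorsionBySet A V m := fun x a => hV a.1 a.2 x
  letI : Module (A ⧸ m) V := htors.module
  haveI : IsScalarTower A (A ⧸ m) V := htors.isScalarTower
  let eB := TensorProduct.AlgebraTensorModule.cancelBaseChange A (A ⧸ m) (A ⧸ m) V B
  let eC := TensorProduct.AlgebraTensorModule.cancelBaseChange A (A ⧸ m) (A ⧸ m) V C
  let vk : (A ⧸ m) ⊗[A] B →ₗ[A ⧸ m] (A ⧸ m) ⊗[A] C := v.baseChange (A ⧸ m)
  have hvk : Function.Injective vk := by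
    have h0 : (vk : (A ⧸ m) ⊗[A] B → (A ⧸ m) ⊗[A] C) = v.lTensor (A ⧸ m) :=
      LinearMap.baseChange_eq_ltensor _
    rw [h0]
    exact hv
  have h1 : Function.Injective (vk.lTensor V) :=
    Module.Flat.lTensor_preserves_injective_linearMap vk hvk
  have key : ∀ z, eC ((vk.lTensor V) z) = (v.lTensor V) (eB z) := by
    intro z
    induction z using TensorProduct.induction_on with
    | zero => simp
    | tmul x y =>
      induction y using TensorProduct.induction_on with
      | zero => simp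
      | tmul c b =>
        rw [LinearMap.lTensor_tmul]
        show eC (x ⊗ₜ (v.baseChange (A ⧸ m)) (c ⊗ₜ b)) = _
        rw [LinearMap.baseChange_tmul]
        show TensorProduct.AlgebraTensorModule.cancelBaseChange A (A ⧸ m) (A ⧸ m) V C
            (x ⊗ₜ (c ⊗ₜ v b)) =
          (v.lTensor V) (TensorProduct.AlgebraTensorModule.cancelBaseChange A (A ⧸ m) (A ⧸ m) V B
            (x ⊗ₜ (c ⊗ₜ b)))
        rw [TensorProduct.AlgebraTensorModule.cancelBaseChange_tmul,
          TensorProduct.AlgebraTensorModule.cancelBaseChange_tmul, LinearMap.lTensor_tmul]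
      | add y y' hy hy' => simp only [tmul_add, map_add, hy, hy']
    | add z z' hz hz' => simp only [map_add, hz, hz']
  intro z z' hzz
  have h2 : eC ((vk.lTensor V) (eB.symm z)) = eC ((vk.lTensor V) (eB.symm z')) := by
    rw [key, key, LinearEquiv.apply_symm_apply, LinearEquiv.apply_symm_apply, hzz]
  have h3 := h1 (eC.injective h2)
  exact eB.symm.injective h3

end Star

section Filtration

variable {A : Type u} [CommRing A] (m : Ideal A) [m.IsMaximal] {B C : Type u} [AddCommGroup B]
  [Module A B] [AddCommGroup C] [Module A C] [Module.Flat A C] (v : B →ₗ[A] C)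

/-- One step: an element of `I ⊗ B` dying in `I ⊗ C` comes from `I' ⊗ B` (dying in `I' ⊗ C`),
whenever `𝔪 I ⊆ I' ⊆ I`. -/
theorem step (hv : Function.Injective (v.lTensor (A ⧸ m))) (I I' : Ideal A) (hle : I' ≤ I)
    (hm : ∀ a ∈ m, ∀ x ∈ I, a * x ∈ I') (z : ↥I ⊗[A] B) (hz : (v.lTensor ↥I) z = 0) :
    ∃ w : ↥I' ⊗[A] B, (v.lTensor ↥I') w = 0 ∧ ((Submodule.inclusion hle).rTensor B) w = z := by
  set ι : ↥I' →ₗ[A] ↥I := Submodule.inclusion hle with hι
  have hιinj : Function.Injective ι := Submodule.inclusion_injective hle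
  set q := (LinearMap.range ι).mkQ with hq
  have hqsurj : Function.Surjective q := Submodule.mkQ_surjective _
  have hex : Function.Exact ι q := LinearMap.exact_map_mkQ_range ι
  have hV : ∀ a ∈ m, ∀ x : ↥I ⧸ LinearMap.range ι, a • x = 0 := by
    intro a ha x
    obtain ⟨y, rfl⟩ := hqsurj x
    rw [← map_smul, hq, Submodule.mkQ_apply, Submodule.Quotient.mk_eq_zero]
    exact ⟨⟨a * y.1, hm a ha y.1 y.2⟩, Subtype.ext rfl⟩
  have hinjV := lTensor_injective_of_killed v m hv (↥I ⧸ LinearMap.range ι) hV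
  have hexB : Function.Exact (ι.rTensor B) (q.rTensor B) := rTensor_exact B hex hqsurj
  have h1 : (q.rTensor B) z = 0 := by
    apply hinjV
    rw [map_zero, ← LinearMap.comp_apply, LinearMap.lTensor_comp_rTensor,
      ← LinearMap.rTensor_comp_lTensor, LinearMap.comp_apply, hz, map_zero]
  obtain ⟨w, hw⟩ := (hexB z).mp h1
  refine ⟨w, ?_, hw⟩
  have hιC : Function.Injective (ι.rTensor C) :=
    Module.Flat.rTensor_preserves_injective_linearMap ι hιinj
  apply hιC
  rw [map_zero, ← LinearMap.comp_apply, LinearMap.rTensor_comp_lTensor,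
    ← LinearMap.lTensor_comp_rTensor, LinearMap.comp_apply, hw, hz]

/-- Iterating: an element of `𝔪 ⊗ B` dying in `𝔪 ⊗ C` comes from `𝔪^(i+1) ⊗ B` for every `i`. -/
theorem chain (hv : Function.Injective (v.lTensor (A ⧸ m))) (z : ↥m ⊗[A] B)
    (hz : (v.lTensor ↥m) z = 0) (i : ℕ) :
    ∃ w : ↥(m ^ (i + 1)) ⊗[A] B, (v.lTensor ↥(m ^ (i + 1))) w = 0 ∧
      ((Submodule.inclusion (Ideal.pow_le_self (Nat.succ_ne_zero i) : m ^ (i + 1) ≤ m)).rTensor B)
        w = z := by
  induction i with
  | zero =>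
    have h1 : m ≤ m ^ (0 + 1) := by rw [zero_add, pow_one]
    have h2 : ∀ a ∈ m, ∀ x ∈ m, a * x ∈ m := fun a _ x hx => Ideal.mul_mem_left _ _ hx
    refine ⟨((Submodule.inclusion h1).rTensor B) z, ?_, ?_⟩
    · rw [← LinearMap.comp_apply, LinearMap.lTensor_comp_rTensor,
        ← LinearMap.rTensor_comp_lTensor, LinearMap.comp_apply, hz, map_zero]
    · rw [← LinearMap.comp_apply, ← LinearMap.rTensor_comp]
      have : (Submodule.inclusion (Ideal.pow_le_self (Nat.succ_ne_zero 0) : m ^ (0 + 1) ≤ m)) ∘ₗ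
          (Submodule.inclusion h1) = LinearMap.id := by
        ext x
        rfl
      rw [this, LinearMap.rTensor_id, LinearMap.id_apply]
  | succ i ih =>
    obtain ⟨w, hw0, hw⟩ := ih
    have hle : m ^ (i + 1 + 1) ≤ m ^ (i + 1) := Ideal.pow_le_pow_right (Nat.le_succ _)
    have hm : ∀ a ∈ m, ∀ x ∈ m ^ (i + 1), a * x ∈ m ^ (i + 1 + 1) := by
      intro a ha x hx
      rw [pow_succ, mul_comm a x]
      exact Ideal.mul_mem_mul hx ha
    obtain ⟨w', hw'0, hw'⟩ := step m v hv (m ^ (i + 1)) (m ^ (i + 1 + 1)) hle hm w hw0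
    refine ⟨w', hw'0, ?_⟩
    rw [← hw, ← hw', ← LinearMap.comp_apply, ← LinearMap.rTensor_comp]
    rfl

end Filtration

section Main

variable {A B : Type u} [CommRing A] [CommRing B] [IsLocalRing A] [IsLocalRing B]
  [IsNoetherianRing A] [IsNoetherianRing B] [Algebra A B] [IsLocalHom (algebraMap A B)]

/-- Pure tensors `b ⊗ a` with `a ∈ 𝔪^(i+1)` lie in `𝔫^i (B ⊗ 𝔪)`. -/
theorem tmul_mem_pow_smul (i : ℕ) (b : B) (a : A) (ha : a ∈ maximalIdeal A)
    (hai : a ∈ maximalIdeal A ^ (i + 1)) :
    b ⊗ₜ[A] (⟨a, ha⟩ : ↥(maximalIdeal A)) ∈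
      (maximalIdeal B ^ i • ⊤ : Submodule B (B ⊗[A] ↥(maximalIdeal A))) := by
  induction i generalizing b a with
  | zero => rw [pow_zero, Ideal.one_eq_top, Submodule.top_smul]; exact Submodule.mem_top
  | succ i ih =>
    rw [pow_succ'] at hai
    have key : ∃ ha' : a ∈ maximalIdeal A, b ⊗ₜ[A] (⟨a, ha'⟩ : ↥(maximalIdeal A)) ∈
        (maximalIdeal B ^ (i + 1) • ⊤ : Submodule B (B ⊗[A] ↥(maximalIdeal A))) := by
      refine Submodule.mul_induction_on hai ?_ ?_
      · intro a' ha' a'' ha''
        have ha : a' * a'' ∈ maximalIdeal A := Ideal.mul_mem_right _ _ ha'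
        refine ⟨ha, ?_⟩
        have h1 : (⟨a' * a'', ha⟩ : ↥(maximalIdeal A)) = a' • ⟨a'', Ideal.pow_le_self
            (Nat.succ_ne_zero i) ha''⟩ := Subtype.ext (by simp [smul_eq_mul])
        rw [h1, ← TensorProduct.smul_tmul, Algebra.smul_def,
          ← smul_eq_mul (algebraMap A B a') b, ← TensorProduct.smul_tmul', pow_succ',
          ← smul_eq_mul (maximalIdeal B) (maximalIdeal B ^ i), smul_assoc]
        refine Submodule.smul_mem_smul ?_ (ih b a'' _ ha'')
        rw [mem_maximalIdeal, mem_nonunits_iff] at ha' ⊢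
        intro hu
        exact ha' (isUnit_of_map_unit (algebraMap A B) a' hu)
      · rintro x y ⟨hx, hx'⟩ ⟨hy, hy'⟩
        refine ⟨Ideal.add_mem _ hx hy, ?_⟩
        have h1 : (⟨x + y, Ideal.add_mem _ hx hy⟩ : ↥(maximalIdeal A)) = ⟨x, hx⟩ + ⟨y, hy⟩ := rfl
        rw [h1, tmul_add]
        exact Submodule.add_mem _ hx' hy'
    obtain ⟨_, h⟩ := key
    exact h


/-- **Lemma F**: flatness by comparison with a flat module. -/
theorem flat_of_comparison {C : Type u} [AddCommGroup C] [Module A C] [Module.Flat A C]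
    (v : B →ₗ[A] C) (hv : Function.Injective (v.lTensor (A ⧸ maximalIdeal A))) :
    Module.Flat A B := by
  apply Groth.Agent.S0390.result (R := A) (S := B) (M := B)
  rw [injective_iff_map_eq_zero]
  intro z hz
  have h0 : (v.lTensor ↥(maximalIdeal A)) z = 0 := by
    apply Module.Flat.rTensor_preserves_injective_linearMap (M := C)
      (Submodule.subtype (maximalIdeal A)) (Submodule.injective_subtype _)
    rw [map_zero, ← LinearMap.comp_apply, LinearMap.rTensor_comp_lTensor,
      ← LinearMap.lTensor_comp_rTensor, LinearMap.comp_apply, hz, map_zero]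
  have hK : (TensorProduct.comm A ↥(maximalIdeal A) B) z ∈
      (⨅ i : ℕ, maximalIdeal B ^ i • ⊤ : Submodule B (B ⊗[A] ↥(maximalIdeal A))) := by
    rw [Submodule.mem_iInf]
    intro i
    obtain ⟨w, -, hw⟩ := chain (maximalIdeal A) v hv z h0 i
    rw [← hw]
    clear hw
    induction w using TensorProduct.induction_on with
    | zero => rw [map_zero, map_zero]; exact Submodule.zero_mem _
    | tmul a b =>
      rw [LinearMap.rTensor_tmul, TensorProduct.comm_tmul]
      exact tmul_mem_pow_smul i b a.1 _ a.2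
    | add x y hx hy =>
      rw [map_add, map_add]
      exact Submodule.add_mem _ hx hy
  rw [Ideal.iInf_pow_smul_eq_bot_of_isLocalRing _ (maximalIdeal.isMaximal B).ne_top,
    Submodule.mem_bot] at hK
  exact (LinearEquiv.map_eq_zero_iff _).mp hK

end Main

end Groth.Agent.H23.FlatOfAdic
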