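import Mathlib
import Groth.Agent.H13.PBasisKaehler

/-!
# A decreasing filtered family of cofinite subfields `k ⊇ F_J ⊇ k^p` with `⋂ F_J = k^p`
(EGA 0_IV 21.8.?, Stacks 07P0): `F_J = k^p(B ∖ J)` for a `p`-basis `B` and finite `J ⊆ B`.
-/

set_option autoImplicit false
set_option linter.unusedSectionVars false
set_option linter.style.haveILetI false
set_option linter.unusedVariables false
universe u

namespace Groth.Agent.H23.GRFam

open EGA41 KaehlerDifferential Groth.Agent.H13.PB

variable (p : ℕ) [hp : Fact p.Prime] (k : Type u) [Field k] [CharP k p]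

/-- elements of `k₀[k^p]` for the prime field `k₀` are `p`-th powers. -/
theorem exists_pow_of_mem_pPower (z : k) (hz : z ∈ pPowerSubalgebra p (⊥ : Subfield k) k) :
    ∃ y : k, y ^ p = z := by
  haveI : ExpChar k p := ExpChar.prime hp.out
  let F : Subalgebra (⊥ : Subfield k) k :=
    { (frobenius k p).fieldRange.toSubring with
      algebraMap_mem' := fun c => by
        have h1 : (⊥ : Subfield k) ≤ (frobenius k p).fieldRange := bot_le
        exact h1 c.2 }
  have hle : pPowerSubalgebra p (⊥ : Subfield k) k ≤ F := by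
    unfold pPowerSubalgebra
    rw [Algebra.adjoin_le_iff]
    rintro _ ⟨b, rfl⟩
    exact ⟨b, rfl⟩
  obtain ⟨y, hy⟩ := hle hz
  exact ⟨y, hy⟩

variable {k} in
/-- the set `B ∖ J`. -/
def compl (B : Set k) (J : Finset B) : Set k := {b | ∃ h : b ∈ B, (⟨b, h⟩ : B) ∉ J}

variable {k} in
/-- the subfield `k^p(B ∖ J)`. -/
def FJ (B : Set k) (J : Finset B) : Subfield k :=
  { (Algebra.adjoin (pPowerSubalgebra p (⊥ : Subfield k) k) (compl B J)).toSubring with
    inv_mem' := fun c hc =>
      inv_mem_of_pow_mem p (Algebra.adjoin (pPowerSubalgebra p (⊥ : Subfield k) k) (compl B J))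
        (pow_mem_adjoin_pPower p (compl B J)) c hc }

variable {k}

theorem mem_FJ (B : Set k) (J : Finset B) (z : k) :
    z ∈ FJ p B J ↔ z ∈ Algebra.adjoin (pPowerSubalgebra p (⊥ : Subfield k) k) (compl B J) :=
  Iff.rfl

theorem FJ_antitone (B : Set k) : Antitone (FJ p B) := by
  intro J J' hJ z hz
  rw [mem_FJ] at hz ⊢
  refine Algebra.adjoin_mono ?_ hz
  rintro b ⟨hb, hbJ⟩
  exact ⟨hb, fun h => hbJ (hJ h)⟩

theorem pow_mem_FJ (B : Set k) (J : Finset B) (x : k) : x ^ p ∈ FJ p B J :=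
  pow_mem_adjoin_pPower p (compl B J) x

theorem finite_FJ (B : Set k)
    (hB : IsPBasis p (⊥ : Subfield k) (Subtype.val : B → k)) (J : Finset B) :
    Module.Finite (FJ p B J) k := by
  classical
  have htop : Algebra.adjoin (pPowerSubalgebra p (⊥ : Subfield k) k) B = ⊤ := by
    have := (adjoin_eq_top_iff_isPGenerating p (A := (⊥ : Subfield k))
      (Subtype.val : B → k)).mpr hB.2
    rwa [Subtype.range_coe] at this
  let S : Set k := Subtype.val '' (J : Set B)
  have hSfin : S.Finite := (Finset.finite_toSet J).image _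
  have hint : ∀ x ∈ S, IsIntegral (FJ p B J) x := by
    intro x _
    refine ⟨Polynomial.X ^ p - Polynomial.C (⟨x ^ p, pow_mem_FJ p B J x⟩ : FJ p B J),
      Polynomial.monic_X_pow_sub_C _ hp.out.ne_zero, ?_⟩
    simp only [Polynomial.eval₂_sub, Polynomial.eval₂_pow, Polynomial.eval₂_X,
      Polynomial.eval₂_C]
    rw [sub_eq_zero]
    rfl
  have hfg := fg_adjoin_of_finite hSfin hint
  have hU : Algebra.adjoin (FJ p B J) S = ⊤ := by
    rw [eq_top_iff]
    rintro z -
    have hz : z ∈ Algebra.adjoin (pPowerSubalgebra p (⊥ : Subfield k) k) B := by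
      rw [htop]; exact Algebra.mem_top
    induction hz using Algebra.adjoin_induction with
    | mem b hb =>
      by_cases hbJ : (⟨b, hb⟩ : B) ∈ J
      · exact Algebra.subset_adjoin ⟨⟨b, hb⟩, hbJ, rfl⟩
      · have : b ∈ FJ p B J := Algebra.subset_adjoin ⟨hb, hbJ⟩
        exact Subalgebra.algebraMap_mem _ (⟨b, this⟩ : FJ p B J)
    | algebraMap c =>
      have : (c : k) ∈ FJ p B J := Subalgebra.algebraMap_mem _ c
      exact Subalgebra.algebraMap_mem _ (⟨c, this⟩ : FJ p B J)
    | add a b _ _ ha hb => exact add_mem ha hb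
    | mul a b _ _ ha hb => exact mul_mem ha hb
  rw [hU] at hfg
  exact ⟨by simpa using hfg⟩

theorem exists_pow_of_forall_mem_FJ (B : Set k)
    (hB : IsPBasis p (⊥ : Subfield k) (Subtype.val : B → k)) (z : k)
    (hz : ∀ J, z ∈ FJ p B J) : ∃ y : k, y ^ p = z := by
  classical
  obtain ⟨β, hβ⟩ := exists_basis_kaehler_of_isPBasis p (Subtype.val : B → k) hB
  let J₀ : Finset B := (β.repr (D (⊥ : Subfield k) k z)).support
  have h1 := (mem_adjoin_iff_D_mem_span p (k := (⊥ : Subfield k)) (compl B J₀) z).mp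
    ((mem_FJ p B J₀ z).mp (hz J₀))
  have himg : D (⊥ : Subfield k) k '' (compl B J₀) = β '' ((J₀ : Set B)ᶜ) := by
    ext ω
    constructor
    · rintro ⟨b, ⟨hb, hbJ⟩, rfl⟩
      exact ⟨⟨b, hb⟩, hbJ, hβ _⟩
    · rintro ⟨b, hbJ, rfl⟩
      exact ⟨b.1, ⟨b.2, hbJ⟩, (hβ b).symm⟩
  rw [himg, Module.Basis.mem_span_image] at h1
  have h2 : (β.repr (D (⊥ : Subfield k) k z)).support = ∅ := by
    rw [Finset.eq_empty_iff_forall_notMem]
    intro b hb
    exact h1 hb hb
  have h3 : D (⊥ : Subfield k) k z = 0 := by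
    rw [Finsupp.support_eq_empty] at h2
    exact β.repr.map_eq_zero_iff.mp h2
  have h4 : z ∈ Algebra.adjoin (pPowerSubalgebra p (⊥ : Subfield k) k) (∅ : Set k) := by
    rw [mem_adjoin_iff_D_mem_span, h3]
    exact Submodule.zero_mem _
  rw [Algebra.adjoin_empty, Algebra.mem_bot] at h4
  obtain ⟨r, rfl⟩ := h4
  exact exists_pow_of_mem_pPower p k _ r.2

variable (k) in
/-- **The cofinite family.** -/
theorem exists_family :
    ∃ (Λ : Type u) (F : Finset Λ → Subfield k), Antitone F ∧ (∀ J (x : k), x ^ p ∈ F J) ∧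
      (∀ J, Module.Finite (F J) k) ∧ ∀ z : k, (∀ J, z ∈ F J) → ∃ y : k, y ^ p = z := by
  obtain ⟨B, -, -, hB⟩ := exists_isPBasis_between (k := (⊥ : Subfield k)) p (Set.univ : Set k) ∅
    (Set.empty_subset _) (isPGenerating_univ p) (isPIndependent_empty p)
  exact ⟨B, FJ p B, FJ_antitone p B, pow_mem_FJ p B, finite_FJ p B hB,
    exists_pow_of_forall_mem_FJ p B hB⟩

end Groth.Agent.H23.GRFam
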