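import Mathlib
import Groth.Agent.H23.GRCrit

/-!
# Generic formal fibres from `GF` of finite injective domains

* `exists_finite_subalgebra_of_isLocalization` : a finite `S`-subalgebra of a field with that
  fraction field, `S` a localization of `A`, can be replaced by a finite `A`-subalgebra.
* `geomReg_generic_of_GF` : for a Noetherian domain `A` all of whose finite injective domains have
  `GF`, the generic formal fibre of every local ring `A_P` is geometrically regular.
-/

set_option autoImplicit false
set_option linter.style.haveILetI false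
set_option linter.unusedSectionVars false
set_option linter.unusedVariables false
universe u

namespace Groth.Agent.H23.GR

open IsLocalRing TensorProduct

set_option backward.isDefEq.respectTransparency false in
theorem exists_finite_subalgebra_of_isLocalization {A S : Type u} [CommRing A] [CommRing S]
    [Algebra A S] (M : Submonoid A) [IsLocalization M S] (k' : Type u) [Field k'] [Algebra A k']
    [Algebra S k'] [IsScalarTower A S k'] (D₁ : Subalgebra S k') (hfin : Module.Finite S D₁)
    (hfrac : IsFractionRing D₁ k') :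
    ∃ D : Subalgebra A k', Module.Finite A D ∧ IsFractionRing D k' := by
  classical
  haveI : Algebra.IsIntegral S D₁ := Algebra.IsIntegral.of_finite S D₁
  have hint : ∀ z : D₁, IsIntegral S (z : k') := fun z =>
    (Algebra.IsIntegral.isIntegral (R := S) z).map (D₁.val)
  have hmul : ∀ z : D₁, ∃ m : M, IsIntegral A (m • (z : k')) := fun z =>
    IsIntegral.exists_multiple_integral_of_isLocalization M (z : k') (hint z)
  choose m hm using hmul
  obtain ⟨s, hs⟩ := (Module.Finite.fg_top : (⊤ : Submodule S D₁).FG)
  let T : Set k' := (fun z : D₁ => m z • (z : k')) '' (s : Set D₁)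
  let D : Subalgebra A k' := Algebra.adjoin A T
  have hfinD : Module.Finite A D :=
    Algebra.finite_adjoin_of_finite_of_isIntegral (s.finite_toSet.image _)
      (by rintro _ ⟨z, _, rfl⟩; exact hm z)
  refine ⟨D, hfinD, ?_⟩
  -- units
  have hM : ∀ a : M, algebraMap A k' a ≠ 0 := by
    intro a
    rw [IsScalarTower.algebraMap_apply A S k']
    exact ((IsLocalization.map_units S a).map (algebraMap S k')).ne_zero
  let F : Set k' := {z | ∃ x y : D, z = algebraMap D k' x / algebraMap D k' y}
  have hAF : ∀ a : A, algebraMap A k' a ∈ (D : Set k') := fun a => D.algebraMap_mem a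
  have hFadd : ∀ x y : k', x ∈ F → y ∈ F → x + y ∈ F := by
    rintro _ _ ⟨x1, x2, rfl⟩ ⟨y1, y2, rfl⟩
    by_cases h2 : algebraMap D k' x2 = 0
    · refine ⟨y1, y2, ?_⟩
      rw [h2, div_zero, zero_add]
    by_cases h3 : algebraMap D k' y2 = 0
    · refine ⟨x1, x2, ?_⟩
      rw [h3, div_zero, add_zero]
    refine ⟨x1 * y2 + y1 * x2, x2 * y2, ?_⟩
    rw [map_add, map_mul, map_mul, map_mul]
    field_simp
  have hFmul : ∀ x y : k', x ∈ F → y ∈ F → x * y ∈ F := by
    rintro _ _ ⟨x1, x2, rfl⟩ ⟨y1, y2, rfl⟩
    refine ⟨x1 * y1, x2 * y2, ?_⟩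
    rw [map_mul, map_mul, mul_div_mul_comm]
  have hFdiv : ∀ x y : k', x ∈ F → y ∈ F → x / y ∈ F := by
    rintro _ _ ⟨x1, x2, rfl⟩ ⟨y1, y2, rfl⟩
    refine ⟨x1 * y2, x2 * y1, ?_⟩
    rw [map_mul, map_mul, div_div_div_eq]
  have hFD : ∀ d : D, algebraMap D k' d ∈ F := fun d => ⟨d, 1, by rw [map_one, div_one]⟩
  have hFA : ∀ a : A, algebraMap A k' a ∈ F := fun a => hFD ⟨_, hAF a⟩
  have hFS : ∀ c : S, algebraMap S k' c ∈ F := by
    intro c
    obtain ⟨⟨a, t⟩, hat⟩ := IsLocalization.surj M c
    have h1 : algebraMap S k' c = algebraMap A k' a / algebraMap A k' t := by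
      rw [eq_div_iff (hM t), IsScalarTower.algebraMap_apply A S k' a,
        IsScalarTower.algebraMap_apply A S k' t, ← map_mul, hat]
    rw [h1]
    exact hFdiv _ _ (hFA a) (hFA t)
  have hFs : ∀ z ∈ s, (z : k') ∈ F := by
    intro z hz
    have h1 : (z : k') = (m z • (z : k')) / algebraMap A k' (m z) := by
      rw [Submonoid.smul_def, Algebra.smul_def, mul_div_assoc, mul_comm,
        div_mul_cancel₀ _ (hM (m z))]
    rw [h1]
    exact hFdiv _ _ (hFD ⟨_, Algebra.subset_adjoin ⟨z, hz, rfl⟩⟩) (hFA _)
  have hFD₁ : ∀ z : D₁, (z : k') ∈ F := by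
    intro z
    have hz : z ∈ Submodule.span S (s : Set D₁) := by rw [hs]; trivial
    induction hz using Submodule.span_induction with
    | mem z hz => exact hFs z hz
    | zero => exact ⟨0, 1, by simp⟩
    | add x y _ _ hx hy =>
      rw [Subalgebra.coe_add]
      exact hFadd _ _ hx hy
    | smul c z _ hz =>
      have : ((c • z : D₁) : k') = algebraMap S k' c * (z : k') := by
        rw [Subalgebra.coe_smul, Algebra.smul_def]
      rw [this]
      exact hFmul _ _ (hFS c) hz
  have hF : ∀ z : k', z ∈ F := by
    intro z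
    obtain ⟨x, y, _, rfl⟩ := IsFractionRing.div_surjective (A := D₁) z
    exact hFdiv _ _ (hFD₁ x) (hFD₁ y)
  haveI : FaithfulSMul D k' := (faithfulSMul_iff_algebraMap_injective D k').mpr
    Subtype.val_injective
  exact IsFractionRing.of_field (R := D) (K := k') (fun z => hF z)

open Groth.Agent.H26.RegHomDescent in
set_option backward.isDefEq.respectTransparency false in
/-- **Generic formal fibres.** For a Noetherian domain `A` all of whose finite injective domains
have `GF`, the formal fibre of `A_P` over the zero ideal is geometrically regular. -/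
theorem geomReg_generic_of_GF (A : Type u) [CommRing A] [IsDomain A] [IsNoetherianRing A]
    (h : ∀ (D : Type u) [CommRing D] [IsDomain D] [Algebra A D] [Module.Finite A D],
      Function.Injective (algebraMap A D) → GF D)
    (P : Ideal A) [P.IsPrime] (𝔮 : Ideal (Localization.AtPrime P)) [𝔮.IsPrime] (h𝔮 : 𝔮 = ⊥) :
    CAlg.IsGeometricallyRegular 𝔮.ResidueField
      (𝔮.Fiber (AdicCompletion (maximalIdeal (Localization.AtPrime P))
        (Localization.AtPrime P))) := by
  intro k' _ _ hfin
  letI : Algebra (Localization.AtPrime P) k' :=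
    ((algebraMap 𝔮.ResidueField k').comp
      (algebraMap (Localization.AtPrime P) 𝔮.ResidueField)).toAlgebra
  haveI : IsScalarTower (Localization.AtPrime P) 𝔮.ResidueField k' :=
    IsScalarTower.of_algebraMap_eq (fun _ => rfl)
  letI : Algebra A k' :=
    ((algebraMap (Localization.AtPrime P) k').comp (algebraMap A (Localization.AtPrime P))).toAlgebra
  haveI : IsScalarTower A (Localization.AtPrime P) k' := IsScalarTower.of_algebraMap_eq (fun _ => rfl)
  -- injectivity of `A → k'`
  have hinjAS : Function.Injective (algebraMap A (Localization.AtPrime P)) :=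
    IsLocalization.injective _ (Ideal.primeCompl_le_nonZeroDivisors P)
  have hinjSk : Function.Injective (algebraMap (Localization.AtPrime P) k') := by
    rw [injective_iff_map_eq_zero]
    intro x hx
    rw [IsScalarTower.algebraMap_apply (Localization.AtPrime P) 𝔮.ResidueField k',
      map_eq_zero_iff _ (algebraMap 𝔮.ResidueField k').injective,
      Ideal.algebraMap_residueField_eq_zero, h𝔮] at hx
    exact hx
  have hinjAk : Function.Injective (algebraMap A k') := by
    rw [IsScalarTower.algebraMap_eq A (Localization.AtPrime P) k']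
    exact hinjSk.comp hinjAS
  -- the finite subalgebra
  obtain ⟨D₁, hD₁fin, hD₁frac⟩ :=
    Groth.Agent.H26.FormalFibreFinite.exists_finite_subalgebra_isFractionRing 𝔮 k'
  obtain ⟨D, hDfin, hDfrac⟩ := exists_finite_subalgebra_of_isLocalization P.primeCompl k' D₁
    hD₁fin hD₁frac
  have hinjAD : Function.Injective (algebraMap A D) := by
    intro a b hab
    apply hinjAk
    exact congrArg Subtype.val hab
  have hGF : GF D := h D hinjAD
  have hLR : ∀ (𝔔 : Ideal (k' ⊗[A] AdicCompletion (maximalIdeal (Localization.AtPrime P))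
      (Localization.AtPrime P))) [𝔔.IsPrime], IsRegularLocalRing (Localization.AtPrime 𝔔) :=
    (Groth.Agent.H26.FormalFibreFinite.forall_prime_iff (fun X _ => IsRegularLocalRing X)
      (fun X Y _ _ e h => Groth.Agent.H26.FormalFibreFinite.isRegularLocalRing_of_ringEquiv' e h)
      A D _ k').mpr (fun q _ hq0 => isRegularLocalRing_tensor_atPrime_of_GF A D hGF P q hq0)
  -- Noetherianity
  haveI hNq : IsNoetherianRing (𝔮.Fiber (AdicCompletion (maximalIdeal (Localization.AtPrime P))
      (Localization.AtPrime P))) := Groth.Agent.H26.SkFlat.isNoetherianRing_fiber _ 𝔮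
  have hN0 : IsNoetherianRing ((𝔮.Fiber (AdicCompletion (maximalIdeal (Localization.AtPrime P))
      (Localization.AtPrime P))) ⊗[𝔮.ResidueField] k') := IsNoetherianRing.of_finite
    (𝔮.Fiber (AdicCompletion (maximalIdeal (Localization.AtPrime P)) (Localization.AtPrime P)))
    ((𝔮.Fiber (AdicCompletion (maximalIdeal (Localization.AtPrime P))
      (Localization.AtPrime P))) ⊗[𝔮.ResidueField] k')
  have hN1 : IsNoetherianRing (k' ⊗[𝔮.ResidueField] 𝔮.Fiber (AdicCompletion
      (maximalIdeal (Localization.AtPrime P)) (Localization.AtPrime P))) :=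
    isNoetherianRing_of_ringEquiv _ (Algebra.TensorProduct.comm 𝔮.ResidueField _ k').toRingEquiv
  let e : k' ⊗[𝔮.ResidueField] 𝔮.Fiber (AdicCompletion
      (maximalIdeal (Localization.AtPrime P)) (Localization.AtPrime P)) ≃+*
      k' ⊗[A] AdicCompletion (maximalIdeal (Localization.AtPrime P)) (Localization.AtPrime P) :=
    (tensorFiberEquiv (Localization.AtPrime P) _ k' 𝔮).symm.trans
      (IsLocalization.algebraTensorEquiv P.primeCompl (Localization.AtPrime P) k' _).toRingEquiv
  haveI : IsNoetherianRing (k' ⊗[A] AdicCompletion (maximalIdeal (Localization.AtPrime P))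
      (Localization.AtPrime P)) := isNoetherianRing_of_ringEquiv
    (k' ⊗[𝔮.ResidueField] 𝔮.Fiber (AdicCompletion
      (maximalIdeal (Localization.AtPrime P)) (Localization.AtPrime P))) e
  have hreg : IsRegularRing (k' ⊗[A] AdicCompletion (maximalIdeal (Localization.AtPrime P))
      (Localization.AtPrime P)) := isRegularRing_iff.mpr hLR
  exact @IsRegularRing.of_ringEquiv _ _ _ _ e.symm hreg

end Groth.Agent.H23.GR
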