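import Mathlib
import Groth.Agent.H10.PSInter1

/-!
# The subrings `E[[T^p]] ⊆ k[[T]]` (EGA 0_IV 21.8.8, Stacks 07P1)

For a field `k` of characteristic `p` and a subfield `E ⊇ k^p`, the subring `SE p E` of
`k[[T_σ]]` of the power series `∑ a_m T^{pm}` with `a_m ∈ E`:
* contains all `p`-th powers;
* `k[[T]]` is free of finite rank over it when `k` is finite over `E`;
* `Frac(SE) ∩ k[[T]] = SE`.
-/

set_option autoImplicit false
set_option linter.unusedSectionVars false
set_option linter.style.haveILetI false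
set_option linter.unusedVariables false
set_option linter.unusedSimpArgs false
universe u

namespace Groth.Agent.H23.GRPS

open MvPowerSeries
open scoped Classical

variable {k : Type u} [Field k] (p : ℕ) [hp : Fact p.Prime] {σ : Type*}

/-- quotient of an exponent vector by `p`. -/
noncomputable def qt (m : σ →₀ ℕ) : σ →₀ ℕ := m.mapRange (fun x => x / p) (Nat.zero_div p)

@[simp] theorem qt_apply (m : σ →₀ ℕ) (i : σ) : qt p m i = m i / p := by
  simp [qt]

/-- remainder of an exponent vector mod `p`. -/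
def rm (m : σ →₀ ℕ) : σ → Fin p := fun i => ⟨m i % p, Nat.mod_lt _ hp.out.pos⟩

theorem qt_smul (m : σ →₀ ℕ) : qt p (p • m) = m := by
  ext i
  simp [Nat.mul_div_cancel_left _ hp.out.pos]

theorem smul_qt_of_dvd (m : σ →₀ ℕ) (h : ∀ i, p ∣ m i) : p • qt p m = m := by
  ext i
  simp [Nat.mul_div_cancel' (h i)]

/-- the embedding `E[[T]] → k[[T]]`, `∑ a_m T^m ↦ ∑ a_m T^{pm}`. -/
noncomputable def phi (E : Subfield k) : MvPowerSeries σ E →+* MvPowerSeries σ k :=
  (expand p hp.out.ne_zero : MvPowerSeries σ k →ₐ[k] MvPowerSeries σ k).toRingHom.comp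
    (MvPowerSeries.map E.subtype)

theorem coeff_phi (E : Subfield k) (h : MvPowerSeries σ E) (m : σ →₀ ℕ) :
    coeff m (phi p E h) = if ∀ i, p ∣ m i then ((coeff (qt p m) h : E) : k) else 0 := by
  split_ifs with hm
  · conv_lhs => rw [← smul_qt_of_dvd p m hm]
    show coeff (p • qt p m) (expand p hp.out.ne_zero (MvPowerSeries.map E.subtype h)) = _
    rw [coeff_expand_smul, coeff_map]
    rfl
  · push Not at hm
    obtain ⟨i, hi⟩ := hm
    exact coeff_expand_of_not_dvd p hp.out.ne_zero _ hi

theorem phi_injective (E : Subfield k) : Function.Injective (phi p E (σ := σ)) := by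
  intro h₁ h₂ h
  ext m
  have := congrArg (coeff (p • m)) h
  rw [coeff_phi, coeff_phi, if_pos (fun i => by simp), if_pos (fun i => by simp), qt_smul] at this
  exact_mod_cast this

/-- the subring `E[[T^p]]` of `k[[T]]`. -/
noncomputable def SE (E : Subfield k) : Subring (MvPowerSeries σ k) := (phi p E (σ := σ)).range

theorem mem_SE_iff (E : Subfield k) (g : MvPowerSeries σ k) :
    g ∈ SE p E ↔ ∀ m, coeff m g ∈ E ∧ (coeff m g ≠ 0 → ∀ i, p ∣ m i) := by
  constructor
  · rintro ⟨h, rfl⟩ m
    rw [coeff_phi]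
    split_ifs with hm
    · exact ⟨(coeff (qt p m) h).2, fun _ => hm⟩
    · exact ⟨E.zero_mem, fun h0 => absurd rfl h0⟩
  · intro hg
    refine ⟨fun m => ⟨coeff (p • m) g, (hg _).1⟩, ?_⟩
    ext m
    rw [coeff_phi]
    split_ifs with hm
    · show coeff (p • qt p m) g = _
      rw [smul_qt_of_dvd p m hm]
    · by_contra h0
      exact hm ((hg m).2 (Ne.symm h0))

theorem SE_mono {E E' : Subfield k} (h : E ≤ E') : SE p E (σ := σ) ≤ SE p E' := by
  intro g hg
  rw [mem_SE_iff] at hg ⊢
  exact fun m => ⟨h (hg m).1, (hg m).2⟩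

/-- `SE` is isomorphic to the power series ring over `E`. -/
noncomputable def equivSE (E : Subfield k) : MvPowerSeries σ E ≃+* SE p E (σ := σ) :=
  RingEquiv.ofBijective (phi p E (σ := σ)).rangeRestrict
    ⟨fun a b h => phi_injective p E (congrArg Subtype.val h),
      (phi p E (σ := σ)).rangeRestrict_surjective⟩

variable [CharP k p]

/-- `p`-th powers lie in `SE`. -/
theorem pow_mem_SE (E : Subfield k) (hE : ∀ x : k, x ^ p ∈ E) (g : MvPowerSeries σ k) :
    g ^ p ∈ SE p E := by
  haveI : ExpChar k p := ExpChar.prime hp.out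
  rw [mem_SE_iff]
  intro m
  rw [← map_frobenius_expand p hp.out.ne_zero, coeff_map, frobenius_def]
  refine ⟨hE _, fun h0 i => ?_⟩
  by_contra hi
  apply h0
  rw [coeff_expand_of_not_dvd p hp.out.ne_zero _ hi, zero_pow hp.out.ne_zero]

/-- partial derivatives vanish on `SE`. -/
theorem pderiv_eq_zero_of_mem (E : Subfield k) (g : MvPowerSeries σ k) (hg : g ∈ SE p E) (i : σ) :
    pderiv k i g = 0 := by
  classical
  rw [mem_SE_iff] at hg
  ext m
  rw [coeff_pderiv, map_zero]
  by_cases h0 : coeff (m + Finsupp.single i 1) g = 0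
  · rw [h0, zero_mul]
  · have hdvd := (hg _).2 h0 i
    rw [Finsupp.add_apply, Finsupp.single_eq_same] at hdvd
    have : ((m i : k) + 1) = 0 := by
      have := (CharP.cast_eq_zero_iff k p (m i + 1)).mpr hdvd
      push_cast at this
      exact this
    rw [this, mul_zero]

/-- a power series all of whose partial derivatives vanish has only `p`-divisible exponents. -/
theorem dvd_of_pderiv_eq_zero (c : MvPowerSeries σ k) (hc : ∀ i, pderiv k i c = 0)
    (m : σ →₀ ℕ) (hm : coeff m c ≠ 0) (i : σ) : p ∣ m i := by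
  classical
  by_cases hmi : m i = 0
  · rw [hmi]; exact dvd_zero p
  · have hm' : m = (m - Finsupp.single i 1) + Finsupp.single i 1 := by
      ext j
      by_cases hj : j = i
      · subst hj
        simp only [Finsupp.add_apply, Finsupp.tsub_apply, Finsupp.single_eq_same]
        omega
      · simp [Finsupp.single_eq_of_ne hj, Finsupp.single_eq_of_ne (Ne.symm hj)]
    have h1 := congrArg (coeff (m - Finsupp.single i 1)) (hc i)
    rw [coeff_pderiv, ← hm', map_zero] at h1
    rcases mul_eq_zero.mp h1 with h2 | h2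
    · exact absurd h2 hm
    · have h3 : ((((m - Finsupp.single i 1 : σ →₀ ℕ) i + 1 : ℕ)) : k) = 0 := by
        push_cast
        exact h2
      have h4 := (CharP.cast_eq_zero_iff k p _).mp h3
      have h5 : (m - Finsupp.single i 1 : σ →₀ ℕ) i + 1 = m i := by
        simp only [Finsupp.tsub_apply, Finsupp.single_eq_same]
        omega
      rwa [h5] at h4

/-- `Frac(SE) ∩ k[[T]] = SE`. -/
theorem mem_SE_of_mul_eq (E : Subfield k) (c u v : MvPowerSeries σ k) (hu : u ∈ SE p E)
    (hv : v ∈ SE p E) (hv0 : v ≠ 0) (h : v * c = u) : c ∈ SE p E := by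
  haveI : IsDomain (MvPowerSeries σ k) := NoZeroDivisors.to_isDomain _
  have hu' := (mem_SE_iff p E u).mp hu
  have hv' := (mem_SE_iff p E v).mp hv
  have hcoef : ∀ n, coeff n c ∈ E :=
    Groth.Agent.H10.PSInter.coeff_mem_of_mul_eq E u v c (fun n => (hu' n).1) (fun n => (hv' n).1)
      hv0 h
  have hder : ∀ i, pderiv k i c = 0 := by
    intro i
    have h1 := congrArg (pderiv k i) h
    rw [Derivation.leibniz, pderiv_eq_zero_of_mem p E u hu, pderiv_eq_zero_of_mem p E v hv,
      smul_zero, add_zero, smul_eq_mul] at h1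
    exact (mul_eq_zero.mp h1).resolve_left hv0
  rw [mem_SE_iff]
  exact fun m => ⟨hcoef m, fun hm => dvd_of_pderiv_eq_zero p c hder m hm⟩

end Groth.Agent.H23.GRPS
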