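import Mathlib
import Groth.Agent.H23.GRPSFamily

/-!
# `k[[T]]` is free of finite rank over `E[[T^p]]` when `[k : E] < ∞`
-/

set_option autoImplicit false
set_option linter.unusedSectionVars false
set_option linter.style.haveILetI false
set_option linter.unusedVariables false
set_option linter.unusedSimpArgs false
universe u

namespace Groth.Agent.H23.GRPS

open MvPowerSeries
open scoped Classical

variable {k : Type u} [Field k] (p : ℕ) [hp : Fact p.Prime] {σ : Type*} [Fintype σ]

/-- a reduced exponent vector as a finitely supported function. -/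
noncomputable def nuvec (ν : σ → Fin p) : σ →₀ ℕ :=
  Finsupp.equivFunOnFinite.symm (fun i => (ν i : ℕ))

@[simp] theorem nuvec_apply (ν : σ → Fin p) (i : σ) : nuvec p ν i = (ν i : ℕ) := rfl

theorem rm_add (q : σ →₀ ℕ) (ν : σ → Fin p) : rm p (p • q + nuvec p ν) = ν := by
  funext i
  apply Fin.ext
  show (p • q + nuvec p ν) i % p = ν i
  simp only [Finsupp.add_apply, Finsupp.smul_apply, smul_eq_mul, nuvec_apply]
  rw [Nat.mul_add_mod, Nat.mod_eq_of_lt (ν i).2]

theorem qt_add (q : σ →₀ ℕ) (ν : σ → Fin p) : qt p (p • q + nuvec p ν) = q := by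
  ext i
  simp only [qt_apply, Finsupp.add_apply, Finsupp.smul_apply, smul_eq_mul, nuvec_apply]
  rw [Nat.mul_add_div hp.out.pos, Nat.div_eq_of_lt (ν i).2, add_zero]

theorem decomp (m : σ →₀ ℕ) : p • qt p m + nuvec p (rm p m) = m := by
  ext i
  simp only [Finsupp.add_apply, Finsupp.smul_apply, smul_eq_mul, nuvec_apply, qt_apply]
  exact Nat.div_add_mod (m i) p

theorem coeff_mul_monomial_nuvec (E : Subfield k) (s : MvPowerSeries σ k) (hs : s ∈ SE p E)
    (ν : σ → Fin p) (a : k) (m : σ →₀ ℕ) :
    coeff m (s * monomial (nuvec p ν) a) =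
      if rm p m = ν then coeff (p • qt p m) s * a else 0 := by
  rw [coeff_mul_monomial]
  by_cases hν : rm p m = ν
  · have hle : nuvec p ν ≤ m := by
      intro i
      rw [nuvec_apply, ← hν]
      exact Nat.mod_le _ _
    have hsub : m - nuvec p ν = p • qt p m := by
      conv_lhs => rw [← decomp p m, hν]
      exact add_tsub_cancel_right _ _
    rw [if_pos hle, if_pos hν, hsub]
  · rw [if_neg hν]
    split_ifs with hle
    · have h0 : coeff (m - nuvec p ν) s = 0 := by
        by_contra h0
        apply hν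
        have hdvd := ((mem_SE_iff p E s).mp hs (m - nuvec p ν)).2 h0
        funext i
        apply Fin.ext
        show m i % p = ν i
        have h1 := hdvd i
        have h2 : nuvec p ν i ≤ m i := hle i
        rw [Finsupp.tsub_apply, nuvec_apply] at h1
        rw [nuvec_apply] at h2
        obtain ⟨t, ht⟩ := h1
        have h3 : m i = p * t + ν i := by omega
        rw [h3, Nat.mul_add_mod, Nat.mod_eq_of_lt (ν i).2]
      rw [h0, zero_mul]
    · rfl

variable (E : Subfield k) [Module.Finite E k]

/-- the candidate basis: `b_μ T^ν`. -/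
noncomputable def vfam (x : Fin (Module.finrank E k) × (σ → Fin p)) : MvPowerSeries σ k :=
  monomial (nuvec p x.2) (Module.finBasis E k x.1)

theorem coeff_sum_vfam (c : Fin (Module.finrank E k) × (σ → Fin p) → SE p E (σ := σ))
    (m : σ →₀ ℕ) :
    coeff m (∑ x, c x • vfam p E x) =
      ∑ μ, coeff (p • qt p m) (c (μ, rm p m) : MvPowerSeries σ k) * Module.finBasis E k μ := by
  rw [map_sum, Fintype.sum_prod_type]
  refine Finset.sum_congr rfl fun μ _ => ?_
  have : ∀ ν : σ → Fin p, coeff m (c (μ, ν) • vfam p E (μ, ν)) =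
      if rm p m = ν then coeff (p • qt p m) (c (μ, ν) : MvPowerSeries σ k) *
        Module.finBasis E k μ else 0 := by
    intro ν
    rw [Subring.smul_def, smul_eq_mul]
    exact coeff_mul_monomial_nuvec p E _ (c (μ, ν)).2 ν _ m
  simp_rw [this]
  rw [Finset.sum_ite_eq]
  simp

theorem linearIndependent_vfam : LinearIndependent (SE p E (σ := σ)) (vfam p E (σ := σ)) := by
  rw [Fintype.linearIndependent_iff]
  intro c hc x
  obtain ⟨μ₀, ν₀⟩ := x
  apply Subtype.ext
  ext m
  rw [ZeroMemClass.coe_zero, map_zero]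
  by_cases hm : ∀ i, p ∣ m i
  · have h1 := congrArg (coeff (p • qt p m + nuvec p ν₀)) hc
    rw [coeff_sum_vfam, map_zero, rm_add, qt_add] at h1
    have h2 : ∑ μ, (⟨coeff (p • qt p m) (c (μ, ν₀) : MvPowerSeries σ k),
        ((mem_SE_iff p E _).mp (c (μ, ν₀)).2 _).1⟩ : E) • Module.finBasis E k μ = 0 := by
      refine Eq.trans ?_ h1
      refine Finset.sum_congr rfl fun μ _ => ?_
      rfl
    have h3 := (Fintype.linearIndependent_iff.mp (Module.finBasis E k).linearIndependent) _ h2 μ₀
    have h4 := congrArg Subtype.val h3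
    rw [smul_qt_of_dvd p m hm] at h4
    exact h4
  · by_contra h0
    exact hm (((mem_SE_iff p E _).mp (c (μ₀, ν₀)).2 m).2 h0)

theorem span_vfam : ⊤ ≤ Submodule.span (SE p E (σ := σ)) (Set.range (vfam p E (σ := σ))) := by
  intro g _
  let b := Module.finBasis E k
  let h : Fin (Module.finrank E k) × (σ → Fin p) → MvPowerSeries σ E :=
    fun x q => b.repr (coeff (p • q + nuvec p x.2) g) x.1
  let c : Fin (Module.finrank E k) × (σ → Fin p) → SE p E (σ := σ) :=
    fun x => ⟨phi p E (h x), ⟨h x, rfl⟩⟩
  have hg : g = ∑ x, c x • vfam p E x := by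
    ext m
    rw [coeff_sum_vfam]
    have h1 : ∀ μ, coeff (p • qt p m) (c (μ, rm p m) : MvPowerSeries σ k) =
        ((b.repr (coeff m g) μ : E) : k) := by
      intro μ
      show coeff (p • qt p m) (phi p E (h (μ, rm p m))) = _
      rw [coeff_phi, if_pos (fun i => by simp), qt_smul]
      show ((b.repr (coeff (p • qt p m + nuvec p (rm p m)) g) μ : E) : k) = _
      rw [decomp]
    simp_rw [h1]
    conv_lhs => rw [← b.sum_repr (coeff m g)]
    refine Finset.sum_congr rfl fun μ _ => ?_
    rfl
  rw [hg]
  exact Submodule.sum_mem _ fun x _ =>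
    Submodule.smul_mem _ _ (Submodule.subset_span ⟨x, rfl⟩)

/-- the basis `b_μ T^ν` of `k[[T]]` over `E[[T^p]]`. -/
noncomputable def basisSE :
    Module.Basis (Fin (Module.finrank E k) × (σ → Fin p)) (SE p E (σ := σ)) (MvPowerSeries σ k) :=
  Module.Basis.mk (linearIndependent_vfam p E) (span_vfam p E)

theorem free_SE : Module.Free (SE p E (σ := σ)) (MvPowerSeries σ k) :=
  Module.Free.of_basis (basisSE p E)

theorem finite_SE : Module.Finite (SE p E (σ := σ)) (MvPowerSeries σ k) :=
  Module.Finite.of_basis (basisSE p E)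

end Groth.Agent.H23.GRPS
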