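import Mathlib
import Groth.Agent.H23.GRPSFamily

/-!
# `⋂ Frac(E_α[[T^p]]) = Frac(k[[T]])^p` when `⋂ E_α = k^p`
-/

set_option autoImplicit false
set_option linter.unusedSectionVars false
set_option linter.style.haveILetI false
set_option linter.unusedVariables false
set_option linter.unusedSimpArgs false
universe u

namespace Groth.Agent.H23.GRPS

open MvPowerSeries
open scoped Classical

variable {k : Type u} [Field k] (p : ℕ) [hp : Fact p.Prime] {σ : Type*}

/-- the subfield of `Frac k[[T]]` generated by `E[[T^p]]`. -/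
noncomputable def KE (E : Subfield k) : Subfield (FractionRing (MvPowerSeries σ k)) :=
  Subfield.closure (algebraMap (MvPowerSeries σ k) (FractionRing (MvPowerSeries σ k)) ''
    (SE p E (σ := σ) : Set (MvPowerSeries σ k)))

theorem mem_KE_iff (E : Subfield k) (x : FractionRing (MvPowerSeries σ k)) :
    x ∈ KE p E ↔ ∃ u v : MvPowerSeries σ k, u ∈ SE p E ∧ v ∈ SE p E ∧
      algebraMap (MvPowerSeries σ k) (FractionRing (MvPowerSeries σ k)) u /
        algebraMap (MvPowerSeries σ k) (FractionRing (MvPowerSeries σ k)) v = x := by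
  unfold KE
  rw [Subfield.mem_closure_iff]
  have h1 : Subring.closure (algebraMap (MvPowerSeries σ k) (FractionRing (MvPowerSeries σ k)) ''
      (SE p E (σ := σ) : Set (MvPowerSeries σ k))) =
      (SE p E).map (algebraMap (MvPowerSeries σ k) (FractionRing (MvPowerSeries σ k))) := by
    rw [← Subring.coe_map, Subring.closure_eq]
  rw [h1]
  constructor
  · rintro ⟨y, ⟨a, ha, rfl⟩, z, ⟨b, hb, rfl⟩, rfl⟩
    exact ⟨a, b, ha, hb, rfl⟩
  · rintro ⟨a, b, ha, hb, rfl⟩
    exact ⟨_, ⟨a, ha, rfl⟩, _, ⟨b, hb, rfl⟩, rfl⟩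

theorem algebraMap_mem_KE (E : Subfield k) (u : MvPowerSeries σ k) (hu : u ∈ SE p E) :
    algebraMap (MvPowerSeries σ k) (FractionRing (MvPowerSeries σ k)) u ∈ KE p E :=
  Subfield.subset_closure ⟨u, hu, rfl⟩

theorem KE_mono {E E' : Subfield k} (h : E ≤ E') : KE p E (σ := σ) ≤ KE p E' :=
  Subfield.closure_mono (Set.image_mono (SE_mono p h))

variable [CharP k p]

theorem pow_mem_KE (E : Subfield k) (hE : ∀ x : k, x ^ p ∈ E)
    (y : FractionRing (MvPowerSeries σ k)) : y ^ p ∈ KE p E := by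
  haveI : IsDomain (MvPowerSeries σ k) := NoZeroDivisors.to_isDomain _
  obtain ⟨a, b, hb, rfl⟩ := IsFractionRing.div_surjective (A := MvPowerSeries σ k) y
  rw [div_pow, ← map_pow, ← map_pow]
  exact (KE p E).div_mem (algebraMap_mem_KE p E _ (pow_mem_SE p E hE a))
    (algebraMap_mem_KE p E _ (pow_mem_SE p E hE b))

/-- if `x = a / b` lies in `Frac(E[[T^p]])` then `a b^{p-1} ∈ E[[T^p]]`. -/
theorem mul_pow_mem_SE (E : Subfield k) (hE : ∀ x : k, x ^ p ∈ E) (a b : MvPowerSeries σ k)
    (hb : b ≠ 0)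
    (hx : algebraMap (MvPowerSeries σ k) (FractionRing (MvPowerSeries σ k)) a /
      algebraMap (MvPowerSeries σ k) (FractionRing (MvPowerSeries σ k)) b ∈ KE p E) :
    a * b ^ (p - 1) ∈ SE p E := by
  haveI : IsDomain (MvPowerSeries σ k) := NoZeroDivisors.to_isDomain _
  have hinj := IsFractionRing.injective (MvPowerSeries σ k) (FractionRing (MvPowerSeries σ k))
  obtain ⟨u, v, hu, hv, huv⟩ := (mem_KE_iff p E _).mp hx
  have hb' : algebraMap (MvPowerSeries σ k) (FractionRing (MvPowerSeries σ k)) b ≠ 0 := by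
    rw [Ne, map_eq_zero_iff _ hinj]; exact hb
  have hpp : p - 1 + 1 = p := Nat.sub_add_cancel hp.out.one_le
  by_cases hv0 : v = 0
  · -- then `a = 0`
    rw [hv0, map_zero, div_zero] at huv
    have ha : a = 0 := by
      have h1 := huv.symm
      rw [div_eq_zero_iff] at h1
      rcases h1 with h1 | h1
      · exact (map_eq_zero_iff _ hinj).mp h1
      · exact absurd h1 hb'
    rw [ha, zero_mul]
    exact (SE p E).zero_mem
  · have hv' : algebraMap (MvPowerSeries σ k) (FractionRing (MvPowerSeries σ k)) v ≠ 0 := by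
      rw [Ne, map_eq_zero_iff _ hinj]; exact hv0
    have h1 : v * (a * b ^ (p - 1)) = u * b ^ p := by
      apply hinj
      rw [div_eq_div_iff hv' hb'] at huv
      simp only [map_mul, map_pow]
      have : algebraMap (MvPowerSeries σ k) (FractionRing (MvPowerSeries σ k)) b ^ p =
          algebraMap (MvPowerSeries σ k) (FractionRing (MvPowerSeries σ k)) b ^ (p - 1) *
            algebraMap (MvPowerSeries σ k) (FractionRing (MvPowerSeries σ k)) b := by
        rw [← pow_succ, hpp]
      rw [this]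
      linear_combination (-(algebraMap (MvPowerSeries σ k) (FractionRing (MvPowerSeries σ k)) b ^
        (p - 1))) * huv
    exact mem_SE_of_mul_eq p E _ _ v ((SE p E).mul_mem hu (pow_mem_SE p E hE b)) hv hv0 h1

/-- a power series with coefficients `p`-th powers and `p`-divisible exponents is a `p`-th
power. -/
theorem exists_pow_eq (c : MvPowerSeries σ k) (h1 : ∀ m, ∃ y : k, y ^ p = coeff m c)
    (h2 : ∀ m, coeff m c ≠ 0 → ∀ i, p ∣ m i) : ∃ d : MvPowerSeries σ k, d ^ p = c := by
  haveI : ExpChar k p := ExpChar.prime hp.out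
  choose y hy using h1
  refine ⟨fun q => y (p • q), ?_⟩
  ext m
  rw [← map_frobenius_expand p hp.out.ne_zero, coeff_map, frobenius_def]
  by_cases hm : ∀ i, p ∣ m i
  · conv_lhs => rw [← smul_qt_of_dvd p m hm, coeff_expand_smul]
    show (y (p • qt p m)) ^ p = _
    rw [hy, smul_qt_of_dvd p m hm]
  · have h0 : coeff m c = 0 := by
      by_contra h0
      exact hm (h2 m h0)
    push Not at hm
    obtain ⟨i, hi⟩ := hm
    rw [coeff_expand_of_not_dvd p hp.out.ne_zero _ hi, zero_pow hp.out.ne_zero, h0]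

/-- **EGA 0_IV 21.8.8**: `⋂ Frac(E_α[[T^p]]) = Frac(k[[T]])^p` when `⋂ E_α = k^p`. -/
theorem forall_mem_KE_iff {ι : Type*} [Nonempty ι] (E : ι → Subfield k)
    (hE : ∀ i, ∀ x : k, x ^ p ∈ E i) (hint : ∀ z : k, (∀ i, z ∈ E i) → ∃ y : k, y ^ p = z)
    (x : FractionRing (MvPowerSeries σ k)) :
    (∀ i, x ∈ KE p (E i)) ↔ ∃ y : FractionRing (MvPowerSeries σ k), y ^ p = x := by
  haveI : IsDomain (MvPowerSeries σ k) := NoZeroDivisors.to_isDomain _
  have hinj := IsFractionRing.injective (MvPowerSeries σ k) (FractionRing (MvPowerSeries σ k))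
  constructor
  · intro hx
    obtain ⟨a, b, hb, rfl⟩ := IsFractionRing.div_surjective (A := MvPowerSeries σ k) x
    have hb0 : b ≠ 0 := nonZeroDivisors.ne_zero hb
    have hb' : algebraMap (MvPowerSeries σ k) (FractionRing (MvPowerSeries σ k)) b ≠ 0 := by
      rw [Ne, map_eq_zero_iff _ hinj]; exact hb0
    have hc : ∀ i, a * b ^ (p - 1) ∈ SE p (E i) := fun i =>
      mul_pow_mem_SE p (E i) (hE i) a b hb0 (hx i)
    obtain ⟨d, hd⟩ := exists_pow_eq p (a * b ^ (p - 1))
      (fun m => hint _ fun i => ((mem_SE_iff p (E i) _).mp (hc i) m).1)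
      (fun m hm => ((mem_SE_iff p (E (Classical.arbitrary ι)) _).mp (hc _) m).2 hm)
    refine ⟨algebraMap _ _ d / algebraMap _ _ b, ?_⟩
    have hpp : p - 1 + 1 = p := Nat.sub_add_cancel hp.out.one_le
    rw [div_pow, ← map_pow, hd, map_mul, map_pow, div_eq_div_iff (pow_ne_zero _ hb') hb']
    have : algebraMap (MvPowerSeries σ k) (FractionRing (MvPowerSeries σ k)) b ^ p =
        algebraMap (MvPowerSeries σ k) (FractionRing (MvPowerSeries σ k)) b ^ (p - 1) *
          algebraMap (MvPowerSeries σ k) (FractionRing (MvPowerSeries σ k)) b := by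
      rw [← pow_succ, hpp]
    rw [this]
    ring
  · rintro ⟨y, rfl⟩ i
    exact pow_mem_KE p (E i) (hE i) y

end Groth.Agent.H23.GRPS
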