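import Mathlib
import Groth.Prelude.Def_CAlgX
import Groth.Prelude.Def_EGA41
import Groth.Prelude.Def_Found
import Groth.Agent.H23.AdicSplit
import Groth.Agent.H23.AdicLocal
import Groth.Agent.H23.FSCriterion
import Groth.Agent.H96.GeomRegAdic
import Groth.Agent.H13.PBasisRoot
import Groth.Agent.H47.CoeffFieldP

/-!
# Geometrically regular ⇒ adically formally smooth (EGA 0_IV 22.5.8, characteristic `p`)

Part 1: base change of a local ring along a purely inseparable extension of exponent one is local.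
-/

set_option autoImplicit false

namespace Groth.Agent.H23.GeomRegFS

open TensorProduct KaehlerDifferential IsLocalRing Polynomial

universe u

section Loc

variable (p : ℕ) [Fact p.Prime] {k : Type u} [Field k] [CharP k p] (k' : Type u) [Field k']
  [Algebra k k'] (A : Type u) [CommRing A] [Algebra k A]

/-- An `A`-linear retraction of `A → A ⊗ k'`. -/
theorem exists_retraction : ∃ ρ : A ⊗[k] k' →ₗ[A] A, ρ 1 = 1 := by
  obtain ⟨ρ₀, hρ₀⟩ := (Algebra.linearMap k k').exists_leftInverse_of_injective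
    (LinearMap.ker_eq_bot.mpr (algebraMap k k').injective)
  refine ⟨(TensorProduct.AlgebraTensorModule.rid k A A).toLinearMap ∘ₗ
    (TensorProduct.AlgebraTensorModule.lTensor A A ρ₀), ?_⟩
  have h1 : ρ₀ 1 = 1 := by
    have := LinearMap.congr_fun hρ₀ 1
    simpa using this
  rw [Algebra.TensorProduct.one_def]
  simp [h1]

theorem isUnit_of_isUnit_tmul (a : A) (h : IsUnit (a ⊗ₜ[k] (1 : k'))) : IsUnit a := by
  obtain ⟨ρ, hρ⟩ := exists_retraction k' A (k := k)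
  obtain ⟨s, hs⟩ := h.exists_right_inv
  have h1 : a • s = 1 := by
    rw [Algebra.smul_def, Algebra.TensorProduct.algebraMap_apply, Algebra.algebraMap_self,
      RingHom.id_apply]
    exact hs
  have h2 : a * ρ s = 1 := by
    rw [← smul_eq_mul, ← map_smul, h1, hρ]
  exact IsUnit.of_mul_eq_one _ h2

theorem nontrivial_tensor [Nontrivial A] : Nontrivial (A ⊗[k] k') := by
  obtain ⟨ρ, hρ⟩ := exists_retraction k' A (k := k)
  refine ⟨⟨0, 1, fun h => ?_⟩⟩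
  have : ρ 0 = ρ 1 := by rw [h]
  rw [map_zero, hρ] at this
  exact zero_ne_one this

variable (hpow : ∀ c : k', c ^ p ∈ (algebraMap k k').range)

include hpow in
theorem exists_pow_eq [Nontrivial A] (s : A ⊗[k] k') : ∃ a : A, s ^ p = a ⊗ₜ[k] (1 : k') := by
  haveI := nontrivial_tensor k' A (k := k)
  haveI : CharP (A ⊗[k] k') p :=
    charP_of_injective_algebraMap (algebraMap k (A ⊗[k] k')).injective p
  have hp : p ≠ 0 := (Fact.out : p.Prime).ne_zero
  induction s using TensorProduct.induction_on with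
  | zero => exact ⟨0, by rw [zero_pow hp, zero_tmul]⟩
  | tmul a c =>
    obtain ⟨c₀, hc₀⟩ := hpow c
    refine ⟨c₀ • a ^ p, ?_⟩
    rw [Algebra.TensorProduct.tmul_pow, ← hc₀, Algebra.algebraMap_eq_smul_one,
      ← TensorProduct.smul_tmul]
  | add x y hx hy =>
    obtain ⟨a, ha⟩ := hx
    obtain ⟨b, hb⟩ := hy
    exact ⟨a + b, by rw [add_pow_char, ha, hb, add_tmul]⟩

include hpow in
theorem isLocalRing_tensor [IsLocalRing A] : IsLocalRing (A ⊗[k] k') := by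
  haveI := nontrivial_tensor k' A (k := k)
  have hp : p ≠ 0 := (Fact.out : p.Prime).ne_zero
  haveI : CharP (A ⊗[k] k') p :=
    charP_of_injective_algebraMap (algebraMap k (A ⊗[k] k')).injective p
  have key : ∀ x : A ⊗[k] k', x ∈ nonunits (A ⊗[k] k') →
      ∃ a ∈ maximalIdeal A, x ^ p = a ⊗ₜ[k] (1 : k') := by
    intro x hx
    obtain ⟨a, ha⟩ := exists_pow_eq p k' A hpow x
    refine ⟨a, ?_, ha⟩
    rw [mem_maximalIdeal, mem_nonunits_iff]
    intro hu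
    apply hx
    have h1 : IsUnit (a ⊗ₜ[k] (1 : k')) :=
      hu.map (Algebra.TensorProduct.includeLeft : A →ₐ[k] A ⊗[k] k')
    rw [← ha] at h1
    exact (isUnit_pow_iff hp).mp h1
  apply IsLocalRing.of_nonunits_add
  intro x y hx hy
  obtain ⟨a, ha, hxa⟩ := key x hx
  obtain ⟨b, hb, hyb⟩ := key y hy
  rw [mem_nonunits_iff]
  intro hu
  have h1 : IsUnit ((x + y) ^ p) := hu.pow p
  rw [add_pow_char, hxa, hyb, ← add_tmul] at h1
  have h2 := isUnit_of_isUnit_tmul k' A _ h1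
  have h3 : a + b ∈ maximalIdeal A := Ideal.add_mem _ ha hb
  rw [mem_maximalIdeal, mem_nonunits_iff] at h3
  exact h3 h2

end Loc

section LemmaS

theorem tmul_tmul_smul {P M N K : Type*} [CommRing P] [AddCommGroup M] [Module P M]
    [AddCommGroup N] [Module P N] [AddCommGroup K] [Module P K] (r : P) (x : M) (y : N) (m : K) :
    x ⊗ₜ[P] (y ⊗ₜ[P] (r • m)) = (r • x) ⊗ₜ[P] (y ⊗ₜ[P] m) := by
  rw [TensorProduct.tmul_smul, TensorProduct.tmul_smul, TensorProduct.smul_tmul']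

variable (p : ℕ) [Fact p.Prime] {k₀ k : Type u} [Field k₀] [PerfectField k₀] [Field k]
  [Algebra k₀ k] [CharP k p]
  (A : Type u) [CommRing A] [IsLocalRing A] [IsNoetherianRing A] [Algebra k A] [Algebra k₀ A]
  [IsScalarTower k₀ k A]
  (z : k) [Fact (Irreducible (X ^ p - C z : k[X]))]

theorem adjoinRoot_pow_mem (y : AdjoinRoot (X ^ p - C z : k[X])) :
    y ^ p ∈ (algebraMap k (AdjoinRoot (X ^ p - C z : k[X]))).range := by
  let R' : Subring (AdjoinRoot (X ^ p - C z : k[X])) :=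
    (algebraMap k (AdjoinRoot (X ^ p - C z : k[X]))).range
  let S : Subalgebra k (AdjoinRoot (X ^ p - C z : k[X])) :=
    { carrier := {y | y ^ p ∈ R'}
      mul_mem' := fun {a b} ha hb => by
        change (a * b) ^ p ∈ R'
        rw [mul_pow]; exact mul_mem ha hb
      add_mem' := fun {a b} ha hb => by
        change (a + b) ^ p ∈ R'
        rw [add_pow_char]; exact add_mem ha hb
      algebraMap_mem' := fun c => by
        change (algebraMap k _ c) ^ p ∈ R'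
        rw [← map_pow]
        exact ⟨c ^ p, rfl⟩ }
  have hroot : AdjoinRoot.root (X ^ p - C z : k[X]) ∈ S := by
    change (AdjoinRoot.root (X ^ p - C z : k[X])) ^ p ∈ R'
    rw [Groth.Agent.H13.PB.root_pow]
    exact ⟨z, rfl⟩
  have htop : (⊤ : Subalgebra k (AdjoinRoot (X ^ p - C z : k[X]))) ≤ S := by
    rw [← AdjoinRoot.adjoinRoot_eq_top]
    exact Algebra.adjoin_le (Set.singleton_subset_iff.mpr hroot)
  exact htop Algebra.mem_top

/-- Lemma S: if `A ⊗ k(z^{1/p})` is regular then `dz ∉ 𝔪 Ω_{A/k₀}`. -/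
theorem D_notMem_smul_top
    (hreg : IsRegularRing (A ⊗[k] AdjoinRoot (X ^ p - C z : k[X]))) :
    KaehlerDifferential.D k₀ A (algebraMap k A z) ∉
      (maximalIdeal A) • (⊤ : Submodule A (Ω[A⁄k₀])) := by
  classical
  intro hmem
  have hp : p.Prime := Fact.out
  -- the local regular ring `S`
  haveI hSloc : IsLocalRing (A ⊗[k] AdjoinRoot (X ^ p - C z : k[X])) :=
    isLocalRing_tensor p _ A (adjoinRoot_pow_mem p z)
  haveI : IsRegularLocalRing (A ⊗[k] AdjoinRoot (X ^ p - C z : k[X])) :=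
    IsRegularLocalRing.of_isRegularRing_of_isLocalRing _
  haveI : Algebra.FormallySmooth k₀
      (ResidueField (A ⊗[k] AdjoinRoot (X ^ p - C z : k[X]))) :=
    Groth.Agent.H47.formallySmooth_of_perfectField_field
  haveI : Algebra.IsGeometricallyReduced k₀
      (ResidueField (A ⊗[k] AdjoinRoot (X ^ p - C z : k[X]))) :=
    Groth.Agent.H47.isGeometricallyReduced_of_formallySmooth_field
  have hS : CAlgX.IsAdicFormallySmooth k₀ (A ⊗[k] AdjoinRoot (X ^ p - C z : k[X]))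
      (maximalIdeal _) :=
    Groth.Agent.H96.RegAdicSmooth.adic_of_regular k₀ _
  -- the presentation
  set g₀ : k[X] := X ^ p - C z with hg₀
  have hg₀ne : g₀ ≠ 0 := (monic_X_pow_sub_C z hp.ne_zero).ne_zero
  let φ : A ⊗[k] k[X] →ₐ[A] A ⊗[k] AdjoinRoot g₀ :=
    Algebra.TensorProduct.map (AlgHom.id A A) (AdjoinRoot.mkₐ g₀)
  have hφtmul : ∀ (a : A) (f : k[X]), φ (a ⊗ₜ f) = a ⊗ₜ AdjoinRoot.mk g₀ f := fun a f =>
    Algebra.TensorProduct.map_tmul _ _ _ _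
  have hφsurj : Function.Surjective φ := by
    intro y
    induction y using TensorProduct.induction_on with
    | zero => exact ⟨0, map_zero _⟩
    | tmul a c =>
      obtain ⟨f, rfl⟩ := AdjoinRoot.mk_surjective c
      exact ⟨a ⊗ₜ f, hφtmul a f⟩
    | add x y hx hy =>
      obtain ⟨x', rfl⟩ := hx
      obtain ⟨y', rfl⟩ := hy
      exact ⟨x' + y', map_add _ _ _⟩
  set G : A ⊗[k] k[X] := (1 : A) ⊗ₜ[k] g₀ with hG
  have hkermk : RingHom.ker (AdjoinRoot.mkₐ g₀ : k[X] →ₐ[k] AdjoinRoot g₀) = Ideal.span {g₀} := by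
    ext f
    rw [RingHom.mem_ker, Ideal.mem_span_singleton]
    exact AdjoinRoot.mk_eq_zero
  have hkerφ : RingHom.ker φ = Ideal.span {G} := by
    have h1 := Algebra.TensorProduct.lTensor_ker (A := A) (AdjoinRoot.mkₐ g₀ : k[X] →ₐ[k] _)
      AdjoinRoot.mk_surjective
    rw [hkermk, Ideal.map_span, Set.image_singleton] at h1
    have h2 : RingHom.ker φ =
        RingHom.ker (Algebra.TensorProduct.map (AlgHom.id k A)
          (AdjoinRoot.mkₐ g₀ : k[X] →ₐ[k] _)) := by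
      ext x
      rfl
    rw [h2, h1]
    rfl
  set J : Ideal (A ⊗[k] k[X]) := RingHom.ker φ with hJ
  haveI : IsNoetherianRing (A ⊗[k] k[X]) := Algebra.FiniteType.isNoetherianRing A _
  set I : Ideal (A ⊗[k] k[X]) :=
    Ideal.comap φ (maximalIdeal (A ⊗[k] AdjoinRoot g₀)) with hI
  set Q : Ideal ((A ⊗[k] k[X]) ⧸ J) := I.map (Ideal.Quotient.mk J) with hQ
  let e : ((A ⊗[k] k[X]) ⧸ J) ≃ₐ[A] A ⊗[k] AdjoinRoot g₀ :=
    Ideal.quotientKerAlgEquivOfSurjective hφsurj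
  have he : ∀ x, e (Ideal.Quotient.mk J x) = φ x := fun x => rfl
  let e₀ : ((A ⊗[k] k[X]) ⧸ J) ≃ₐ[k₀] A ⊗[k] AdjoinRoot g₀ := e.restrictScalars k₀
  have hC : CAlgX.IsAdicFormallySmooth k₀ ((A ⊗[k] k[X]) ⧸ J) Q := by
    refine Groth.Agent.H23.AdicLocal.adic_of_algEquiv (S := (A ⊗[k] k[X]) ⧸ J) e₀ Q (maximalIdeal _) ?_ hS
    intro y hy
    obtain ⟨x, rfl⟩ := hφsurj y
    have h1 : e₀.symm (φ x) = Ideal.Quotient.mk J x := by
      rw [AlgEquiv.symm_apply_eq]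
      rfl
    rw [h1]
    exact Ideal.mem_map_of_mem _ hy
  obtain ⟨gL, hgL⟩ := Groth.Agent.H23.AdicSplit.leftInv_of_adic (A := k₀) I J Q hC
    ⟨1, Ideal.pow_le_self one_ne_zero⟩
  -- the element `G` of the kernel
  have hGJ : G ∈ J := by
    rw [hJ, RingHom.mem_ker, hG, hφtmul]
    have : AdjoinRoot.mk g₀ g₀ = 0 := AdjoinRoot.mk_self
    rw [this, tmul_zero]
  have hG𝔍 : G ∈ RingHom.ker (algebraMap (A ⊗[k] k[X]) ((A ⊗[k] k[X]) ⧸ J)) := by
    rw [RingHom.mem_ker, Ideal.Quotient.algebraMap_eq, Ideal.Quotient.eq_zero_iff_mem]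
    exact hGJ
  have h𝔍J : ∀ x, x ∈ RingHom.ker (algebraMap (A ⊗[k] k[X]) ((A ⊗[k] k[X]) ⧸ J)) → x ∈ J := by
    intro x hx
    rw [RingHom.mem_ker, Ideal.Quotient.algebraMap_eq, Ideal.Quotient.eq_zero_iff_mem] at hx
    exact hx
  -- notation for the rings involved
  -- `L` is nontrivial
  have hQne : Q ≠ ⊤ := by
    intro hQtop
    have h1 : (1 : (A ⊗[k] k[X]) ⧸ J) ∈ Q := by rw [hQtop]; exact Submodule.mem_top
    rw [hQ, Ideal.mem_map_iff_of_surjective _ Ideal.Quotient.mk_surjective] at h1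
    obtain ⟨x, hxI, hx1⟩ := h1
    have h2 : φ x = 1 := by
      rw [← he, hx1, map_one]
    have h3 : φ x ∈ maximalIdeal (A ⊗[k] AdjoinRoot g₀) := hxI
    rw [h2] at h3
    exact (Ideal.ne_top_iff_one _).mp (maximalIdeal.isMaximal _).ne_top h3
  haveI hLnt : Nontrivial (((A ⊗[k] k[X]) ⧸ J) ⧸ Q) := Ideal.Quotient.nontrivial_iff.mpr hQne
  -- elements of `𝔍` die in `L`
  have h𝔍L : ∀ x ∈ RingHom.ker (algebraMap (A ⊗[k] k[X]) ((A ⊗[k] k[X]) ⧸ J)),
      algebraMap (A ⊗[k] k[X]) (((A ⊗[k] k[X]) ⧸ J) ⧸ Q) x = 0 := by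
    intro x hx
    rw [IsScalarTower.algebraMap_apply (A ⊗[k] k[X]) ((A ⊗[k] k[X]) ⧸ J), RingHom.mem_ker.mp hx,
      map_zero]
  have hIL : ∀ x ∈ I, algebraMap (A ⊗[k] k[X]) (((A ⊗[k] k[X]) ⧸ J) ⧸ Q) x = 0 := by
    intro x hx
    rw [IsScalarTower.algebraMap_apply (A ⊗[k] k[X]) ((A ⊗[k] k[X]) ⧸ J)]
    show Ideal.Quotient.mk Q (Ideal.Quotient.mk J x) = 0
    exact Ideal.Quotient.eq_zero_iff_mem.mpr (Ideal.mem_map_of_mem _ hx)
  -- `G` is a regular element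
  have hGreg : ∀ y : A ⊗[k] k[X], G * y = 0 → y = 0 := by
    let μ : k[X] →ₗ[k] k[X] := LinearMap.mulLeft k g₀
    have hμ : Function.Injective μ := fun a b hab => mul_left_cancel₀ hg₀ne hab
    have hμA : Function.Injective (μ.lTensor A) :=
      Module.Flat.lTensor_preserves_injective_linearMap μ hμ
    have hμG : ∀ y : A ⊗[k] k[X], μ.lTensor A y = G * y := by
      intro y
      induction y using TensorProduct.induction_on with
      | zero => simp
      | tmul a f =>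
        rw [LinearMap.lTensor_tmul, hG, Algebra.TensorProduct.tmul_mul_tmul, one_mul]
        rfl
      | add x y hx hy => rw [map_add, hx, hy, mul_add]
    intro y hy
    apply hμA
    rw [hμG, hy, map_zero]
  -- the linear form on the cotangent module
  let τ : (A ⊗[k] k[X]) →ₗ[A ⊗[k] k[X]]
      ↥(RingHom.ker (algebraMap (A ⊗[k] k[X]) ((A ⊗[k] k[X]) ⧸ J))) :=
    { toFun := fun y => ⟨y * G, Ideal.mul_mem_left _ y hG𝔍⟩
      map_add' := fun a b => by
        apply Subtype.ext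
        show (a + b) * G = a * G + b * G
        ring
      map_smul' := fun a b => by
        apply Subtype.ext
        show (a • b) * G = a • (b * G)
        rw [smul_eq_mul, smul_eq_mul, mul_assoc] }
  have hτinj : Function.Injective τ := by
    rw [injective_iff_map_eq_zero]
    intro y hy
    have h1 : y * G = 0 := congrArg Subtype.val hy
    rw [mul_comm] at h1
    exact hGreg y h1
  have hτsurj : Function.Surjective τ := by
    rintro ⟨x, hx⟩
    have h1 : x ∈ Ideal.span {G} := by rw [← hkerφ]; exact h𝔍J x hx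
    obtain ⟨y, hy⟩ := Ideal.mem_span_singleton'.mp h1
    exact ⟨y, Subtype.ext hy⟩
  let τe := LinearEquiv.ofBijective τ ⟨hτinj, hτsurj⟩
  let θ₀ : ↥(RingHom.ker (algebraMap (A ⊗[k] k[X]) ((A ⊗[k] k[X]) ⧸ J))) →ₗ[A ⊗[k] k[X]]
      (((A ⊗[k] k[X]) ⧸ J) ⧸ Q) :=
    (Algebra.linearMap (A ⊗[k] k[X]) (((A ⊗[k] k[X]) ⧸ J) ⧸ Q)) ∘ₗ τe.symm.toLinearMap
  have hθ₀G : θ₀ ⟨G, hG𝔍⟩ = 1 := by
    have h1 : τe.symm ⟨G, hG𝔍⟩ = 1 := by
      rw [LinearEquiv.symm_apply_eq]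
      apply Subtype.ext
      show G = 1 * G
      rw [one_mul]
    show algebraMap (A ⊗[k] k[X]) (((A ⊗[k] k[X]) ⧸ J) ⧸ Q) (τe.symm ⟨G, hG𝔍⟩) = 1
    rw [h1, map_one]
  have hle : (RingHom.ker (algebraMap (A ⊗[k] k[X]) ((A ⊗[k] k[X]) ⧸ J))) •
      (⊤ : Submodule (A ⊗[k] k[X])
        ↥(RingHom.ker (algebraMap (A ⊗[k] k[X]) ((A ⊗[k] k[X]) ⧸ J)))) ≤ LinearMap.ker θ₀ := by
    rw [Submodule.smul_le]
    intro r hr n _
    rw [LinearMap.mem_ker, map_smul]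
    refine (Algebra.smul_def r (θ₀ n)).trans ?_
    rw [h𝔍L r hr, zero_mul]
  let θb : (RingHom.ker (algebraMap (A ⊗[k] k[X]) ((A ⊗[k] k[X]) ⧸ J))).Cotangent →ₗ[A ⊗[k] k[X]]
      (((A ⊗[k] k[X]) ⧸ J) ⧸ Q) :=
    Submodule.liftQ _ θ₀ hle
  have hθb : ∀ x, θb ((RingHom.ker (algebraMap (A ⊗[k] k[X])
      ((A ⊗[k] k[X]) ⧸ J))).toCotangent x) = θ₀ x := fun x => rfl
  let θ : (((A ⊗[k] k[X]) ⧸ J) ⧸ Q) ⊗[A ⊗[k] k[X]]
      (RingHom.ker (algebraMap (A ⊗[k] k[X]) ((A ⊗[k] k[X]) ⧸ J))).Cotangent →ₗ[A ⊗[k] k[X]]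
      (((A ⊗[k] k[X]) ⧸ J) ⧸ Q) :=
    LinearMap.mul' (A ⊗[k] k[X]) (((A ⊗[k] k[X]) ⧸ J) ⧸ Q) ∘ₗ
      (θb.lTensor (((A ⊗[k] k[X]) ⧸ J) ⧸ Q))
  set x₀ : (((A ⊗[k] k[X]) ⧸ J) ⧸ Q) ⊗[A ⊗[k] k[X]]
      (RingHom.ker (algebraMap (A ⊗[k] k[X]) ((A ⊗[k] k[X]) ⧸ J))).Cotangent :=
    (1 : ((A ⊗[k] k[X]) ⧸ J) ⧸ Q) ⊗ₜ
      (RingHom.ker (algebraMap (A ⊗[k] k[X]) ((A ⊗[k] k[X]) ⧸ J))).toCotangent ⟨G, hG𝔍⟩ with hx₀
  have hθx₀ : θ x₀ = 1 := by
    show LinearMap.mul' _ _ ((θb.lTensor _) x₀) = 1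
    rw [hx₀, LinearMap.lTensor_tmul, LinearMap.mul'_apply, hθb, hθ₀G, one_mul]
  have hx₀ne : x₀ ≠ 0 := by
    intro h0
    rw [h0, map_zero] at hθx₀
    exact zero_ne_one hθx₀
  -- Part B: the image of `x₀` vanishes
  have hmI : ∀ a ∈ maximalIdeal A, algebraMap A (A ⊗[k] k[X]) a ∈ I := by
    intro a ha
    rw [hI, Ideal.mem_comap, AlgHom.commutes, mem_maximalIdeal, mem_nonunits_iff,
      Algebra.TensorProduct.algebraMap_apply, Algebra.algebraMap_self, RingHom.id_apply]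
    intro hu
    have := isUnit_of_isUnit_tmul _ A a hu
    rw [mem_maximalIdeal, mem_nonunits_iff] at ha
    exact ha this
  have hB : ∀ w ∈ (maximalIdeal A) • (⊤ : Submodule A (Ω[A⁄k₀])),
      (1 : ((A ⊗[k] k[X]) ⧸ J) ⧸ Q) ⊗ₜ[A ⊗[k] k[X]] ((1 : (A ⊗[k] k[X]) ⧸ J) ⊗ₜ[A ⊗[k] k[X]]
        (KaehlerDifferential.map k₀ k₀ A (A ⊗[k] k[X]) w)) = 0 := by
    intro w hw
    refine Submodule.smul_induction_on hw ?_ ?_
    · intro a ha ω _
      rw [map_smul, ← algebraMap_smul (A ⊗[k] k[X]) a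
        (KaehlerDifferential.map k₀ k₀ A (A ⊗[k] k[X]) ω)]
      refine (tmul_tmul_smul _ _ _ _).trans ?_
      have h0 : (algebraMap A (A ⊗[k] k[X]) a) • (1 : ((A ⊗[k] k[X]) ⧸ J) ⧸ Q) = 0 := by
        refine (Algebra.smul_def (algebraMap A (A ⊗[k] k[X]) a)
          (1 : ((A ⊗[k] k[X]) ⧸ J) ⧸ Q)).trans ?_
        rw [hIL _ (hmI a ha), zero_mul]
      rw [h0, zero_tmul]
    · intro x y hx hy
      rw [map_add, tmul_add, tmul_add, hx, hy, add_zero]
  have hpP : ((p : ℕ) : A ⊗[k] k[X]) = 0 := by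
    have h1 : ((p : ℕ) : k) = 0 := CharP.cast_eq_zero k p
    have h2 := congrArg (algebraMap k (A ⊗[k] k[X])) h1
    rwa [map_natCast, map_zero] at h2
  have hDG : KaehlerDifferential.D k₀ (A ⊗[k] k[X]) G =
      - KaehlerDifferential.map k₀ k₀ A (A ⊗[k] k[X])
        (KaehlerDifferential.D k₀ A (algebraMap k A z)) := by
    have hGeq : G = ((1 : A) ⊗ₜ[k] (X : k[X])) ^ p -
        algebraMap A (A ⊗[k] k[X]) (algebraMap k A z) := by
      rw [hG, hg₀, tmul_sub, Algebra.TensorProduct.tmul_pow, one_pow,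
        Algebra.TensorProduct.algebraMap_apply, Algebra.algebraMap_self, RingHom.id_apply,
        Algebra.algebraMap_eq_smul_one z, TensorProduct.smul_tmul, ← Algebra.algebraMap_eq_smul_one,
        Polynomial.C_eq_algebraMap]
    have hpw : ∀ w : Ω[(A ⊗[k] k[X])⁄k₀], p • w = 0 := by
      intro w
      rw [← Nat.cast_smul_eq_nsmul (A ⊗[k] k[X]) p, hpP]
      exact zero_smul (A ⊗[k] k[X]) w
    rw [hGeq, map_sub, Derivation.leibniz_pow, hpw, zero_sub, KaehlerDifferential.map_D]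
  have hy₀ : LinearMap.baseChange (((A ⊗[k] k[X]) ⧸ J) ⧸ Q)
      (kerCotangentToTensor k₀ (A ⊗[k] k[X]) ((A ⊗[k] k[X]) ⧸ J)) x₀ = 0 := by
    rw [hx₀, LinearMap.baseChange_tmul, kerCotangentToTensor_toCotangent]
    show (1 : ((A ⊗[k] k[X]) ⧸ J) ⧸ Q) ⊗ₜ[A ⊗[k] k[X]] ((1 : (A ⊗[k] k[X]) ⧸ J) ⊗ₜ[A ⊗[k] k[X]]
        (KaehlerDifferential.D k₀ (A ⊗[k] k[X]) G)) = 0
    rw [hDG, tmul_neg, tmul_neg, hB _ hmem, neg_zero]
  have hfin := LinearMap.congr_fun hgL x₀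
  rw [LinearMap.comp_apply, hy₀, map_zero] at hfin
  exact hx₀ne hfin.symm

end LemmaS

end Groth.Agent.H23.GeomRegFS
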