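import Groth.Agent.H23.GeomRegFS

/-!
# Geometrically regular ⇒ adically formally smooth (EGA 0_IV 22.5.8, characteristic `p`)

Part 2: the induction on a finite `p`-independent family.
-/

set_option autoImplicit false
set_option linter.style.haveILetI false

namespace Groth.Agent.H23.GeomRegFS

open TensorProduct KaehlerDifferential IsLocalRing Polynomial

universe u

section Swap

variable (p : ℕ) [Fact p.Prime] {k : Type u} [Field k] [CharP k p] (k' : Type u) [Field k']
  [Algebra k k'] (A : Type u) [CommRing A] [Algebra k A]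

theorem isUnit_of_isUnit_one_tmul (a : A) (h : IsUnit ((1 : k') ⊗ₜ[k] a)) : IsUnit a := by
  apply isUnit_of_isUnit_tmul (k := k) k' A a
  have h1 := h.map (Algebra.TensorProduct.comm k k' A)
  rwa [Algebra.TensorProduct.comm_tmul] at h1

theorem isLocalRing_tensor' (hpow : ∀ c : k', c ^ p ∈ (algebraMap k k').range) [IsLocalRing A] :
    IsLocalRing (k' ⊗[k] A) := by
  haveI := isLocalRing_tensor p k' A hpow
  exact (Algebra.TensorProduct.comm k A k').toRingEquiv.isLocalRing

theorem geomReg_baseChange [Module.Finite k k'] (h : CAlg.IsGeometricallyRegular k A) :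
    CAlg.IsGeometricallyRegular k' (k' ⊗[k] A) := by
  intro k'' _ _ hfin
  letI : Algebra k k'' := ((algebraMap k' k'').comp (algebraMap k k')).toAlgebra
  haveI : IsScalarTower k k' k'' := IsScalarTower.of_algebraMap_eq (fun _ => rfl)
  haveI : Module.Finite k k'' := Module.Finite.trans k' k''
  haveI := h k'' inferInstance
  exact IsRegularRing.of_ringEquiv
    (Algebra.TensorProduct.cancelBaseChange k k' k'' k'' A).symm.toRingEquiv

end Swap

section Abstract

variable {k₀ : Type u} [Field k₀]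

/-- Transport of a relation among differentials along a local homomorphism `A → A'`. -/
theorem sum_map_mem {k : Type u} [Field k] [Algebra k₀ k]
    (A : Type u) [CommRing A] [IsLocalRing A] [Algebra k A] [Algebra k₀ A]
    (k' : Type u) [Field k'] [Algebra k k']
    (A' : Type u) [CommRing A'] [IsLocalRing A'] [Algebra k' A'] [Algebra k₀ A']
    [Algebra A A'] [IsScalarTower k₀ A A'] [IsLocalHom (algebraMap A A')]
    (hcomm : ∀ c : k, algebraMap A A' (algebraMap k A c) = algebraMap k' A' (algebraMap k k' c))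
    {ι : Type*} (s : Finset ι) (x : ι → k) (c : ι → A)
    (h : ∑ i ∈ s, c i • D k₀ A (algebraMap k A (x i)) ∈
      maximalIdeal A • (⊤ : Submodule A (Ω[A⁄k₀]))) :
    ∑ i ∈ s, algebraMap A A' (c i) • D k₀ A' (algebraMap k' A' (algebraMap k k' (x i))) ∈
      maximalIdeal A' • (⊤ : Submodule A' (Ω[A'⁄k₀])) := by
  have hB : ∀ w ∈ maximalIdeal A • (⊤ : Submodule A (Ω[A⁄k₀])),
      KaehlerDifferential.map k₀ k₀ A A' w ∈ maximalIdeal A' • (⊤ : Submodule A' (Ω[A'⁄k₀])) := by
    intro w hw
    refine Submodule.smul_induction_on hw ?_ ?_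
    · intro a ha ω _
      rw [map_smul, ← algebraMap_smul A' a (KaehlerDifferential.map k₀ k₀ A A' ω)]
      refine Submodule.smul_mem_smul ?_ Submodule.mem_top
      rw [mem_maximalIdeal, mem_nonunits_iff] at ha ⊢
      intro hu
      exact ha (isUnit_of_map_unit (algebraMap A A') a hu)
    · intro x y hx hy
      rw [map_add]
      exact Submodule.add_mem _ hx hy
  have h1 := hB _ h
  rw [map_sum] at h1
  convert h1 using 1
  refine Finset.sum_congr rfl fun i _ => ?_
  rw [map_smul, KaehlerDifferential.map_D, hcomm, algebraMap_smul]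

end Abstract

section Ind

variable (p : ℕ) [Fact p.Prime] {k₀ : Type u} [Field k₀]

/-- `p`-independence of a finite subfamily, in the "not in the subfield generated by the others"
form. -/
def PIndOn {k : Type u} [Field k] [Algebra k₀ k] {ι : Type*} (s : Finset ι) (x : ι → k) : Prop :=
  ∀ a ∈ s, x a ∉ IntermediateField.adjoin k₀
    ((Set.range fun y : k => y ^ p) ∪ x '' {b | b ∈ s ∧ b ≠ a})

theorem irreducible_of_pIndOn {k : Type u} [Field k] [Algebra k₀ k] {ι : Type*}
    (s : Finset ι) (x : ι → k) (hx : PIndOn (k₀ := k₀) p s x) (i₀ : ι) (hi₀ : i₀ ∈ s) :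
    Irreducible (X ^ p - C (x i₀) : k[X]) := by
  apply X_pow_sub_C_irreducible_of_prime (Fact.out : p.Prime)
  intro b hb
  exact hx i₀ hi₀ (IntermediateField.subset_adjoin _ _ (Or.inl ⟨b, hb⟩))

theorem pIndOn_root {k : Type u} [Field k] [Algebra k₀ k] [CharP k p] {ι : Type*}
    (s : Finset ι) (i₀ : ι) (hi₀ : i₀ ∉ s) (x : ι → k) [DecidableEq ι]
    [Fact (Irreducible (X ^ p - C (x i₀) : k[X]))]
    (hx : PIndOn (k₀ := k₀) p (insert i₀ s) x) :
    PIndOn (k₀ := k₀) p s
      (fun i => algebraMap k (AdjoinRoot (X ^ p - C (x i₀) : k[X])) (x i)) := by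
  intro a ha hmem
  let E : IntermediateField k₀ k := IntermediateField.adjoin k₀
    ((Set.range fun y : k => y ^ p) ∪ x '' {b | b ∈ insert i₀ s ∧ b ≠ a})
  have hle : IntermediateField.adjoin k₀
      ((Set.range fun y : AdjoinRoot (X ^ p - C (x i₀) : k[X]) => y ^ p) ∪
        (fun i => algebraMap k (AdjoinRoot (X ^ p - C (x i₀) : k[X])) (x i)) ''
          {b | b ∈ s ∧ b ≠ a}) ≤
      E.map (IsScalarTower.toAlgHom k₀ k (AdjoinRoot (X ^ p - C (x i₀) : k[X]))) := by
    rw [IntermediateField.adjoin_le_iff]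
    rintro y (⟨y, rfl⟩ | ⟨b, ⟨hbs, hba⟩, rfl⟩)
    · refine Groth.Agent.H13.PB.pow_mem_map p (x i₀) E
        (fun c => IntermediateField.subset_adjoin _ _ (Or.inl ⟨c, rfl⟩)) ?_ y
      refine IntermediateField.subset_adjoin _ _
        (Or.inr ⟨i₀, ⟨Finset.mem_insert_self _ _, ?_⟩, rfl⟩)
      rintro rfl
      exact hi₀ ha
    · refine (IntermediateField.mem_map _).mpr ⟨x b, ?_, rfl⟩
      exact IntermediateField.subset_adjoin _ _
        (Or.inr ⟨b, ⟨Finset.mem_insert_of_mem hbs, hba⟩, rfl⟩)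
  obtain ⟨c, hc, hca⟩ := (IntermediateField.mem_map _).mp (hle hmem)
  have hca' : c = x a := (algebraMap k (AdjoinRoot (X ^ p - C (x i₀) : k[X]))).injective hca
  rw [hca'] at hc
  exact hx a (Finset.mem_insert_of_mem ha) hc

end Ind

section Concrete

attribute [local instance] Algebra.TensorProduct.rightAlgebra

variable {k₀ k : Type u} [Field k₀] [Field k] [Algebra k₀ k] (k' : Type u) [Field k']
  [Algebra k k'] [Algebra k₀ k'] [IsScalarTower k₀ k k'] (A : Type u) [CommRing A] [Algebra k A]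
  [Algebra k₀ A] [IsScalarTower k₀ k A]

theorem hcomm_tensor (c : k) :
    algebraMap A (k' ⊗[k] A) (algebraMap k A c) =
      algebraMap k' (k' ⊗[k] A) (algebraMap k k' c) := by
  rw [Algebra.TensorProduct.right_algebraMap_apply, Algebra.TensorProduct.algebraMap_apply,
    Algebra.algebraMap_self, RingHom.id_apply, Algebra.algebraMap_eq_smul_one c,
    Algebra.algebraMap_eq_smul_one c, TensorProduct.smul_tmul]

theorem isScalarTower_tensor : IsScalarTower k₀ A (k' ⊗[k] A) := by
  refine IsScalarTower.of_algebraMap_eq fun c => ?_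
  rw [IsScalarTower.algebraMap_apply k₀ k A, hcomm_tensor k' A,
    ← IsScalarTower.algebraMap_apply k₀ k k', ← IsScalarTower.algebraMap_apply k₀ k' (k' ⊗[k] A)]

end Concrete

section Induction

attribute [local instance] Algebra.TensorProduct.rightAlgebra

variable (p : ℕ) [Fact p.Prime] {k₀ : Type u} [Field k₀] [PerfectField k₀]

theorem ind {ι : Type*} [DecidableEq ι] (s : Finset ι) :
    ∀ (k : Type u) [Field k] [Algebra k₀ k] [CharP k p] (A : Type u) [CommRing A] [IsLocalRing A]
      [IsNoetherianRing A] [Algebra k A] [Algebra k₀ A] [IsScalarTower k₀ k A],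
      CAlg.IsGeometricallyRegular k A → ∀ x : ι → k, PIndOn (k₀ := k₀) p s x → ∀ c : ι → A,
      (∑ i ∈ s, c i • D k₀ A (algebraMap k A (x i))) ∈
        maximalIdeal A • (⊤ : Submodule A (Ω[A⁄k₀])) →
      ∀ i ∈ s, c i ∈ maximalIdeal A := by
  induction s using Finset.induction_on with
  | empty =>
    intro k _ _ _ A _ _ _ _ _ _ _ x _ c _ i hi
    exact absurd hi (Finset.notMem_empty i)
  | insert i₀ s hi₀ IH =>
    intro k _ _ _ A _ _ _ _ _ _ hgr x hx c hsum
    have hp : p.Prime := Fact.out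
    haveI hirr : Fact (Irreducible (X ^ p - C (x i₀) : k[X])) :=
      ⟨irreducible_of_pIndOn p (insert i₀ s) x hx i₀ (Finset.mem_insert_self _ _)⟩
    haveI hfin : Module.Finite k (AdjoinRoot (X ^ p - C (x i₀) : k[X])) :=
      (monic_X_pow_sub_C (x i₀) hp.ne_zero).finite_adjoinRoot
    haveI hloc : IsLocalRing (AdjoinRoot (X ^ p - C (x i₀) : k[X]) ⊗[k] A) :=
      isLocalRing_tensor' p _ A (adjoinRoot_pow_mem p (x i₀))
    haveI hnoeth : IsNoetherianRing (AdjoinRoot (X ^ p - C (x i₀) : k[X]) ⊗[k] A) := by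
      haveI : IsNoetherianRing (A ⊗[k] AdjoinRoot (X ^ p - C (x i₀) : k[X])) :=
        IsNoetherianRing.of_finite A _
      exact isNoetherianRing_of_ringEquiv _
        (Algebra.TensorProduct.comm k A (AdjoinRoot (X ^ p - C (x i₀) : k[X]))).toRingEquiv
    haveI htower : IsScalarTower k₀ A (AdjoinRoot (X ^ p - C (x i₀) : k[X]) ⊗[k] A) :=
      isScalarTower_tensor _ A
    haveI hlh : IsLocalHom (algebraMap A (AdjoinRoot (X ^ p - C (x i₀) : k[X]) ⊗[k] A)) :=
      ⟨fun a ha => isUnit_of_isUnit_one_tmul (k := k) _ A a ha⟩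
    have hreg : IsRegularRing (A ⊗[k] AdjoinRoot (X ^ p - C (x i₀) : k[X])) := by
      haveI := hgr (AdjoinRoot (X ^ p - C (x i₀) : k[X])) hfin
      exact IsRegularRing.of_ringEquiv
        (Algebra.TensorProduct.comm k (AdjoinRoot (X ^ p - C (x i₀) : k[X])) A).toRingEquiv
    have hgr' : CAlg.IsGeometricallyRegular (AdjoinRoot (X ^ p - C (x i₀) : k[X]))
        (AdjoinRoot (X ^ p - C (x i₀) : k[X]) ⊗[k] A) := geomReg_baseChange _ A hgr
    have hpA' : ((p : ℕ) : AdjoinRoot (X ^ p - C (x i₀) : k[X]) ⊗[k] A) = 0 := by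
      have h1 : ((p : ℕ) : k) = 0 := CharP.cast_eq_zero k p
      have h2 := congrArg (algebraMap k (AdjoinRoot (X ^ p - C (x i₀) : k[X]) ⊗[k] A)) h1
      rwa [map_natCast, map_zero] at h2
    have hd : D k₀ (AdjoinRoot (X ^ p - C (x i₀) : k[X]) ⊗[k] A)
        (algebraMap (AdjoinRoot (X ^ p - C (x i₀) : k[X]))
          (AdjoinRoot (X ^ p - C (x i₀) : k[X]) ⊗[k] A)
          (algebraMap k (AdjoinRoot (X ^ p - C (x i₀) : k[X])) (x i₀))) = 0 := by
      rw [← Groth.Agent.H13.PB.root_pow, map_pow, Derivation.leibniz_pow,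
        ← Nat.cast_smul_eq_nsmul (AdjoinRoot (X ^ p - C (x i₀) : k[X]) ⊗[k] A) p, hpA']
      exact zero_smul (AdjoinRoot (X ^ p - C (x i₀) : k[X]) ⊗[k] A) _
    have h2 := sum_map_mem (k₀ := k₀) A (AdjoinRoot (X ^ p - C (x i₀) : k[X]))
      (AdjoinRoot (X ^ p - C (x i₀) : k[X]) ⊗[k] A) (hcomm_tensor _ A) (insert i₀ s) x c hsum
    rw [Finset.sum_insert hi₀, hd, smul_zero, zero_add] at h2
    have h3 := IH (AdjoinRoot (X ^ p - C (x i₀) : k[X]))
      (AdjoinRoot (X ^ p - C (x i₀) : k[X]) ⊗[k] A) hgr'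
      (fun i => algebraMap k (AdjoinRoot (X ^ p - C (x i₀) : k[X])) (x i))
      (pIndOn_root p s i₀ hi₀ x hx)
      (fun i => algebraMap A (AdjoinRoot (X ^ p - C (x i₀) : k[X]) ⊗[k] A) (c i)) h2
    have hcs : ∀ i ∈ s, c i ∈ maximalIdeal A := by
      intro i hi
      have h4 := h3 i hi
      rw [mem_maximalIdeal, mem_nonunits_iff] at h4 ⊢
      intro hu
      exact h4 (hu.map _)
    intro i hi
    rcases Finset.mem_insert.mp hi with rfl | hi
    · by_contra hci
      rw [mem_maximalIdeal, mem_nonunits_iff, not_not] at hci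
      rw [Finset.sum_insert hi₀] at hsum
      have hSum : ∑ j ∈ s, c j • D k₀ A (algebraMap k A (x j)) ∈
          maximalIdeal A • (⊤ : Submodule A (Ω[A⁄k₀])) :=
        Submodule.sum_mem _ fun j hj => Submodule.smul_mem_smul (hcs j hj) Submodule.mem_top
      have h5 := (Submodule.add_mem_iff_left _ hSum).mp hsum
      obtain ⟨u, hu⟩ := hci
      have h6 : D k₀ A (algebraMap k A (x i)) ∈
          maximalIdeal A • (⊤ : Submodule A (Ω[A⁄k₀])) := by
        have h7 := Submodule.smul_mem _ (↑u⁻¹ : A) h5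
        rwa [← hu, smul_smul, Units.inv_mul, one_smul] at h7
      exact D_notMem_smul_top p A (x i) hreg h6
    · exact hcs i hi

end Induction

section Main

theorem mem_smul_top_of_tmul_eq_zero {A : Type u} [CommRing A] [IsLocalRing A]
    (M : Type*) [AddCommGroup M] [Module A M] (w : M)
    (h : (1 : ResidueField A) ⊗ₜ[A] w = 0) :
    w ∈ maximalIdeal A • (⊤ : Submodule A M) := by
  have h1 := (congrArg (TensorProduct.quotTensorEquivQuotSMul M (maximalIdeal A)) h).trans
    (map_zero (TensorProduct.quotTensorEquivQuotSMul M (maximalIdeal A)))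
  have h2 : (Submodule.Quotient.mk w : M ⧸ (maximalIdeal A • (⊤ : Submodule A M))) = 0 :=
    (TensorProduct.quotTensorEquivQuotSMul_mk_one_tmul (maximalIdeal A) w).symm.trans h1
  exact (Submodule.Quotient.mk_eq_zero _).mp h2

variable (p : ℕ) [Fact p.Prime] {k₀ k : Type u} [Field k₀] [Field k]
  [Algebra k₀ k] [CharP k p]

theorem pIndOn_of_isPIndependent {ι : Type u} (x : ι → k)
    (hx : EGA41.IsPIndependent p k₀ x) (s : Finset ι) : PIndOn (k₀ := k₀) p s x := by
  intro a _ hmem
  refine (Groth.Agent.H13.PB.isPIndependent_iff_notMem_adjoin p x).mp hx a ?_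
  refine IntermediateField.adjoin.mono k₀ _ _ ?_ hmem
  refine Set.union_subset_union_right _ (Set.image_mono ?_)
  intro b hb
  exact hb.2

variable [PerfectField k₀]
  (A : Type u) [CommRing A] [IsLocalRing A] [IsNoetherianRing A] [Algebra k A] [Algebra k₀ A]
  [IsScalarTower k₀ k A]

include p in
/-- (G3): injectivity of `K ⊗ Ω_{k/k₀} → K ⊗ Ω_{A/k₀}` for `A` geometrically regular. -/
theorem injective_lTensor (hgr : CAlg.IsGeometricallyRegular k A) :
    Function.Injective
      ((KaehlerDifferential.mapBaseChange k₀ k A).lTensor (ResidueField A)) := by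
  classical
  obtain ⟨B, hB⟩ := Groth.Agent.H47.exists_isPBasis_field p (k := k₀) (K := k)
  obtain ⟨b, hb⟩ :=
    Groth.Agent.H13.PB.exists_basis_kaehler_of_isPBasis p (Subtype.val : B → k) hB
  let bA : Module.Basis B A (A ⊗[k] Ω[k⁄k₀]) := b.baseChange A
  let bK : Module.Basis B (ResidueField A) (ResidueField A ⊗[A] (A ⊗[k] Ω[k⁄k₀])) :=
    bA.baseChange (ResidueField A)
  let f : ResidueField A ⊗[A] (A ⊗[k] Ω[k⁄k₀]) →ₗ[ResidueField A]
      ResidueField A ⊗[A] Ω[A⁄k₀] :=
    (KaehlerDifferential.mapBaseChange k₀ k A).baseChange (ResidueField A)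
  have hf : (f : _ → _) =
      ((KaehlerDifferential.mapBaseChange k₀ k A).lTensor (ResidueField A)) :=
    LinearMap.baseChange_eq_ltensor _
  rw [← hf]
  have hfb : ∀ i : B, f (bK i) =
      (1 : ResidueField A) ⊗ₜ[A] D k₀ A (algebraMap k A i.1) := by
    intro i
    show f ((bA.baseChange (ResidueField A)) i) = _
    rw [Module.Basis.baseChange_apply]
    show f (1 ⊗ₜ (b.baseChange A) i) = _
    rw [Module.Basis.baseChange_apply, LinearMap.baseChange_tmul, hb,
      KaehlerDifferential.mapBaseChange_tmul, one_smul, KaehlerDifferential.map_D]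
  have hli : LinearIndependent (ResidueField A) (fun i : B => f (bK i)) := by
    rw [linearIndependent_iff']
    intro s g hg
    choose c hc using fun i => IsLocalRing.residue_surjective (g i)
    have h1 : ∀ i : B, g i • f (bK i) =
        (1 : ResidueField A) ⊗ₜ[A] (c i • D k₀ A (algebraMap k A i.1)) := by
      intro i
      rw [hfb, TensorProduct.smul_tmul', smul_eq_mul, mul_one, TensorProduct.tmul_smul,
        TensorProduct.smul_tmul', ← hc i, Algebra.smul_def, mul_one]
      rfl
    rw [Finset.sum_congr rfl (fun i _ => h1 i), ← TensorProduct.tmul_sum] at hg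
    have h2 := mem_smul_top_of_tmul_eq_zero _ _ hg
    have h3 := ind p s k A hgr (Subtype.val : B → k)
      (pIndOn_of_isPIndependent p _ hB.1 s) c h2
    intro i hi
    rw [← hc i]
    exact (IsLocalRing.residue_eq_zero_iff _).mpr (h3 i hi)
  rw [← LinearMap.ker_eq_bot, LinearMap.ker_eq_bot']
  intro y hy
  have h1 : Finsupp.linearCombination _ bK (bK.repr y) = y := bK.linearCombination_repr y
  rw [← h1, Finsupp.apply_linearCombination] at hy
  have h2 := linearIndependent_iff.mp hli _ hy
  rw [← h1, h2, map_zero]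

end Main

end Groth.Agent.H23.GeomRegFS
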