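import Groth.Agent.H23.GeomRegFS2
import Groth.Agent.H96.RegAdicSmooth

/-!
# Geometrically regular ⇒ adically formally smooth (EGA 0_IV 22.5.8, characteristic `p`)

Part 3: the theorem.
-/

set_option autoImplicit false
set_option linter.style.haveILetI false

namespace Groth.Agent.H23.GeomRegFS

open TensorProduct KaehlerDifferential IsLocalRing Polynomial

universe u

/-- EGA 0_IV 22.5.8 in characteristic `p`: a Noetherian local `k`-algebra that is geometrically
regular over `k` is formally smooth over `k` for its adic topology. -/
theorem adic_of_geomReg (p : ℕ) [Fact p.Prime] {k : Type u} [Field k] [CharP k p]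
    (A : Type u) [CommRing A] [IsLocalRing A] [IsNoetherianRing A] [Algebra k A]
    (hgr : CAlg.IsGeometricallyRegular k A) :
    CAlgX.IsAdicFormallySmooth k A (maximalIdeal A) := by
  let k₀ := (⊥ : Subfield k)
  haveI : PerfectField k₀ := Groth.Agent.H96.GeomRegAdic.perfectField_bot k
  haveI : Algebra.FormallySmooth k₀ (ResidueField A) :=
    Groth.Agent.H47.formallySmooth_of_perfectField_field
  haveI : Algebra.IsGeometricallyReduced k₀ (ResidueField A) :=
    Groth.Agent.H47.isGeometricallyReduced_of_formallySmooth_field
  -- `A` is regular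
  haveI hregA : IsRegularRing A := by
    haveI := hgr k (Module.Finite.self k)
    exact IsRegularRing.of_ringEquiv (Algebra.TensorProduct.lid k A).toRingEquiv
  haveI : IsRegularLocalRing A := IsRegularLocalRing.of_isRegularRing_of_isLocalRing A
  have h₀ : CAlgX.IsAdicFormallySmooth k₀ A (maximalIdeal A) :=
    Groth.Agent.H96.RegAdicSmooth.adic_of_regular k₀ A
  exact Groth.Agent.H23.FSCriterion.adic_of_injective h₀ (injective_lTensor p A hgr)

end Groth.Agent.H23.GeomRegFS
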