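import Groth.Agent.H23.GeomRegFS3

/-!
# EGA 0_IV 22.5.8, refined: it suffices to test regularity of `k' ⊗ A` on finite extensions `k'`
of `k` with `k'^p ⊆ k`.

We redo the induction of `GeomRegFS2` keeping track of a subfield `F` of `k` containing `k^p` and
the members of the `p`-independent family.
-/

set_option autoImplicit false
set_option linter.style.haveILetI false

namespace Groth.Agent.H23.GeomRegFS

open TensorProduct KaehlerDifferential IsLocalRing Polynomial

universe u

/-- Weak geometric regularity relative to `F → k`: `k' ⊗ A` is regular for the finite extensions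
`k'` of `k` whose `p`-th powers lie in the image of `F`. -/
def WGR (p : ℕ) (F k A : Type u) [Field F] [Field k] [Algebra F k] [CommRing A] [Algebra k A] :
    Prop :=
  ∀ (k' : Type u) [Field k'] [Algebra k k'], Module.Finite k k' →
    (∀ y : k', y ^ p ∈ ((algebraMap k k').comp (algebraMap F k)).range) →
    IsRegularRing (k' ⊗[k] A)

section Pow

variable (p : ℕ) [Fact p.Prime] {F k : Type u} [Field F] [Field k] [Algebra F k] [CharP k p]
  (z : k) [Fact (Irreducible (X ^ p - C z : k[X]))]

theorem adjoinRoot_pow_mem' (hFp : ∀ c : k, c ^ p ∈ (algebraMap F k).range)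
    (hz : z ∈ (algebraMap F k).range) (y : AdjoinRoot (X ^ p - C z : k[X])) :
    y ^ p ∈ (algebraMap F (AdjoinRoot (X ^ p - C z : k[X]))).range := by
  let R' : Subring (AdjoinRoot (X ^ p - C z : k[X])) :=
    (algebraMap F (AdjoinRoot (X ^ p - C z : k[X]))).range
  have hR' : ∀ c : k, c ∈ (algebraMap F k).range →
      algebraMap k (AdjoinRoot (X ^ p - C z : k[X])) c ∈ R' := by
    rintro c ⟨f, rfl⟩
    exact ⟨f, IsScalarTower.algebraMap_apply F k _ f⟩
  let S : Subalgebra k (AdjoinRoot (X ^ p - C z : k[X])) :=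
    { carrier := {y | y ^ p ∈ R'}
      mul_mem' := fun {a b} ha hb => by
        change (a * b) ^ p ∈ R'
        rw [mul_pow]; exact mul_mem ha hb
      add_mem' := fun {a b} ha hb => by
        change (a + b) ^ p ∈ R'
        rw [add_pow_char]; exact add_mem ha hb
      algebraMap_mem' := fun c => by
        change (algebraMap k _ c) ^ p ∈ R'
        rw [← map_pow]
        exact hR' _ (hFp c) }
  have hroot : AdjoinRoot.root (X ^ p - C z : k[X]) ∈ S := by
    change (AdjoinRoot.root (X ^ p - C z : k[X])) ^ p ∈ R'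
    rw [Groth.Agent.H13.PB.root_pow]
    exact hR' _ hz
  have htop : (⊤ : Subalgebra k (AdjoinRoot (X ^ p - C z : k[X]))) ≤ S := by
    rw [← AdjoinRoot.adjoinRoot_eq_top]
    exact Algebra.adjoin_le (Set.singleton_subset_iff.mpr hroot)
  exact htop Algebra.mem_top

end Pow

section BC

variable (p : ℕ) {F k : Type u} [Field F] [Field k] [Algebra F k] (k' : Type u) [Field k']
  [Algebra k k'] [Algebra F k'] [IsScalarTower F k k'] [Module.Finite k k']
  (A : Type u) [CommRing A] [Algebra k A]

theorem wgr_baseChange (h : WGR p F k A) : WGR p F k' (k' ⊗[k] A) := by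
  intro k'' _ _ hfin hpow
  letI : Algebra k k'' := ((algebraMap k' k'').comp (algebraMap k k')).toAlgebra
  haveI : IsScalarTower k k' k'' := IsScalarTower.of_algebraMap_eq (fun _ => rfl)
  haveI : Module.Finite k k'' := Module.Finite.trans k' k''
  have hpow' : ∀ y : k'', y ^ p ∈ ((algebraMap k k'').comp (algebraMap F k)).range := by
    intro y
    obtain ⟨f, hf⟩ := hpow y
    refine ⟨f, ?_⟩
    rw [← hf, RingHom.comp_apply, RingHom.comp_apply, IsScalarTower.algebraMap_apply F k k']
    rfl
  haveI := h k'' inferInstance hpow'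
  exact IsRegularRing.of_ringEquiv
    (Algebra.TensorProduct.cancelBaseChange k k' k'' k'' A).symm.toRingEquiv

end BC

section Induction

attribute [local instance] Algebra.TensorProduct.rightAlgebra

variable (p : ℕ) [Fact p.Prime] {k₀ : Type u} [Field k₀] [PerfectField k₀]

theorem ind' {ι : Type*} [DecidableEq ι] (s : Finset ι) :
    ∀ (k : Type u) [Field k] [Algebra k₀ k] [CharP k p] (F : Type u) [Field F] [Algebra F k]
      (A : Type u) [CommRing A] [IsLocalRing A]
      [IsNoetherianRing A] [Algebra k A] [Algebra k₀ A] [IsScalarTower k₀ k A],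
      (∀ c : k, c ^ p ∈ (algebraMap F k).range) →
      WGR p F k A → ∀ x : ι → k, (∀ i ∈ s, x i ∈ (algebraMap F k).range) →
      PIndOn (k₀ := k₀) p s x → ∀ c : ι → A,
      (∑ i ∈ s, c i • D k₀ A (algebraMap k A (x i))) ∈
        maximalIdeal A • (⊤ : Submodule A (Ω[A⁄k₀])) →
      ∀ i ∈ s, c i ∈ maximalIdeal A := by
  induction s using Finset.induction_on with
  | empty =>
    intro k _ _ _ F _ _ A _ _ _ _ _ _ _ _ x _ _ c _ i hi
    exact absurd hi (Finset.notMem_empty i)
  | insert i₀ s hi₀ IH =>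
    intro k _ _ _ F _ _ A _ _ _ _ _ _ hFp hgr x hxF hx c hsum
    have hp : p.Prime := Fact.out
    haveI hirr : Fact (Irreducible (X ^ p - C (x i₀) : k[X])) :=
      ⟨irreducible_of_pIndOn p (insert i₀ s) x hx i₀ (Finset.mem_insert_self _ _)⟩
    haveI hfin : Module.Finite k (AdjoinRoot (X ^ p - C (x i₀) : k[X])) :=
      (monic_X_pow_sub_C (x i₀) hp.ne_zero).finite_adjoinRoot
    haveI hloc : IsLocalRing (AdjoinRoot (X ^ p - C (x i₀) : k[X]) ⊗[k] A) :=
      isLocalRing_tensor' p _ A (adjoinRoot_pow_mem p (x i₀))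
    haveI hnoeth : IsNoetherianRing (AdjoinRoot (X ^ p - C (x i₀) : k[X]) ⊗[k] A) := by
      haveI : IsNoetherianRing (A ⊗[k] AdjoinRoot (X ^ p - C (x i₀) : k[X])) :=
        IsNoetherianRing.of_finite A _
      exact isNoetherianRing_of_ringEquiv _
        (Algebra.TensorProduct.comm k A (AdjoinRoot (X ^ p - C (x i₀) : k[X]))).toRingEquiv
    haveI htower : IsScalarTower k₀ A (AdjoinRoot (X ^ p - C (x i₀) : k[X]) ⊗[k] A) :=
      isScalarTower_tensor _ A
    haveI hlh : IsLocalHom (algebraMap A (AdjoinRoot (X ^ p - C (x i₀) : k[X]) ⊗[k] A)) :=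
      ⟨fun a ha => isUnit_of_isUnit_one_tmul (k := k) _ A a ha⟩
    have hFp' : ∀ y : AdjoinRoot (X ^ p - C (x i₀) : k[X]),
        y ^ p ∈ (algebraMap F (AdjoinRoot (X ^ p - C (x i₀) : k[X]))).range :=
      adjoinRoot_pow_mem' p (x i₀) hFp (hxF i₀ (Finset.mem_insert_self _ _))
    have hreg : IsRegularRing (A ⊗[k] AdjoinRoot (X ^ p - C (x i₀) : k[X])) := by
      haveI := hgr (AdjoinRoot (X ^ p - C (x i₀) : k[X])) hfin (by
        intro y
        obtain ⟨f, hf⟩ := hFp' y
        refine ⟨f, ?_⟩
        rw [← hf, RingHom.comp_apply, ← IsScalarTower.algebraMap_apply])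
      exact IsRegularRing.of_ringEquiv
        (Algebra.TensorProduct.comm k (AdjoinRoot (X ^ p - C (x i₀) : k[X])) A).toRingEquiv
    have hgr' : WGR p F (AdjoinRoot (X ^ p - C (x i₀) : k[X]))
        (AdjoinRoot (X ^ p - C (x i₀) : k[X]) ⊗[k] A) := wgr_baseChange p _ A hgr
    have hpA' : ((p : ℕ) : AdjoinRoot (X ^ p - C (x i₀) : k[X]) ⊗[k] A) = 0 := by
      have h1 : ((p : ℕ) : k) = 0 := CharP.cast_eq_zero k p
      have h2 := congrArg (algebraMap k (AdjoinRoot (X ^ p - C (x i₀) : k[X]) ⊗[k] A)) h1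
      rwa [map_natCast, map_zero] at h2
    have hd : D k₀ (AdjoinRoot (X ^ p - C (x i₀) : k[X]) ⊗[k] A)
        (algebraMap (AdjoinRoot (X ^ p - C (x i₀) : k[X]))
          (AdjoinRoot (X ^ p - C (x i₀) : k[X]) ⊗[k] A)
          (algebraMap k (AdjoinRoot (X ^ p - C (x i₀) : k[X])) (x i₀))) = 0 := by
      rw [← Groth.Agent.H13.PB.root_pow, map_pow, Derivation.leibniz_pow,
        ← Nat.cast_smul_eq_nsmul (AdjoinRoot (X ^ p - C (x i₀) : k[X]) ⊗[k] A) p, hpA']
      exact zero_smul (AdjoinRoot (X ^ p - C (x i₀) : k[X]) ⊗[k] A) _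
    have h2 := sum_map_mem (k₀ := k₀) A (AdjoinRoot (X ^ p - C (x i₀) : k[X]))
      (AdjoinRoot (X ^ p - C (x i₀) : k[X]) ⊗[k] A) (hcomm_tensor _ A) (insert i₀ s) x c hsum
    rw [Finset.sum_insert hi₀, hd, smul_zero, zero_add] at h2
    have h3 := IH (AdjoinRoot (X ^ p - C (x i₀) : k[X])) F
      (AdjoinRoot (X ^ p - C (x i₀) : k[X]) ⊗[k] A) hFp' hgr'
      (fun i => algebraMap k (AdjoinRoot (X ^ p - C (x i₀) : k[X])) (x i))
      (by
        intro i hi
        obtain ⟨f, hf⟩ := hxF i (Finset.mem_insert_of_mem hi)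
        exact ⟨f, by rw [IsScalarTower.algebraMap_apply F k, hf]⟩)
      (pIndOn_root p s i₀ hi₀ x hx)
      (fun i => algebraMap A (AdjoinRoot (X ^ p - C (x i₀) : k[X]) ⊗[k] A) (c i)) h2
    have hcs : ∀ i ∈ s, c i ∈ maximalIdeal A := by
      intro i hi
      have h4 := h3 i hi
      rw [mem_maximalIdeal, mem_nonunits_iff] at h4 ⊢
      intro hu
      exact h4 (hu.map _)
    intro i hi
    rcases Finset.mem_insert.mp hi with rfl | hi
    · by_contra hci
      rw [mem_maximalIdeal, mem_nonunits_iff, not_not] at hci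
      rw [Finset.sum_insert hi₀] at hsum
      have hSum : ∑ j ∈ s, c j • D k₀ A (algebraMap k A (x j)) ∈
          maximalIdeal A • (⊤ : Submodule A (Ω[A⁄k₀])) :=
        Submodule.sum_mem _ fun j hj => Submodule.smul_mem_smul (hcs j hj) Submodule.mem_top
      have h5 := (Submodule.add_mem_iff_left _ hSum).mp hsum
      obtain ⟨u, hu⟩ := hci
      have h6 : D k₀ A (algebraMap k A (x i)) ∈
          maximalIdeal A • (⊤ : Submodule A (Ω[A⁄k₀])) := by
        have h7 := Submodule.smul_mem _ (↑u⁻¹ : A) h5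
        rwa [← hu, smul_smul, Units.inv_mul, one_smul] at h7
      exact D_notMem_smul_top p A (x i) hreg h6
    · exact hcs i hi

end Induction

section Main

variable (p : ℕ) [Fact p.Prime] {k₀ k : Type u} [Field k₀] [Field k]
  [Algebra k₀ k] [CharP k p] [PerfectField k₀]
  (A : Type u) [CommRing A] [IsLocalRing A] [IsNoetherianRing A] [Algebra k A] [Algebra k₀ A]
  [IsScalarTower k₀ k A]

include p in
/-- (G3'): injectivity of `K ⊗ Ω_{k/k₀} → K ⊗ Ω_{A/k₀}` for `A` weakly geometrically regular. -/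
theorem injective_lTensor' (hgr : WGR p k k A) :
    Function.Injective
      ((KaehlerDifferential.mapBaseChange k₀ k A).lTensor (ResidueField A)) := by
  classical
  obtain ⟨B, hB⟩ := Groth.Agent.H47.exists_isPBasis_field p (k := k₀) (K := k)
  obtain ⟨b, hb⟩ :=
    Groth.Agent.H13.PB.exists_basis_kaehler_of_isPBasis p (Subtype.val : B → k) hB
  let bA : Module.Basis B A (A ⊗[k] Ω[k⁄k₀]) := b.baseChange A
  let bK : Module.Basis B (ResidueField A) (ResidueField A ⊗[A] (A ⊗[k] Ω[k⁄k₀])) :=
    bA.baseChange (ResidueField A)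
  let f : ResidueField A ⊗[A] (A ⊗[k] Ω[k⁄k₀]) →ₗ[ResidueField A]
      ResidueField A ⊗[A] Ω[A⁄k₀] :=
    (KaehlerDifferential.mapBaseChange k₀ k A).baseChange (ResidueField A)
  have hf : (f : _ → _) =
      ((KaehlerDifferential.mapBaseChange k₀ k A).lTensor (ResidueField A)) :=
    LinearMap.baseChange_eq_ltensor _
  rw [← hf]
  have hfb : ∀ i : B, f (bK i) =
      (1 : ResidueField A) ⊗ₜ[A] D k₀ A (algebraMap k A i.1) := by
    intro i
    show f ((bA.baseChange (ResidueField A)) i) = _
    rw [Module.Basis.baseChange_apply]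
    show f (1 ⊗ₜ (b.baseChange A) i) = _
    rw [Module.Basis.baseChange_apply, LinearMap.baseChange_tmul, hb,
      KaehlerDifferential.mapBaseChange_tmul, one_smul, KaehlerDifferential.map_D]
  have hli : LinearIndependent (ResidueField A) (fun i : B => f (bK i)) := by
    rw [linearIndependent_iff']
    intro s g hg
    choose c hc using fun i => IsLocalRing.residue_surjective (g i)
    have h1 : ∀ i : B, g i • f (bK i) =
        (1 : ResidueField A) ⊗ₜ[A] (c i • D k₀ A (algebraMap k A i.1)) := by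
      intro i
      rw [hfb, TensorProduct.smul_tmul', smul_eq_mul, mul_one, TensorProduct.tmul_smul,
        TensorProduct.smul_tmul', ← hc i, Algebra.smul_def, mul_one]
      rfl
    rw [Finset.sum_congr rfl (fun i _ => h1 i), ← TensorProduct.tmul_sum] at hg
    have h2 := mem_smul_top_of_tmul_eq_zero _ _ hg
    have h3 := ind' p s k k A (fun c => ⟨c ^ p, rfl⟩) hgr (Subtype.val : B → k)
      (fun i _ => ⟨i.1, rfl⟩) (pIndOn_of_isPIndependent p _ hB.1 s) c h2
    intro i hi
    rw [← hc i]
    exact (IsLocalRing.residue_eq_zero_iff _).mpr (h3 i hi)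
  rw [← LinearMap.ker_eq_bot, LinearMap.ker_eq_bot']
  intro y hy
  have h1 : Finsupp.linearCombination _ bK (bK.repr y) = y := bK.linearCombination_repr y
  rw [← h1, Finsupp.apply_linearCombination] at hy
  have h2 := linearIndependent_iff.mp hli _ hy
  rw [← h1, h2, map_zero]

end Main

/-- EGA 0_IV 22.5.8 in characteristic `p`, refined form. -/
theorem adic_of_wgr (p : ℕ) [Fact p.Prime] {k : Type u} [Field k] [CharP k p]
    (A : Type u) [CommRing A] [IsLocalRing A] [IsNoetherianRing A] [Algebra k A]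
    (hgr : WGR p k k A) :
    CAlgX.IsAdicFormallySmooth k A (maximalIdeal A) := by
  let k₀ := (⊥ : Subfield k)
  haveI : PerfectField k₀ := Groth.Agent.H96.GeomRegAdic.perfectField_bot k
  haveI : Algebra.FormallySmooth k₀ (ResidueField A) :=
    Groth.Agent.H47.formallySmooth_of_perfectField_field
  haveI : Algebra.IsGeometricallyReduced k₀ (ResidueField A) :=
    Groth.Agent.H47.isGeometricallyReduced_of_formallySmooth_field
  haveI hregA : IsRegularRing A := by
    haveI := hgr k (Module.Finite.self k) (fun y => ⟨y ^ p, rfl⟩)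
    exact IsRegularRing.of_ringEquiv (Algebra.TensorProduct.lid k A).toRingEquiv
  haveI : IsRegularLocalRing A := IsRegularLocalRing.of_isRegularRing_of_isLocalRing A
  have h₀ : CAlgX.IsAdicFormallySmooth k₀ A (maximalIdeal A) :=
    Groth.Agent.H96.RegAdicSmooth.adic_of_regular k₀ A
  exact Groth.Agent.H23.FSCriterion.adic_of_injective h₀ (injective_lTensor' p A hgr)

end Groth.Agent.H23.GeomRegFS
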