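import Mathlib.AlgebraicGeometry.Geometrically.Basic
import Mathlib.AlgebraicGeometry.Geometrically.Irreducible
import Mathlib.AlgebraicGeometry.Geometrically.Connected
import Mathlib.AlgebraicGeometry.PullbackCarrier
import Mathlib.AlgebraicGeometry.ResidueField
import Mathlib.AlgebraicGeometry.Morphisms.Flat
import Mathlib.AlgebraicGeometry.Properties

set_option autoImplicit false
universe u

namespace Groth.Agent.H23

open AlgebraicGeometry CategoryTheory CategoryTheory.Limits MorphismProperty

variable {P : ObjectProperty Scheme.{u}}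

/-- Descent of `geometrically P` along a surjection on the source. -/
theorem geometrically_of_surjective_comp
    (hP : ∀ {A B : Scheme.{u}} (s : A ⟶ B), Surjective s → P A → P B)
    {X Y S : Scheme.{u}} (h : X ⟶ Y) (g : Y ⟶ S) [Surjective h]
    (hf : geometrically P (h ≫ g)) : geometrically P g := by
  rw [geometrically_eq_universally] at hf ⊢
  intro Y₁ S₁ i₁ i₂ f' H hint hsub
  have s : IsPullback (pullback.snd h i₁) (pullback.fst h i₁) i₁ h :=
    (IsPullback.of_hasPullback h i₁).flip
  have key := hf _ _ _ (s.paste_horiz H) hint hsub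
  have hs : Surjective (pullback.snd h i₁) := MorphismProperty.pullback_snd _ _ inferInstance
  exact hP _ hs key

/-- Descent of `geometrically P` along a surjective base change. -/
theorem geometrically_of_pullback_snd
    (hP : ∀ {A B : Scheme.{u}} (s : A ⟶ B), Surjective s → P A → P B)
    {X Y Y' : Scheme.{u}} (f : X ⟶ Y) (g : Y' ⟶ Y) [Surjective g]
    (hf : geometrically P (pullback.snd f g)) : geometrically P f := by
  rw [geometrically_eq_universally] at hf ⊢
  intro X₁ Y₁ i₁ i₂ f' H hint hsub
  obtain ⟨y₁⟩ : Nonempty Y₁ := inferInstance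
  obtain ⟨y', hy'⟩ := g.surjective (i₂ y₁)
  obtain ⟨z, -, -⟩ := Scheme.Pullback.exists_preimage_pullback (f := i₂) (g := g) y₁ y' hy'.symm
  let T := pullback i₂ g
  let ℓ : Spec (T.residueField z) ⟶ T := T.fromSpecResidueField z
  let a : Spec (T.residueField z) ⟶ Y₁ := ℓ ≫ pullback.fst i₂ g
  let b : Spec (T.residueField z) ⟶ Y' := ℓ ≫ pullback.snd i₂ g
  have hab : a ≫ i₂ = b ≫ g := by
    simp only [a, b, Category.assoc, pullback.condition]
  have hsa : Surjective a := ⟨fun y => ⟨Nonempty.some inferInstance, Subsingleton.elim _ _⟩⟩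
  let c : pullback f' a ⟶ pullback f g :=
    pullback.lift (pullback.fst f' a ≫ i₁) (pullback.snd f' a ≫ b) (by
      rw [Category.assoc, ← H.w, ← Category.assoc, pullback.condition, Category.assoc, hab,
        ← Category.assoc])
  have s1 : IsPullback (pullback.snd f' a) (pullback.fst f' a) a f' :=
    (IsPullback.of_hasPullback f' a).flip
  have s2 : IsPullback (pullback.snd f' a) (pullback.fst f' a ≫ i₁) (a ≫ i₂) f := s1.paste_vert H
  have s3 : IsPullback (pullback.snd f' a) (c ≫ pullback.fst f g) (b ≫ g) f := by
    rw [← hab]
    simpa only [c, pullback.lift_fst] using s2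
  have s4 : IsPullback (pullback.snd f' a) c b (pullback.snd f g) :=
    IsPullback.of_bot s3 (by simp only [c, pullback.lift_snd]) (IsPullback.of_hasPullback f g).flip
  have key := hf _ _ _ s4 inferInstance inferInstance
  have hs : Surjective (pullback.fst f' a) := MorphismProperty.pullback_fst _ _ hsa
  exact hP _ hs key

theorem irreducibleSpace_of_surjective' {A B : Scheme.{u}} (s : A ⟶ B) (hs : Surjective s)
    (hA : IrreducibleSpace A) : IrreducibleSpace B := by
  rw [irreducibleSpace_def] at hA ⊢
  have := hA.image s s.continuous.continuousOn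
  rwa [Set.top_eq_univ, Set.image_univ, Set.range_eq_univ.mpr s.surjective] at this

/-- Descent of `geometrically P` along a surjective base change, for properties descending
along flat surjections. -/
theorem geometrically_of_pullback_snd_of_flat
    (hP : ∀ {A B : Scheme.{u}} (s : A ⟶ B), Flat s → Surjective s → P A → P B)
    {X Y Y' : Scheme.{u}} (f : X ⟶ Y) (g : Y' ⟶ Y) [Surjective g]
    (hf : geometrically P (pullback.snd f g)) : geometrically P f := by
  rw [geometrically_eq_universally] at hf ⊢
  intro X₁ Y₁ i₁ i₂ f' H hint hsub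
  obtain ⟨y₁⟩ : Nonempty Y₁ := inferInstance
  obtain ⟨y', hy'⟩ := g.surjective (i₂ y₁)
  obtain ⟨z, -, -⟩ := Scheme.Pullback.exists_preimage_pullback (f := i₂) (g := g) y₁ y' hy'.symm
  let T := pullback i₂ g
  let ℓ : Spec (T.residueField z) ⟶ T := T.fromSpecResidueField z
  let a : Spec (T.residueField z) ⟶ Y₁ := ℓ ≫ pullback.fst i₂ g
  let b : Spec (T.residueField z) ⟶ Y' := ℓ ≫ pullback.snd i₂ g
  have hab : a ≫ i₂ = b ≫ g := by
    simp only [a, b, Category.assoc, pullback.condition]
  have hsa : Surjective a := ⟨fun y => ⟨Nonempty.some inferInstance, Subsingleton.elim _ _⟩⟩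
  have hfa : Flat a := inferInstance
  let c : pullback f' a ⟶ pullback f g :=
    pullback.lift (pullback.fst f' a ≫ i₁) (pullback.snd f' a ≫ b) (by
      rw [Category.assoc, ← H.w, ← Category.assoc, pullback.condition, Category.assoc, hab,
        ← Category.assoc])
  have s1 : IsPullback (pullback.snd f' a) (pullback.fst f' a) a f' :=
    (IsPullback.of_hasPullback f' a).flip
  have s2 : IsPullback (pullback.snd f' a) (pullback.fst f' a ≫ i₁) (a ≫ i₂) f := s1.paste_vert H
  have s3 : IsPullback (pullback.snd f' a) (c ≫ pullback.fst f g) (b ≫ g) f := by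
    rw [← hab]
    simpa only [c, pullback.lift_fst] using s2
  have s4 : IsPullback (pullback.snd f' a) c b (pullback.snd f g) :=
    IsPullback.of_bot s3 (by simp only [c, pullback.lift_snd]) (IsPullback.of_hasPullback f g).flip
  have key := hf _ _ _ s4 inferInstance inferInstance
  have hs : Surjective (pullback.fst f' a) := MorphismProperty.pullback_fst _ _ hsa
  have hfl : Flat (pullback.fst f' a) := inferInstance
  exact hP _ hfl hs key

/-- Reducedness descends along flat surjective morphisms. -/
theorem isReduced_of_flat_of_surjective {A B : Scheme.{u}} (s : A ⟶ B) (hfl : Flat s)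
    (hs : Surjective s) (hA : IsReduced A) : IsReduced B := by
  have : ∀ b : B, _root_.IsReduced (B.presheaf.stalk b) := by
    intro b
    obtain ⟨a, rfl⟩ := s.surjective b
    have hinj : Function.Injective (s.stalkMap a).hom := by
      algebraize [(s.stalkMap a).hom]
      have : Module.FaithfullyFlat (B.presheaf.stalk (s a)) (A.presheaf.stalk a) :=
        @Module.FaithfullyFlat.of_flat_of_isLocalHom _ _ _ _ _ _ _
          (Flat.stalkMap s a) (s.toLRSHom.prop a)
      exact ‹RingHom.FaithfullyFlat _›.injective
    exact isReduced_of_injective (s.stalkMap a).hom hinj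
  exact isReduced_of_isReduced_stalk B

/-- Integrality descends along flat surjective morphisms. -/
theorem isIntegral_of_flat_of_surjective {A B : Scheme.{u}} (s : A ⟶ B) (hfl : Flat s)
    (hs : Surjective s) (hA : IsIntegral A) : IsIntegral B := by
  have h1 : IsReduced B := isReduced_of_flat_of_surjective s hfl hs inferInstance
  have h2 : IrreducibleSpace B := irreducibleSpace_of_surjective' s hs inferInstance
  exact isIntegral_of_irreducibleSpace_of_isReduced B

theorem irreducibleSpace_of_surjective {A B : Scheme.{u}} (s : A ⟶ B) (hs : Surjective s)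
    (hA : IrreducibleSpace A) : IrreducibleSpace B := by
  rw [irreducibleSpace_def] at hA ⊢
  have := hA.image s s.continuous.continuousOn
  rwa [Set.top_eq_univ, Set.image_univ, Set.range_eq_univ.mpr s.surjective] at this

theorem connectedSpace_of_surjective {A B : Scheme.{u}} (s : A ⟶ B) (hs : Surjective s)
    (hA : ConnectedSpace A) : ConnectedSpace B :=
  s.surjective.connectedSpace s.continuous

theorem isEmpty_or_connectedSpace_of_surjective {A B : Scheme.{u}} (s : A ⟶ B) (hs : Surjective s)
    (hA : IsEmpty A ∨ ConnectedSpace A) : IsEmpty B ∨ ConnectedSpace B := by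
  rcases hA with hA | hA
  · left
    exact ⟨fun b => by obtain ⟨a, -⟩ := s.surjective b; exact hA.false a⟩
  · right
    exact s.surjective.connectedSpace s.continuous

end Groth.Agent.H23
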