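import Mathlib
import Groth.Prelude.Def_EGA4b
import Groth.Agent.H23.NormalCpl5
import Groth.Agent.H26.ComplFlatMap
import Groth.Agent.S4696
import Groth.Agent.S19858
import Groth.Agent.H57.FormalNormalA

/-!
# EGA IV 7.5.2-type statement, normal case

A flat local homomorphism `A → B` of Noetherian local rings with finite residue field extension,
`A` with geometrically normal formal fibres and `k ⊗_A B̂` geometrically normal, is a normal
homomorphism.
-/

set_option autoImplicit false
set_option linter.style.haveILetI false
set_option linter.unusedSectionVars false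
set_option linter.unusedVariables false
universe u

open IsLocalRing TensorProduct

namespace Groth.Agent.H23.NormalCpl

section Compl

variable (A B : Type u) [CommRing A] [CommRing B] [IsNoetherianRing A] [IsNoetherianRing B]
  [IsLocalRing A] [IsLocalRing B] [Algebra A B] [IsLocalHom (algebraMap A B)]

local notation "Â" => AdicCompletion (maximalIdeal A) A
local notation "B̂" => AdicCompletion (maximalIdeal B) B

/-- every element of the completion is congruent to an element of `A` modulo the maximal ideal -/
theorem exists_sub_mem_maximalIdeal (s : Â) :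
    ∃ r : A, s - algebraMap A Â r ∈ maximalIdeal Â := by
  obtain ⟨x, hx⟩ := (AdicCompletion.residueField_map_bijective A).2 (residue Â s)
  obtain ⟨r, rfl⟩ := residue_surjective x
  refine ⟨r, ?_⟩
  rw [IsLocalRing.ResidueField.map_residue] at hx
  rw [← residue_eq_zero_iff, map_sub, hx, sub_self]

/-- The residue field extension of the completions is finite. -/
theorem finite_residueField_compl [Module.Finite (ResidueField A) (ResidueField B)] :
    letI := Groth.Agent.H26.ComplFlatMap.complAlgebra A B
    haveI : IsLocalHom (algebraMap Â B̂) := Groth.Agent.H26.ComplFlatMap.isLocalHom_complHom A B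
    Module.Finite (ResidueField Â) (ResidueField B̂) := by
  letI := Groth.Agent.H26.ComplFlatMap.complAlgebra A B
  haveI : IsLocalHom (algebraMap Â B̂) := Groth.Agent.H26.ComplFlatMap.isLocalHom_complHom A B
  haveI : IsScalarTower A Â B̂ := Groth.Agent.H26.ComplFlatMap.isScalarTower A B
  haveI hlocAC : IsLocalHom (algebraMap A B̂) := by
    rw [IsScalarTower.algebraMap_eq A B B̂]
    exact RingHom.isLocalHom_comp _ _
  have hsurj : Function.Surjective (algebraMap (ResidueField B) (ResidueField B̂)) := by
    intro y
    obtain ⟨x, hx⟩ := (AdicCompletion.residueField_map_bijective B).2 y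
    obtain ⟨b, rfl⟩ := residue_surjective x
    refine ⟨residue B b, ?_⟩
    rw [IsLocalRing.ResidueField.algebraMap_residue, ← hx, IsLocalRing.ResidueField.map_residue]
  haveI : Module.Finite (ResidueField B) (ResidueField B̂) :=
    Module.Finite.of_surjective (Algebra.linearMap (ResidueField B) (ResidueField B̂)) hsurj
  haveI : Module.Finite (ResidueField A) (ResidueField B̂) :=
    Module.Finite.trans (ResidueField B) (ResidueField B̂)
  exact Module.Finite.of_restrictScalars_finite (ResidueField A) (ResidueField Â) (ResidueField B̂)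

section Fibre

variable (C : Type u) [CommRing C] [Algebra A C] [Algebra (AdicCompletion (maximalIdeal A) A) C]
  [IsScalarTower A (AdicCompletion (maximalIdeal A) A) C]

/-- Scalars from the completion can be moved across `k' ⊗_A C` when `k'` is killed by the
maximal ideal. -/
theorem compatibleSMul_of_field (k' : Type u) [Field k'] [Algebra Â k'] [Algebra A k']
    [IsScalarTower A Â k'] (hk : ∀ t ∈ maximalIdeal Â, algebraMap Â k' t = 0) :
    TensorProduct.CompatibleSMul A Â k' C := by
  constructor
  intro s m n
  have key : ∀ t ∈ (maximalIdeal A).map (algebraMap A Â), ∀ n : C, m ⊗ₜ[A] (t • n) = 0 := by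
    intro t ht
    refine Submodule.span_induction (p := fun t _ => ∀ n : C, m ⊗ₜ[A] (t • n) = 0)
      ?_ ?_ ?_ ?_ ht
    · rintro _ ⟨a, ha, rfl⟩ n
      rw [algebraMap_smul, ← TensorProduct.smul_tmul, Algebra.smul_def,
        IsScalarTower.algebraMap_apply A Â k', hk, zero_mul, TensorProduct.zero_tmul]
      rw [AdicCompletion.maximalIdeal_eq_map (R := A)]
      exact Ideal.mem_map_of_mem _ ha
    · intro n
      rw [zero_smul, TensorProduct.tmul_zero]
    · intro x y _ _ hx hy n
      rw [add_smul, TensorProduct.tmul_add, hx, hy, add_zero]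
    · intro c x _ hx n
      rw [smul_eq_mul, mul_comm, mul_smul]
      exact hx (c • n)
  obtain ⟨r, hr⟩ := exists_sub_mem_maximalIdeal A s
  have hs : s = algebraMap A Â r + (s - algebraMap A Â r) := by ring
  have h1 : (s - algebraMap A Â r) • m = 0 := by
    rw [Algebra.smul_def, hk _ hr, zero_mul]
  have h2 : m ⊗ₜ[A] ((s - algebraMap A Â r) • n) = 0 := by
    apply key
    rw [← AdicCompletion.maximalIdeal_eq_map (R := A)]
    exact hr
  rw [hs, add_smul, add_smul, TensorProduct.add_tmul, TensorProduct.tmul_add, h1, h2,
    TensorProduct.zero_tmul, add_zero, add_zero, algebraMap_smul, algebraMap_smul,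
    TensorProduct.smul_tmul]

set_option backward.isDefEq.respectTransparency false in
/-- The closed fibre over the completion is geometrically normal if the closed fibre over `A`
is. -/
theorem isGeomNormal_closedFibre_compl
    (h : EGA4.IsGeomNormal (maximalIdeal A).ResidueField ((maximalIdeal A).Fiber C)) :
    EGA4.IsGeomNormal (maximalIdeal Â).ResidueField ((maximalIdeal Â).Fiber C) := by
  intro k' _ _ hfin
  letI algÂ : Algebra Â k' :=
    ((algebraMap (maximalIdeal Â).ResidueField k').comp
      (algebraMap Â (maximalIdeal Â).ResidueField)).toAlgebra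
  haveI : IsScalarTower Â (maximalIdeal Â).ResidueField k' :=
    IsScalarTower.of_algebraMap_eq (fun _ => rfl)
  letI algA : Algebra A k' := ((algebraMap Â k').comp (algebraMap A Â)).toAlgebra
  haveI : IsScalarTower A Â k' := IsScalarTower.of_algebraMap_eq (fun _ => rfl)
  have hk : ∀ t ∈ maximalIdeal Â, algebraMap Â k' t = 0 := by
    intro t ht
    rw [IsScalarTower.algebraMap_apply Â (maximalIdeal Â).ResidueField k',
      (Ideal.algebraMap_residueField_eq_zero).mpr ht, map_zero]
  have hkerA : RingHom.ker (algebraMap A k') = maximalIdeal A := by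
    apply le_antisymm
    · intro a ha
      by_contra hna
      have hu : IsUnit a := by
        by_contra hnu
        exact hna ((mem_maximalIdeal a).mpr hnu)
      exact (hu.map (algebraMap A k')).ne_zero ((RingHom.mem_ker).mp ha)
    · intro a ha
      rw [RingHom.mem_ker, IsScalarTower.algebraMap_apply A Â k']
      apply hk
      rw [AdicCompletion.maximalIdeal_eq_map (R := A)]
      exact Ideal.mem_map_of_mem _ ha
  obtain ⟨alg, tower⟩ :=
    Groth.Agent.H72.QFFormal.exists_residueField_algebra_of_ker (maximalIdeal A) k' hkerA
  -- finiteness over the residue field of `A`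
  have himg : ∀ c : (maximalIdeal Â).ResidueField, ∃ d : (maximalIdeal A).ResidueField,
      algebraMap (maximalIdeal A).ResidueField k' d =
        algebraMap (maximalIdeal Â).ResidueField k' c := by
    intro c
    obtain ⟨s, rfl⟩ := Ideal.algebraMap_residueField_surjective (maximalIdeal Â) c
    obtain ⟨r, hr⟩ := exists_sub_mem_maximalIdeal A s
    refine ⟨algebraMap A (maximalIdeal A).ResidueField r, ?_⟩
    rw [← IsScalarTower.algebraMap_apply A (maximalIdeal A).ResidueField k',
      ← IsScalarTower.algebraMap_apply Â (maximalIdeal Â).ResidueField k',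
      IsScalarTower.algebraMap_apply A Â k']
    have := hk _ hr
    rw [map_sub, sub_eq_zero] at this
    exact this.symm
  haveI hfinA : Module.Finite (maximalIdeal A).ResidueField k' := by
    obtain ⟨S, hS⟩ := (Module.Finite.fg_top : (⊤ : Submodule (maximalIdeal Â).ResidueField k').FG)
    refine ⟨⟨S, ?_⟩⟩
    rw [eq_top_iff]
    rintro x -
    have hx : x ∈ Submodule.span (maximalIdeal Â).ResidueField (S : Set k') := by
      rw [hS]; trivial
    induction hx using Submodule.span_induction with
    | mem x hx => exact Submodule.subset_span hx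
    | zero => exact Submodule.zero_mem _
    | add x y _ _ hx hy => exact Submodule.add_mem _ hx hy
    | smul c x _ hx =>
      obtain ⟨d, hd⟩ := himg c
      have : c • x = d • x := by
        rw [Algebra.smul_def, Algebra.smul_def, hd]
      rw [this]
      exact Submodule.smul_mem _ d hx
  have hn : EGA4.IsNormalRing (k' ⊗[(maximalIdeal A).ResidueField] ((maximalIdeal A).Fiber C)) :=
    h k' hfinA
  have hn1 : EGA4.IsNormalRing (k' ⊗[A] C) :=
    Groth.Agent.H26.FormalFibreQuot.isNormalRing_of_ringEquiv
      (Groth.Agent.H26.RegHomDescent.tensorFiberEquiv A C k' (maximalIdeal A)).symm hn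
  haveI : TensorProduct.CompatibleSMul A Â k' C := compatibleSMul_of_field A C k' hk
  have hn2 : EGA4.IsNormalRing (k' ⊗[Â] C) :=
    Groth.Agent.H26.FormalFibreQuot.isNormalRing_of_ringEquiv
      (Algebra.TensorProduct.equivOfCompatibleSMul A Â Â k' C).symm.toRingEquiv hn1
  exact Groth.Agent.H26.FormalFibreQuot.isNormalRing_of_ringEquiv
    (Groth.Agent.H26.RegHomDescent.tensorFiberEquiv Â C k' (maximalIdeal Â)) hn2

end Fibre

/-- **EGA IV 7.5.2-type statement, normal case.** -/
theorem isNormalHom_of_cpl_closed_fibre [Module.Flat A B]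
    [Module.Finite (ResidueField A) (ResidueField B)]
    (hA : EGA4.HasGeomNormalFormalFibres A)
    (h : EGA4.IsGeomNormal (maximalIdeal A).ResidueField ((maximalIdeal A).Fiber (EGA4.Cpl B))) :
    EGA4.IsNormalHom A B := by
  letI := Groth.Agent.H26.ComplFlatMap.complAlgebra A B
  haveI : IsLocalHom (algebraMap Â B̂) := Groth.Agent.H26.ComplFlatMap.isLocalHom_complHom A B
  haveI : IsScalarTower A Â B̂ := Groth.Agent.H26.ComplFlatMap.isScalarTower A B
  haveI : Module.Flat Â B̂ := Groth.Agent.H26.ComplFlatMap.flat_complHom A B
  haveI := finite_residueField_compl A B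
  haveI : IsNoetherianRing Â := Groth.Agent.H20.isNoetherianRing_adicCompletion _
  haveI : IsNoetherianRing B̂ := Groth.Agent.H20.isNoetherianRing_adicCompletion _
  have h' := isGeomNormal_closedFibre_compl A B̂ h
  have h1 : EGA4.IsNormalHom Â B̂ := isNormalHom_of_complete Â B̂ h'
  have h2 : EGA4.IsNormalHom A Â := Groth.Agent.H57.FormalNormal.isNormalHom_cpl A hA
  have h3 : EGA4.IsNormalHom A B̂ := Groth.Agent.S4696.result A Â B̂ h2 h1
  haveI : Module.FaithfullyFlat B B̂ := Module.FaithfullyFlat.of_flat_of_isLocalHom
  exact Groth.Agent.S19858.result A B B̂ h3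

end Compl

end Groth.Agent.H23.NormalCpl
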