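import Mathlib
import Groth.Agent.S4573
import Groth.Agent.H47.RegularDescent
import Groth.Agent.H23.GRJ2

/-!
# Openness of the locus of (adically) formally smooth points over a field with `[k : k^p] < ∞`

`Root k p` is `k^{1/p}`: a copy of `k`, seen as a `k`-algebra through the Frobenius.  A Noetherian
local `k`-algebra `R` is formally smooth over `k` iff `Root k p ⊗[k] R` is regular; for a
`k`-algebra `B` such that the regular locus of `Root k p ⊗[k] B` is open, the locus of primes
`n` of `B` with `B_n` formally smooth over `k` is open (the finite map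
`Spec (Root k p ⊗ B) → Spec B` is closed).
-/

set_option autoImplicit false
set_option linter.style.haveILetI false
set_option linter.unusedSectionVars false
set_option linter.unusedVariables false
universe u

namespace Groth.Agent.H23.OpenFS

open IsLocalRing TensorProduct

/-- `k^{1/p}` as a copy of `k`. -/
def Root (k : Type u) (p : ℕ) : Type u := k

instance (k : Type u) (p : ℕ) [Field k] : Field (Root k p) := inferInstanceAs (Field k)

/-- Frobenius `k → k^{1/p}`. -/
def frob (k : Type u) (p : ℕ) [Field k] [ExpChar k p] : k →+* Root k p := frobenius k p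

instance (k : Type u) (p : ℕ) [Field k] [ExpChar k p] : Algebra k (Root k p) :=
  (frob k p).toAlgebra

theorem algebraMap_root (k : Type u) (p : ℕ) [Field k] [ExpChar k p] (x : k) :
    algebraMap k (Root k p) x = (show Root k p from x) ^ p := rfl

theorem pow_mem_range (k : Type u) (p : ℕ) [Field k] [ExpChar k p] (y : Root k p) :
    y ^ p ∈ (algebraMap k (Root k p)).range := ⟨(show k from y), rfl⟩

theorem finite_root (k : Type u) (p : ℕ) [Field k] [ExpChar k p]
    (hk : p = 1 ∨ Module.Finite (frobenius k p).fieldRange k) : Module.Finite k (Root k p) := by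
  rcases hk with h1 | hfin
  · subst h1
    refine Module.Finite.of_surjective (Algebra.linearMap k (Root k 1)) ?_
    intro y
    refine ⟨(show k from y), ?_⟩
    rw [Algebra.linearMap_apply, algebraMap_root, pow_one]
  · haveI := hfin
    let e₁ : (frobenius k p).fieldRange ≃+* k :=
      (RingEquiv.ofBijective (frobenius k p).rangeRestrictField
        ⟨(frobenius k p).rangeRestrictField.injective,
          (frobenius k p).rangeRestrictField_bijective.2⟩).symm
    let e₂ : k ≃+* Root k p := RingEquiv.refl k
    refine Module.Finite.of_equiv_equiv e₁ e₂ ?_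
    ext x
    have h1 : (frobenius k p).rangeRestrictField (e₁ x) = x := e₁.symm_apply_apply x
    have h2 : frobenius k p (e₁ x) = (x : k) := congrArg Subtype.val h1
    exact h2

/-- every field `k''` over `k` with `k''^p ⊆ k` embeds into `k^{1/p}`. -/
theorem exists_algHom (k : Type u) (p : ℕ) [Field k] [ExpChar k p] (k'' : Type u) [Field k'']
    [Algebra k k''] (hpow : ∀ x : k'', x ^ p ∈ (algebraMap k k'').range) :
    Nonempty (k'' →ₐ[k] Root k p) := by
  haveI : ExpChar k'' p := expChar_of_injective_algebraMap (algebraMap k k'').injective p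
  let ι : k →+* k'' := algebraMap k k''
  let f : k'' →+* ι.range := (frobenius k'' p).codRestrict ι.range (fun x => hpow x)
  let e : k ≃+* ι.range := RingEquiv.ofBijective ι.rangeRestrict
    ⟨fun a b hab => ι.injective (congrArg Subtype.val hab), ι.rangeRestrict_surjective⟩
  let g : k'' →+* Root k p := (e.symm : ι.range →+* k).comp f
  refine ⟨{ g with commutes' := fun a => ?_ }⟩
  change e.symm (f (ι a)) = algebraMap k (Root k p) a
  have h1 : f (ι a) = e (a ^ p) := by
    apply Subtype.ext
    change (ι a) ^ p = ι (a ^ p)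
    rw [map_pow]
  rw [h1, e.symm_apply_apply]
  rfl

/-- regularity of `k' ⊗ R` descends to `k'' ⊗ R` for a subextension `k'' → k'`. -/
theorem isRegularRing_tensor_of_algHom (k : Type u) [Field k] (k'' k' : Type u) [Field k'']
    [Field k'] [Algebra k k''] [Algebra k k'] (φ : k'' →ₐ[k] k') (R : Type u) [CommRing R]
    [Algebra k R] [IsRegularRing (k' ⊗[k] R)] : IsRegularRing (k'' ⊗[k] R) := by
  letI : Algebra k'' k' := φ.toRingHom.toAlgebra
  haveI : IsScalarTower k k'' k' := IsScalarTower.of_algebraMap_eq (fun x => (φ.commutes x).symm)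
  let e1 : (k'' ⊗[k] R) ⊗[k''] k' ≃+* k' ⊗[k''] (k'' ⊗[k] R) :=
    (Algebra.TensorProduct.comm k'' (k'' ⊗[k] R) k').toRingEquiv
  let e2 : k' ⊗[k''] (k'' ⊗[k] R) ≃+* k' ⊗[k] R :=
    (Algebra.TensorProduct.cancelBaseChange k k'' k' k' R).toRingEquiv
  haveI : IsRegularRing ((k'' ⊗[k] R) ⊗[k''] k') := IsRegularRing.of_ringEquiv (e1.trans e2).symm
  haveI : Module.FaithfullyFlat k'' k' := inferInstance
  haveI : Module.FaithfullyFlat (k'' ⊗[k] R) ((k'' ⊗[k] R) ⊗[k''] k') := inferInstance
  exact Groth.Agent.H47.isRegularRing_of_faithfullyFlat (k'' ⊗[k] R) ((k'' ⊗[k] R) ⊗[k''] k')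

/-- a Noetherian local `k`-algebra is formally smooth over `k` iff `k^{1/p} ⊗ R` is regular
(when `k^{1/p}` is finite over `k`). -/
theorem adic_iff_root (k : Type u) (p : ℕ) [Field k] [ExpChar k p]
    (hfin : Module.Finite k (Root k p)) (R : Type u) [CommRing R] [IsLocalRing R]
    [IsNoetherianRing R] [Algebra k R] :
    CAlgX.IsAdicFormallySmooth k R (maximalIdeal R) ↔ IsRegularRing (Root k p ⊗[k] R) := by
  rw [Groth.Agent.S4573.result p]
  constructor
  · intro H
    exact H (Root k p) hfin (pow_mem_range k p)
  · intro H k'' _ _ hfin'' hpow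
    obtain ⟨φ⟩ := exists_algHom k p k'' hpow
    haveI := H
    exact isRegularRing_tensor_of_algHom k k'' (Root k p) φ R

/-- for a localization `S = M⁻¹C` and a prime `Q'` of `S`, `C_{Q' ∩ C} ≃ S_{Q'}`. -/
theorem nonempty_atPrime_comap_equiv (C : Type u) [CommRing C] (M : Submonoid C) (S : Type u)
    [CommRing S] [Algebra C S] [IsLocalization M S] (Q' : Ideal S) [Q'.IsPrime] :
    Nonempty (Localization.AtPrime (Q'.comap (algebraMap C S)) ≃+* Localization.AtPrime Q') := by
  haveI : IsLocalization.AtPrime (Localization.AtPrime Q') (Q'.comap (algebraMap C S)) :=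
    IsLocalization.isLocalization_isLocalization_atPrime_isLocalization M
      (Localization.AtPrime Q') Q'
  exact ⟨(IsLocalization.algEquiv (Q'.comap (algebraMap C S)).primeCompl
    (Localization.AtPrime (Q'.comap (algebraMap C S))) (Localization.AtPrime Q')).toRingEquiv⟩

/-- regularity of a localization in terms of the primes disjoint from the submonoid. -/
theorem isRegularRing_iff_of_isLocalization (C : Type u) [CommRing C] [IsNoetherianRing C]
    (M : Submonoid C) (S : Type u) [CommRing S] [Algebra C S] [IsLocalization M S] :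
    IsRegularRing S ↔ ∀ (Q : Ideal C) [Q.IsPrime], Disjoint (M : Set C) (Q : Set C) →
      IsRegularLocalRing (Localization.AtPrime Q) := by
  haveI : IsNoetherianRing S := IsLocalization.isNoetherianRing M S inferInstance
  constructor
  · intro hS Q hQ hd
    haveI : (Q.map (algebraMap C S)).IsPrime := IsLocalization.isPrime_of_isPrime_disjoint M S Q hQ hd
    have hcomap : (Q.map (algebraMap C S)).comap (algebraMap C S) = Q :=
      IsLocalization.under_map_of_isPrime_disjoint M S hQ hd
    obtain ⟨e⟩ := nonempty_atPrime_comap_equiv C M S (Q.map (algebraMap C S))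
    haveI : ((Q.map (algebraMap C S)).comap (algebraMap C S)).IsPrime := by rw [hcomap]; exact hQ
    haveI : IsRegularLocalRing
        (Localization.AtPrime ((Q.map (algebraMap C S)).comap (algebraMap C S))) :=
      IsRegularLocalRing.of_ringEquiv e.symm
    exact Groth.Agent.H23.GR.isRegularLocalRing_atPrime_of_eq Q _ hcomap.symm inferInstance
  · intro H
    refine (isRegularRing_iff).mpr (fun Q' _ => ?_)
    obtain ⟨hp, hd⟩ := (IsLocalization.isPrime_iff_isPrime_disjoint M S Q').mp inferInstance
    haveI := hp
    obtain ⟨e⟩ := nonempty_atPrime_comap_equiv C M S Q'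
    haveI : IsRegularLocalRing (Localization.AtPrime (Q'.comap (algebraMap C S))) := H _ hd
    exact IsRegularLocalRing.of_ringEquiv e

/-- `B_n ⊗ k'` is the localization of `B ⊗ k'` at the image of `B ∖ n`. -/
theorem isRegularRing_tensor_atPrime_iff (k : Type u) [Field k] (k' : Type u) [Field k']
    [Algebra k k'] (B : Type u) [CommRing B] [Algebra k B] [IsNoetherianRing (B ⊗[k] k')]
    (n : Ideal B) [n.IsPrime] :
    IsRegularRing (Localization.AtPrime n ⊗[k] k') ↔
      ∀ (Q : Ideal (B ⊗[k] k')) [Q.IsPrime], Q.comap (algebraMap B (B ⊗[k] k')) ≤ n →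
        IsRegularLocalRing (Localization.AtPrime Q) := by
  let Bn := Localization.AtPrime n
  let C := B ⊗[k] k'
  let g : C →ₐ[k] Bn ⊗[k] k' :=
    Algebra.TensorProduct.map (IsScalarTower.toAlgHom k B Bn) (AlgHom.id k k')
  letI : Algebra C (Bn ⊗[k] k') := g.toRingHom.toAlgebra
  haveI : IsScalarTower B C (Bn ⊗[k] k') := IsScalarTower.of_algebraMap_eq (fun b => by
    change _ = g (algebraMap B C b)
    rw [Algebra.TensorProduct.algebraMap_apply, Algebra.TensorProduct.algebraMap_apply]
    simp only [g, Algebra.algebraMap_self, RingHom.id_apply]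
    rw [Algebra.TensorProduct.map_tmul]
    simp)
  have H : (algebraMap C (Bn ⊗[k] k')).comp
      (Algebra.TensorProduct.includeRight : k' →ₐ[k] C).toRingHom =
      (Algebra.TensorProduct.includeRight : k' →ₐ[k] Bn ⊗[k] k').toRingHom := by
    ext s
    change g ((1 : B) ⊗ₜ[k] s) = (1 : Bn) ⊗ₜ[k] s
    simp only [g]
    rw [Algebra.TensorProduct.map_tmul]
    simp
  haveI hloc : IsLocalization (Algebra.algebraMapSubmonoid C n.primeCompl) (Bn ⊗[k] k') :=
    IsLocalization.tensorProduct_tensorProduct k k' n.primeCompl Bn H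
  rw [isRegularRing_iff_of_isLocalization C (Algebra.algebraMapSubmonoid C n.primeCompl)
    (Bn ⊗[k] k')]
  have hdisj : ∀ (Q : Ideal C), Disjoint ((Algebra.algebraMapSubmonoid C n.primeCompl : Submonoid C) : Set C)
      (Q : Set C) ↔ Q.comap (algebraMap B C) ≤ n := by
    intro Q
    rw [Set.disjoint_left]
    constructor
    · intro h x hx
      by_contra hxn
      exact h (Algebra.mem_algebraMapSubmonoid_of_mem (⟨x, hxn⟩ : n.primeCompl)) hx
    · rintro h _ ⟨x, hx, rfl⟩ hxQ
      exact hx (h hxQ)
  constructor
  · intro h Q _ hQ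
    exact h Q ((hdisj Q).mpr hQ)
  · intro h Q _ hQ
    exact h Q ((hdisj Q).mp hQ)

/-- openness of the formally smooth locus, given openness of the regular locus of `B ⊗ k^{1/p}`. -/
theorem isOpen_adic (k : Type u) (p : ℕ) [Field k] [ExpChar k p]
    (hfin : Module.Finite k (Root k p)) (B : Type u) [CommRing B] [IsNoetherianRing B]
    [Algebra k B] (hopen : IsOpen (EGA4.regLocus (B ⊗[k] Root k p))) :
    IsOpen {n : PrimeSpectrum B | CAlgX.IsAdicFormallySmooth k (Localization.AtPrime n.asIdeal)
      (maximalIdeal (Localization.AtPrime n.asIdeal))} := by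
  haveI := hfin
  let C := B ⊗[k] Root k p
  haveI : Module.Finite B C := Module.Finite.base_change k B (Root k p)
  haveI : IsNoetherianRing C := IsNoetherianRing.of_finite B C
  have hint : (algebraMap B C).IsIntegral := RingHom.IsIntegral.of_finite (RingHom.finite_algebraMap.mpr inferInstance)
  let Z : Set (PrimeSpectrum C) := (EGA4.regLocus C)ᶜ
  have hZ : IsClosed Z := hopen.isClosed_compl
  have hπZ : IsClosed (PrimeSpectrum.comap (algebraMap B C) '' Z) :=
    PrimeSpectrum.isClosedMap_comap_of_isIntegral _ hint _ hZ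
  have key : {n : PrimeSpectrum B | CAlgX.IsAdicFormallySmooth k (Localization.AtPrime n.asIdeal)
      (maximalIdeal (Localization.AtPrime n.asIdeal))} =
      (PrimeSpectrum.comap (algebraMap B C) '' Z)ᶜ := by
    ext n
    simp only [Set.mem_ofPred_eq, Set.mem_compl_iff]
    rw [adic_iff_root k p hfin]
    have hcomm : IsRegularRing (Root k p ⊗[k] Localization.AtPrime n.asIdeal) ↔
        IsRegularRing (Localization.AtPrime n.asIdeal ⊗[k] Root k p) :=
      ⟨fun h => IsRegularRing.of_ringEquiv
          (Algebra.TensorProduct.comm k (Root k p) (Localization.AtPrime n.asIdeal)).toRingEquiv,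
        fun h => IsRegularRing.of_ringEquiv
          (Algebra.TensorProduct.comm k (Localization.AtPrime n.asIdeal) (Root k p)).toRingEquiv⟩
    rw [hcomm, isRegularRing_tensor_atPrime_iff k (Root k p) B n.asIdeal]
    constructor
    · rintro h ⟨Q, hQZ, rfl⟩
      apply hQZ
      exact h Q.asIdeal le_rfl
    · intro h Q hQ hQn
      by_contra hreg
      apply h
      have hQZ : (⟨Q, hQ⟩ : PrimeSpectrum C) ∈ Z := hreg
      have hmem : PrimeSpectrum.comap (algebraMap B C) ⟨Q, hQ⟩ ∈
          PrimeSpectrum.comap (algebraMap B C) '' Z := ⟨_, hQZ, rfl⟩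
      have hspec : PrimeSpectrum.comap (algebraMap B C) ⟨Q, hQ⟩ ⤳ n :=
        (PrimeSpectrum.le_iff_specializes _ _).mp hQn
      exact hspec.mem_closed hπZ hmem
  rw [key]
  exact hπZ.isOpen_compl

end Groth.Agent.H23.OpenFS
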