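import Mathlib
import Groth.Agent.H23.SmoothQuot

/-!
# Formal smoothness of arbitrary localizations of a quotient of a formally smooth algebra
-/

set_option autoImplicit false

namespace Groth.Agent.H23.SmoothQuot

open Groth.Agent.H23.LeftInv

universe u

variable {A B C : Type u} [CommRing A] [CommRing B] [CommRing C] [Algebra A B] [Algebra B C]
  [Algebra A C] [IsScalarTower A B C]

/-- Version of `formallySmooth_atPrime_iff` for an arbitrary submonoid. -/
theorem formallySmooth_localization_iff [Algebra.FormallySmooth A B]
    (hsurj : Function.Surjective (algebraMap B C)) (M : Submonoid C) :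
    Algebra.FormallySmooth A (Localization M) ↔
      ∃ w : LocalizedModule M (ext (A := A) hsurj).CotangentSpace →ₗ[C]
          LocalizedModule M (ext (A := A) hsurj).Cotangent,
        w ∘ₗ lmap M (ext (A := A) hsurj).cotangentComplex = LinearMap.id := by
  set P := ext (A := A) hsurj
  have : Algebra.FormallySmooth A P.Ring := ‹_›
  rw [leftInv_lmap_iff_of_exact M P.cotangentComplex P.toKaehler
    P.exact_cotangentComplex_toKaehler P.toKaehler_surjective]
  rw [Algebra.formallySmooth_iff, and_comm]
  apply and_congr
  · have e2 : P.H1Cotangent ≃ₗ[C] Algebra.H1Cotangent A C := P.equivH1CotangentOfFormallySmooth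
    have e1 := IsLocalizedModule.iso M
      ((Algebra.H1Cotangent.map A A C (Localization M)) ∘ₗ e2.toLinearMap)
    exact e1.subsingleton_congr.symm
  · have e3 := (IsLocalizedModule.iso M
      (KaehlerDifferential.map A A C (Localization M))).extendScalarsOfIsLocalization
        M (Localization M)
    exact ⟨fun H => Module.Projective.of_equiv e3.symm, fun H => Module.Projective.of_equiv e3⟩

end Groth.Agent.H23.SmoothQuot

namespace Groth.Agent.H23.SmoothQuot

open TensorProduct KaehlerDifferential

universe u

variable {A B C : Type u} [CommRing A] [CommRing B] [CommRing C] [Algebra A B] [Algebra B C]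
  [Algebra A C] [IsScalarTower A B C]

/-- The fibre of the cotangent complex of the extension `B → C` (tensor over `C`) is injective
iff the fibre of `kerCotangentToTensor` (tensor over `B`) is. -/
theorem injective_lTensor_iff (hsurj : Function.Surjective (algebraMap B C)) (κ : Type u)
    [AddCommGroup κ] [Module C κ] [Module B κ] [IsScalarTower B C κ] :
    Function.Injective ((ext (A := A) hsurj).cotangentComplex.lTensor κ) ↔
      Function.Injective ((kerCotangentToTensor A B C).lTensor κ) := by
  set P := ext (A := A) hsurj with hP
  have hcomp : TensorProduct.CompatibleSMul B C κ P.Cotangent :=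
    TensorProduct.CompatibleSMul.of_algebraMap_surjective _ _ hsurj
  have hcomp' : TensorProduct.CompatibleSMul B C κ P.CotangentSpace :=
    TensorProduct.CompatibleSMul.of_algebraMap_surjective _ _ hsurj
  let eM := TensorProduct.equivOfCompatibleSMul B C B κ P.Cotangent
  let eN := TensorProduct.equivOfCompatibleSMul B C B κ P.CotangentSpace
  let eK := LinearEquiv.lTensor κ P.cotangentEquivCotangentKer
  have key : ∀ z, eN ((P.cotangentComplex.lTensor κ) z) =
      ((kerCotangentToTensor A B C).lTensor κ) (eK (eM z)) := by
    intro z
    induction z using TensorProduct.induction_on with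
    | zero => simp
    | tmul c y =>
      obtain ⟨x, rfl⟩ := Algebra.Extension.Cotangent.mk_surjective y
      rw [LinearMap.lTensor_tmul, Algebra.Extension.cotangentComplex_mk]
      change c ⊗ₜ[B] ((1 : C) ⊗ₜ[B] KaehlerDifferential.D A B x.1) =
        ((kerCotangentToTensor A B C).lTensor κ)
          (c ⊗ₜ[B] (RingHom.ker (algebraMap B C)).toCotangent x)
      rw [LinearMap.lTensor_tmul, kerCotangentToTensor_toCotangent]
    | add a b ha hb => simp only [map_add, ha, hb]
  constructor
  · intro hinj
    rw [injective_iff_map_eq_zero]
    intro z hz
    obtain ⟨z', rfl⟩ := (eM.trans eK).surjective z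
    have h3 := key z'
    rw [LinearEquiv.trans_apply] at hz
    rw [hz] at h3
    have h4 : (P.cotangentComplex.lTensor κ) z' = 0 :=
      eN.injective (h3.trans (map_zero eN).symm)
    have h5 : z' = 0 := hinj (h4.trans (map_zero _).symm)
    rw [h5, map_zero]
  · intro hinj
    rw [injective_iff_map_eq_zero]
    intro z hz
    have h3 := key z
    rw [hz, map_zero] at h3
    have h4 : eK (eM z) = 0 := hinj (h3.symm.trans (map_zero _).symm)
    have h5 : eM z = 0 := eK.injective (h4.trans (map_zero eK).symm)
    exact eM.injective (h5.trans (map_zero eM).symm)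

end Groth.Agent.H23.SmoothQuot
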