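import Mathlib
import Groth.Prelude.Def_EGA41
import Groth.Agent.H61.PSDim
import Groth.Agent.H61.PSComplete
import Groth.Agent.H46.PowerSeriesSmooth
import Groth.Agent.H13.AdicTower
import Groth.Agent.H23.FlatLiftUnique
import Groth.Agent.H23.ImperfCore

/-!
# Power series rings with a twisted structure of algebra over a subfield (EGA 0_IV 22.2.6, existence)

Given fields `k₀ → k → K` with `k` formally smooth over `k₀`, and a `k₀`-derivation
`d' : k → Kⁿ`, there is a `k₀`-algebra map `g : k → K[[T₁..Tₙ]]` with
`g x ≡ x + ∑ (d' x)ⱼ Tⱼ` modulo `𝔪²` (`exists_twist`).  The type synonym `Tw g` is the power series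
ring with the `k`-algebra structure given by `g`.  If `d'` comes from a linear map
`δ : K ⊗ Ω_{k/ℤ} → Kⁿ` injective on the imperfection module `Υ_{K/k}`, then `Tw g` is formally
smooth over `k` for its adic topology (`exists_of_finite`).
-/

set_option autoImplicit false
set_option linter.style.haveILetI false
set_option linter.unusedSectionVars false
universe u

namespace Groth.Agent.H23.TwistPS

open IsLocalRing MvPowerSeries

section LinAlg

variable {K V : Type*} [Field K] [AddCommGroup V] [Module K V]

/-- A finite-dimensional subspace of rank `≤ n` admits a linear map to `Kⁿ` defined on the whole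
space and injective on the subspace. -/
theorem exists_linearMap_injOn (U : Submodule K V) [Module.Finite K U] (n : ℕ)
    (hn : Module.finrank K U ≤ n) :
    ∃ δ : V →ₗ[K] (Fin n → K), ∀ u ∈ U, δ u = 0 → u = 0 := by
  have h1 : Module.finrank K U ≤ Module.finrank K (Fin n → K) := by
    rw [Module.finrank_fin_fun]
    exact hn
  obtain ⟨j, hj⟩ := (finrank_le_iff_exists_linearMap (R := K)).mp h1
  obtain ⟨δ, hδ⟩ := LinearMap.exists_extend j
  refine ⟨δ, fun u hu h0 => ?_⟩
  have h2 : j ⟨u, hu⟩ = 0 := by
    rw [← hδ]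
    exact h0
  have h3 : (⟨u, hu⟩ : U) = 0 := hj (by rw [h2, map_zero])
  exact congrArg Subtype.val h3

end LinAlg

section FirstOrder

variable {k₀ k K : Type u} [CommRing k₀] [Field k] [Field K] [Algebra k₀ k] [Algebra k K]
  [Algebra k₀ K] [IsScalarTower k₀ k K] {n : ℕ}

local notation "P" => MvPowerSeries (Fin n) K

/-- the linear part -/
noncomputable def lin (d' : Derivation k₀ k (Fin n → K)) (x : k) : P :=
  ∑ j, C (d' x j) * X j

/-- the first order twisted map (a ring homomorphism only modulo `𝔪²`). -/
noncomputable def psi0 (d' : Derivation k₀ k (Fin n → K)) (x : k) : P :=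
  C (algebraMap k K x) + lin d' x

theorem X_mem (j : Fin n) : (X j : P) ∈ maximalIdeal P := by
  rw [Groth.Agent.H61.maximalIdeal_ps_eq_span_X]
  exact Ideal.subset_span ⟨j, rfl⟩

theorem lin_mem (d' : Derivation k₀ k (Fin n → K)) (x : k) : lin d' x ∈ maximalIdeal P := by
  unfold lin
  exact Ideal.sum_mem _ fun j _ => Ideal.mul_mem_left _ _ (X_mem j)

theorem lin_add (d' : Derivation k₀ k (Fin n → K)) (x y : k) :
    lin d' (x + y) = lin d' x + lin d' y := by
  unfold lin
  rw [← Finset.sum_add_distrib]
  refine Finset.sum_congr rfl fun j _ => ?_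
  rw [map_add, Pi.add_apply, map_add, add_mul]

theorem lin_mul (d' : Derivation k₀ k (Fin n → K)) (x y : k) :
    lin d' (x * y) = C (algebraMap k K x) * lin d' y + C (algebraMap k K y) * lin d' x := by
  unfold lin
  rw [Finset.mul_sum, Finset.mul_sum, ← Finset.sum_add_distrib]
  refine Finset.sum_congr rfl fun j _ => ?_
  rw [Derivation.leibniz, Pi.add_apply, Pi.smul_apply, Pi.smul_apply, Algebra.smul_def,
    Algebra.smul_def, map_add, map_mul, map_mul]
  ring

theorem lin_algebraMap (d' : Derivation k₀ k (Fin n → K)) (t : k₀) :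
    lin d' (algebraMap k₀ k t) = 0 := by
  unfold lin
  refine Finset.sum_eq_zero fun j _ => ?_
  rw [Derivation.map_algebraMap, Pi.zero_apply, map_zero, zero_mul]

theorem psi0_mul_sub (d' : Derivation k₀ k (Fin n → K)) (x y : k) :
    psi0 d' x * psi0 d' y - psi0 d' (x * y) ∈ maximalIdeal P ^ 2 := by
  have h : psi0 d' x * psi0 d' y - psi0 d' (x * y) = lin d' x * lin d' y := by
    unfold psi0
    rw [lin_mul, map_mul, map_mul]
    ring
  rw [h, pow_two]
  exact Ideal.mul_mem_mul (lin_mem d' x) (lin_mem d' y)

/-- the first-order map as an algebra homomorphism into `P ⧸ 𝔪²`. -/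
noncomputable def phi1 (d' : Derivation k₀ k (Fin n → K)) : k →ₐ[k₀] P ⧸ maximalIdeal P ^ 2 where
  toFun x := Ideal.Quotient.mk _ (psi0 d' x)
  map_one' := by
    have : psi0 d' 1 = 1 := by
      have h1 : lin d' (1 : k) = 0 := by
        have := lin_algebraMap d' (1 : k₀)
        rwa [map_one] at this
      unfold psi0
      rw [h1, map_one, map_one, add_zero]
    rw [this, map_one]
  map_mul' x y := by
    rw [← map_mul]
    exact (Ideal.Quotient.eq.mpr (psi0_mul_sub d' x y)).symm
  map_zero' := by
    have : psi0 d' 0 = 0 := by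
      have h1 : lin d' (0 : k) = 0 := by
        have := lin_algebraMap d' (0 : k₀)
        rwa [map_zero] at this
      unfold psi0
      rw [h1, map_zero, map_zero, add_zero]
    rw [this, map_zero]
  map_add' x y := by
    rw [← map_add]
    congr 1
    unfold psi0
    rw [lin_add, map_add, map_add]
    ring
  commutes' t := by
    have : psi0 d' (algebraMap k₀ k t) = algebraMap k₀ P t := by
      unfold psi0
      rw [lin_algebraMap, add_zero, ← IsScalarTower.algebraMap_apply, MvPowerSeries.algebraMap_apply]
    rw [this]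
    rfl

theorem constantCoeff_of_sub_mem (d' : Derivation k₀ k (Fin n → K)) (f : P) (x : k)
    (h : f - psi0 d' x ∈ maximalIdeal P ^ 2) : constantCoeff f = algebraMap k K x := by
  have h1 : f - psi0 d' x ∈ maximalIdeal P := Ideal.pow_le_self two_ne_zero h
  have h2 : constantCoeff (f - psi0 d' x) = 0 := by
    by_contra hne
    rw [mem_maximalIdeal, mem_nonunits_iff, MvPowerSeries.isUnit_iff_constantCoeff] at h1
    exact h1 (IsUnit.mk0 _ hne)
  have h3 : constantCoeff (lin d' x) = 0 := by
    unfold lin
    rw [map_sum]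
    refine Finset.sum_eq_zero fun j _ => ?_
    rw [map_mul, constantCoeff_X, mul_zero]
  have h4 : constantCoeff (psi0 d' x) = algebraMap k K x := by
    unfold psi0
    rw [map_add, constantCoeff_C, h3, add_zero]
  rw [map_sub, h4, sub_eq_zero] at h2
  exact h2

theorem coeff_single_of_sub_mem (d' : Derivation k₀ k (Fin n → K)) (f : P) (x : k)
    (h : f - psi0 d' x ∈ maximalIdeal P ^ 2) (j : Fin n) :
    coeff (Finsupp.single j 1) f = d' x j := by
  classical
  have h1 := Groth.Agent.H61.maximalIdeal_pow_le_coeffIdeal (Λ := K) n 2 h (Finsupp.single j 1)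
  have hdeg : (Finsupp.single j 1 : Fin n →₀ ℕ).degree = 1 := by
    simp [Finsupp.degree]
  rw [hdeg, show 2 - 1 = 1 from rfl, pow_one, IsLocalRing.maximalIdeal_eq_bot, Ideal.mem_bot,
    map_sub, sub_eq_zero] at h1
  rw [h1]
  unfold psi0 lin
  rw [map_add, map_sum, coeff_C, if_neg (by
    intro h0
    have := congrArg (fun e => e j) h0
    simp at this), zero_add]
  rw [Finset.sum_eq_single j]
  · rw [coeff_C_mul, coeff_X, if_pos rfl, mul_one]
  · intro i _ hij
    rw [coeff_C_mul, coeff_X, if_neg, mul_zero]
    intro h0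
    have := congrArg (fun e => e j) h0
    simp [hij] at this
  · intro hj
    exact absurd (Finset.mem_univ j) hj

variable [Algebra.FormallySmooth k₀ k]

/-- the twisted coefficient map. -/
theorem exists_twist (d' : Derivation k₀ k (Fin n → K)) :
    ∃ g : k →ₐ[k₀] P, ∀ x, g x - psi0 d' x ∈ maximalIdeal P ^ 2 := by
  haveI : IsAdicComplete (maximalIdeal K) K := by
    rw [IsLocalRing.maximalIdeal_eq_bot]
    infer_instance
  haveI : IsAdicComplete (maximalIdeal P) P := Groth.Agent.H61.ps_isAdicComplete n
  haveI : IsRegularLocalRing P := Groth.Agent.H61.isRegularLocalRing_ps K n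
  haveI : IsNoetherianRing P := IsRegularLocalRing.toIsNoetherian
  haveI : IsAdicComplete (maximalIdeal P ^ 2) P :=
    Groth.Agent.H23.FlatLiftUnique.isAdicComplete_of_le (maximalIdeal P) (maximalIdeal P ^ 2)
      (Ideal.pow_le_self two_ne_zero)
  have key := Algebra.FormallySmooth.exists_mkₐ_comp_eq_of_isAdicComplete (R := k₀) (A := k) (S := P)
    (I := maximalIdeal P ^ 2) (phi1 d')
  obtain ⟨g, hg⟩ := key
  refine ⟨g, fun x => ?_⟩
  have h0 := AlgHom.congr_fun hg x
  have h1 : Ideal.Quotient.mk (maximalIdeal P ^ 2) (g x) =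
      Ideal.Quotient.mk (maximalIdeal P ^ 2) (psi0 d' x) := h0
  exact (Ideal.Quotient.mk_eq_mk_iff_sub_mem _ _).mp h1

end FirstOrder

section Synonym

variable {k₀ k K : Type u} [Field k₀] [Field k] [Field K] [Algebra k₀ k] [Algebra k K]
  [Algebra k₀ K] [IsScalarTower k₀ k K] {n : ℕ}

/-- the power series ring `K[[T₁..Tₙ]]` with the `k`-algebra structure given by `g`. -/
def Tw (_g : k →ₐ[k₀] MvPowerSeries (Fin n) K) : Type u := MvPowerSeries (Fin n) K

variable (g : k →ₐ[k₀] MvPowerSeries (Fin n) K)

noncomputable instance : CommRing (Tw g) := inferInstanceAs (CommRing (MvPowerSeries (Fin n) K))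

instance : IsLocalRing (Tw g) := inferInstanceAs (IsLocalRing (MvPowerSeries (Fin n) K))

noncomputable instance : Algebra k₀ (Tw g) :=
  inferInstanceAs (Algebra k₀ (MvPowerSeries (Fin n) K))

noncomputable instance : Algebra k (Tw g) := g.toRingHom.toAlgebra

instance : IsScalarTower k₀ k (Tw g) :=
  IsScalarTower.of_algebraMap_eq (fun t => (g.commutes t).symm)

noncomputable instance : Algebra (Tw g) K :=
  (constantCoeff : MvPowerSeries (Fin n) K →+* K).toAlgebra

instance : IsNoetherianRing (Tw g) :=
  haveI : IsRegularLocalRing (MvPowerSeries (Fin n) K) :=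
    Groth.Agent.H61.isRegularLocalRing_ps K n
  (IsRegularLocalRing.toIsNoetherian : IsNoetherianRing (MvPowerSeries (Fin n) K))

theorem algebraMap_k_apply (x : k) : algebraMap k (Tw g) x = g x := rfl

theorem algebraMap_K_apply (f : Tw g) :
    algebraMap (Tw g) K f = constantCoeff (f : MvPowerSeries (Fin n) K) := rfl

theorem algebraMap_K_surjective : Function.Surjective (algebraMap (Tw g) K) := fun a =>
  ⟨(C a : MvPowerSeries (Fin n) K), constantCoeff_C a⟩

theorem isAdicComplete : IsAdicComplete (maximalIdeal (Tw g)) (Tw g) := by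
  haveI : IsAdicComplete (maximalIdeal K) K := by
    rw [IsLocalRing.maximalIdeal_eq_bot]
    infer_instance
  exact Groth.Agent.H61.ps_isAdicComplete (Λ := K) n

theorem ringKrullDim_eq : ringKrullDim (Tw g) = n := Groth.Agent.H61.ringKrullDim_ps K n

theorem adic_base [Algebra.FormallySmooth k₀ K] :
    CAlgX.IsAdicFormallySmooth k₀ (Tw g) (maximalIdeal (Tw g)) := by
  have h := Groth.Agent.H46.isAdicFormallySmooth_mvPowerSeries k₀ K n
  rw [← Groth.Agent.H61.maximalIdeal_ps_eq_span_X] at h
  exact h

/-- the "linear coefficients" of a power series. -/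
noncomputable def linCoeff (f : MvPowerSeries (Fin n) K) : Fin n → K :=
  fun j => constantCoeff (pderiv K j f)

theorem linCoeff_add (f h : MvPowerSeries (Fin n) K) :
    linCoeff (f + h) = linCoeff f + linCoeff h := by
  funext j
  show constantCoeff (pderiv K j (f + h)) = _
  rw [map_add, map_add]
  rfl

theorem linCoeff_mul (f h : MvPowerSeries (Fin n) K) (j : Fin n) :
    linCoeff (f * h) j = constantCoeff f * linCoeff h j + constantCoeff h * linCoeff f j := by
  show constantCoeff (pderiv K j (f * h)) = _
  rw [Derivation.leibniz, map_add, smul_eq_mul, smul_eq_mul, map_mul, map_mul]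
  rfl

theorem linCoeff_apply (f : MvPowerSeries (Fin n) K) (j : Fin n) :
    linCoeff f j = coeff (Finsupp.single j 1) f := by
  show constantCoeff (pderiv K j f) = _
  rw [← coeff_zero_eq_constantCoeff_apply, coeff_pderiv, zero_add]
  simp

/-- the derivation "linear coefficients". -/
noncomputable def D0 : Derivation ℤ (Tw g) (Fin n → K) :=
  Derivation.mk'
    (AddMonoidHom.toIntLinearMap
      { toFun := fun f => linCoeff (n := n) (K := K) f
        map_zero' := by
          have h := linCoeff_add (n := n) (K := K) 0 0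
          rw [add_zero] at h
          exact left_eq_add.mp h
        map_add' := fun f h => linCoeff_add (n := n) (K := K) f h })
    (fun f h => by
      funext j
      exact linCoeff_mul (n := n) (K := K) f h j)

theorem D0_apply (f : Tw g) (j : Fin n) :
    D0 g f j = coeff (Finsupp.single j 1) (show MvPowerSeries (Fin n) K from f) :=
  linCoeff_apply (n := n) (K := K) f j

end Synonym

section Final

variable {k₀ k K : Type u} [Field k₀] [Field k] [Field K] [Algebra k₀ k] [Algebra k K]
  [Algebra k₀ K] [IsScalarTower k₀ k K] [Algebra.FormallySmooth k₀ k]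
  [Algebra.FormallySmooth k₀ K]

open TensorProduct KaehlerDifferential

/-- EGA 0_IV 22.2.6, existence: if `Υ_{K/k}` has finite rank `≤ n`, there is a complete Noetherian
local `k`-algebra of dimension `n`, formally smooth over `k`, with residue field `K`. -/
theorem exists_of_finite (h₀ : ∀ t : k₀, D ℤ k (algebraMap k₀ k t) = 0)
    [Module.Finite K (EGA41.imperfection ℤ k K)] (n : ℕ)
    (hn : Module.finrank K (EGA41.imperfection ℤ k K) ≤ n) :
    ∃ (A : Type u) (_ : CommRing A) (_ : IsLocalRing A) (_ : IsNoetherianRing A) (_ : Algebra k A),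
      IsAdicComplete (maximalIdeal A) A ∧ CAlgX.IsAdicFormallySmooth k A (maximalIdeal A) ∧
      Nonempty (ResidueField A ≃ₐ[k] K) ∧ ringKrullDim A = n := by
  obtain ⟨δ, hδ⟩ := exists_linearMap_injOn (EGA41.imperfection ℤ k K) n hn
  -- the derivation
  let dZ : Derivation ℤ k (Fin n → K) :=
    ((δ.restrictScalars k) ∘ₗ (TensorProduct.mk k K (Ω[k⁄ℤ]) 1)).compDer (D ℤ k)
  have hdZ : ∀ x, dZ x = δ ((1 : K) ⊗ₜ[k] D ℤ k x) := fun x => rfl
  let d' : Derivation k₀ k (Fin n → K) :=
    { toLinearMap :=
        { toFun := dZ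
          map_add' := map_add dZ
          map_smul' := fun t x => by
            rw [Algebra.smul_def, Derivation.leibniz, hdZ (algebraMap k₀ k t), h₀, tmul_zero,
              map_zero, smul_zero, add_zero, RingHom.id_apply, algebraMap_smul] }
      map_one_eq_zero' := dZ.map_one_eq_zero
      leibniz' := dZ.leibniz }
  have hd' : ∀ x, d' x = δ ((1 : K) ⊗ₜ[k] D ℤ k x) := fun x => rfl
  obtain ⟨g, hg⟩ := exists_twist d'
  haveI : IsScalarTower k (Tw g) K := IsScalarTower.of_algebraMap_eq (fun x =>
    (constantCoeff_of_sub_mem d' (g x) x (hg x)).symm)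
  have hπ := algebraMap_K_surjective g
  have hD : ∀ x : k, D0 g (algebraMap k (Tw g) x) = δ ((1 : K) ⊗ₜ[k] D ℤ k x) := by
    intro x
    funext j
    rw [D0_apply, ← hd']
    exact coeff_single_of_sub_mem d' (g x) x (hg x) j
  have hinjK := Groth.Agent.H23.ImperfCore.injective_lTensor_of_detect (D0 g) δ hD hδ
  have hinj := (Groth.Agent.H23.ImperfCore.injective_lTensor_iff hπ _).mpr hinjK
  have hfs := Groth.Agent.H13.AdicTower.adic_of_injective (R₀ := k₀) (adic_base g) hinj
  exact ⟨Tw g, inferInstance, inferInstance, inferInstance, inferInstance, isAdicComplete g, hfs,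
    ⟨Groth.Agent.H23.ImperfCore.resAlgEquiv hπ⟩, ringKrullDim_eq g⟩

end Final

end Groth.Agent.H23.TwistPS
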