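import Mathlib
import Groth.Agent.S4544

/-!
# Formal unramifiedness for adic topologies and vanishing of (completed) differentials
-/

namespace Groth.Agent.H23.Unramified

universe u

open TensorProduct

section completion

variable {R : Type*} [CommRing R] (I : Ideal R) (M : Type*) [AddCommGroup M] [Module R M]

lemma pow_smul_top_eq_top (h : I • (⊤ : Submodule R M) = ⊤) (n : ℕ) :
    I ^ n • (⊤ : Submodule R M) = ⊤ := by
  induction n with
  | zero => simp
  | succ n ih => rw [pow_succ, mul_smul, h, ih]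

lemma subsingleton_adicCompletion_iff :
    Subsingleton (AdicCompletion I M) ↔ I • (⊤ : Submodule R M) = ⊤ := by
  constructor
  · intro h
    have h1 : Subsingleton (M ⧸ (I ^ 1 • ⊤ : Submodule R M)) :=
      (AdicCompletion.eval_surjective I M 1).subsingleton
    rw [Submodule.Quotient.subsingleton_iff] at h1
    simpa using h1
  · intro h
    refine ⟨fun x y => AdicCompletion.ext fun n => ?_⟩
    have : Subsingleton (M ⧸ (I ^ n • ⊤ : Submodule R M)) := by
      rw [Submodule.Quotient.subsingleton_iff]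
      exact pow_smul_top_eq_top I M h n
    exact Subsingleton.elim _ _

end completion

section uniqueness

variable {A B E : Type*} [CommRing A] [CommRing B] [CommRing E] [Algebra A B] [Algebra A E]

/-- Square-zero case: if `Ω = 𝔟Ω` and `v₂` kills a power of `𝔟`, two maps agreeing modulo a
square-zero ideal agree. -/
lemma eq_of_sqZero (𝔟 : Ideal B) (hΩ : 𝔟 • (⊤ : Submodule B Ω[B⁄A]) = ⊤) (J : Ideal E)
    (hJ : J ^ 2 = ⊥) (v₁ v₂ : B →ₐ[A] E) (m : ℕ) (h₂ : ∀ x ∈ 𝔟 ^ m, v₂ x = 0)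
    (h : ∀ b, v₁ b - v₂ b ∈ J) : v₁ = v₂ := by
  let _ : Algebra B E := v₂.toRingHom.toAlgebra
  have : IsScalarTower A B E := IsScalarTower.of_algebraMap_eq fun a => (v₂.commutes a).symm
  have hmap : ∀ b, algebraMap B E b = v₂ b := fun _ => rfl
  have e : (Ideal.Quotient.mkₐ A J).comp v₁ = IsScalarTower.toAlgHom A B (E ⧸ J) := by
    ext b
    rw [AlgHom.comp_apply, IsScalarTower.coe_toAlgHom', IsScalarTower.algebraMap_apply B E (E ⧸ J),
      hmap, Ideal.Quotient.mkₐ_eq_mk, Ideal.Quotient.algebraMap_eq, Ideal.Quotient.eq]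
    exact h b
  let D := derivationToSquareZeroOfLift J hJ v₁ e
  have hφ : ∀ ω : Ω[B⁄A], D.liftKaehlerDifferential ω = 0 := by
    intro ω
    have hω : ω ∈ 𝔟 ^ m • (⊤ : Submodule B Ω[B⁄A]) := by
      rw [pow_smul_top_eq_top 𝔟 _ hΩ m]; trivial
    refine Submodule.smul_induction_on hω ?_ ?_
    · intro b hb x _
      rw [map_smul]
      ext
      rw [Submodule.coe_smul_of_tower, Algebra.smul_def, hmap, h₂ b hb, zero_mul]
      rfl
    · intro x y hx hy
      rw [map_add, hx, hy, add_zero]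
  ext b
  have h1 : (D b : E) = v₁ b - algebraMap B E b := derivationToSquareZeroOfLift_apply J hJ v₁ e b
  have h2 : D b = 0 := by
    rw [← Derivation.liftKaehlerDifferential_comp_D D b]
    exact hφ _
  rw [h2, hmap] at h1
  exact (sub_eq_zero.mp h1.symm)

/-- Nilpotent case. -/
lemma eq_of_nilpotent (𝔟 : Ideal B) (hΩ : 𝔟 • (⊤ : Submodule B Ω[B⁄A]) = ⊤) (J : Ideal E)
    (hJ : IsNilpotent J) (v₁ v₂ : B →ₐ[A] E) (m : ℕ) (h₂ : ∀ x ∈ 𝔟 ^ m, v₂ x = 0)
    (h : ∀ b, v₁ b - v₂ b ∈ J) : v₁ = v₂ := by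
  obtain ⟨n, hn⟩ := hJ
  have key : ∀ i : ℕ, ∀ b, v₁ b - v₂ b ∈ J ^ (i + 1) := by
    intro i
    induction i with
    | zero => simpa using h
    | succ i ih =>
      intro b
      let π := Ideal.Quotient.mkₐ A (J ^ (i + 1 + 1))
      have hsq : ((J ^ (i + 1)).map π) ^ 2 = ⊥ := by
        rw [← Ideal.map_pow, ← pow_mul, eq_bot_iff, Ideal.map_le_iff_le_comap]
        intro x hx
        rw [Ideal.mem_comap, Ideal.mem_bot]
        apply Ideal.Quotient.eq_zero_iff_mem.mpr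
        exact Ideal.pow_le_pow_right (by omega) hx
      have := eq_of_sqZero 𝔟 hΩ ((J ^ (i + 1)).map π) hsq (π.comp v₁) (π.comp v₂) m
        (fun x hx => by rw [AlgHom.comp_apply, h₂ x hx, map_zero])
        (fun b => by
          rw [AlgHom.comp_apply, AlgHom.comp_apply, ← map_sub]
          exact Ideal.mem_map_of_mem _ (ih b))
      have := congr($this b)
      rw [AlgHom.comp_apply, AlgHom.comp_apply] at this
      exact (Ideal.Quotient.eq).mp this
  ext b
  have := key n b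
  rw [pow_succ, hn, zero_mul] at this
  exact sub_eq_zero.mp this

end uniqueness

section converse

variable {A B : Type u} [CommRing A] [CommRing B] [Algebra A B]

section general

variable (𝔟 : Ideal B) {L : Type u} [AddCommGroup L] [Module (B ⧸ 𝔟) L]

attribute [local instance] Groth.Agent.S4544.opModule Groth.Agent.S4544.algE

/-- If lifts along square-zero extensions of discrete test algebras are unique then every
"derivation" of `B` into a `B ⧸ 𝔟`-module vanishes. -/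
lemma der_eq_zero_of_unique
    (H : ∀ (E : Type u) [CommRing E] [Algebra A E] (J : Ideal E), J ^ 2 = ⊥ →
      (∀ a : A, algebraMap A B a ∈ 𝔟 → algebraMap A E a = 0) →
      ∀ v₁ v₂ : B →ₐ[A] E, (∀ x ∈ 𝔟 ^ 2, v₁ x = 0) → (∀ x ∈ 𝔟 ^ 2, v₂ x = 0) →
        (∀ b, v₁ b - v₂ b ∈ J) → v₁ = v₂)
    (D : B → L) (hadd : ∀ x y, D (x + y) = D x + D y)
    (hmul : ∀ x y, D (x * y) = Ideal.Quotient.mk 𝔟 x • D y + Ideal.Quotient.mk 𝔟 y • D x)
    (halg : ∀ a : A, D (algebraMap A B a) = 0) (b : B) : D b = 0 := by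
  let v₁ : B →ₐ[A] TrivSqZeroExt (B ⧸ 𝔟) L :=
    Groth.Agent.S4544.homOfDer (A := A) 𝔟 (fun _ => (0 : L)) (by simp) (by simp) (by simp)
  let v₂ : B →ₐ[A] TrivSqZeroExt (B ⧸ 𝔟) L :=
    Groth.Agent.S4544.homOfDer (A := A) 𝔟 D hadd hmul halg
  let J : Ideal (TrivSqZeroExt (B ⧸ 𝔟) L) :=
    { carrier := {x | x.fst = 0}
      add_mem' := fun {x y} hx hy => by
        simp only [Set.mem_ofPred_eq] at hx hy ⊢
        rw [TrivSqZeroExt.fst_add, hx, hy, add_zero]
      zero_mem' := by simp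
      smul_mem' := fun c x hx => by
        simp only [Set.mem_ofPred_eq] at hx ⊢
        rw [smul_eq_mul, TrivSqZeroExt.fst_mul, hx, mul_zero] }
  have hJmem : ∀ x : TrivSqZeroExt (B ⧸ 𝔟) L, x ∈ J ↔ x.fst = 0 := fun x => Iff.rfl
  have hJ : J ^ 2 = ⊥ := by
    rw [eq_bot_iff, pow_two, Ideal.mul_le]
    intro x hx y hy
    rw [hJmem] at hx hy
    rw [Ideal.mem_bot]
    ext
    · simp [hx]
    · rw [TrivSqZeroExt.snd_mul, op_smul_eq_smul, hx, hy, zero_smul, zero_smul, add_zero]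
      rfl
  have hkill : ∀ (D : B → L) hadd hmul halg, ∀ x ∈ 𝔟 ^ 2,
      Groth.Agent.S4544.homOfDer (A := A) 𝔟 D hadd hmul halg x = 0 := by
    intro D hadd hmul halg x hx
    rw [pow_two] at hx
    refine Submodule.mul_induction_on hx ?_ ?_
    · intro a ha b hb
      have ha0 : Ideal.Quotient.mk 𝔟 a = 0 := Ideal.Quotient.eq_zero_iff_mem.mpr ha
      have hb0 : Ideal.Quotient.mk 𝔟 b = 0 := Ideal.Quotient.eq_zero_iff_mem.mpr hb
      rw [Groth.Agent.S4544.homOfDer_apply, hmul, map_mul, ha0, hb0]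
      ext
      · simp
      · simp
    · intro a b ha hb
      rw [map_add, ha, hb, add_zero]
  have hEq := H (TrivSqZeroExt (B ⧸ 𝔟) L) J hJ
    (by
      intro a ha
      rw [Groth.Agent.S4544.algebraMap_E, IsScalarTower.algebraMap_apply A B (B ⧸ 𝔟),
        Ideal.Quotient.algebraMap_eq, Ideal.Quotient.eq_zero_iff_mem.mpr ha,
        TrivSqZeroExt.inl_zero])
    v₁ v₂ (hkill _ _ _ _) (hkill _ _ _ _)
    (by
      intro b
      rw [hJmem]
      simp [v₁, v₂, Groth.Agent.S4544.homOfDer_apply])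
  have := congrArg TrivSqZeroExt.snd (congr($hEq b))
  simpa [v₁, v₂, Groth.Agent.S4544.homOfDer_apply] using this.symm

end general

/-- If lifts along square-zero extensions of discrete test algebras are unique then `Ω = 𝔟Ω`. -/
lemma smul_top_eq_top_of_unique (𝔟 : Ideal B)
    (H : ∀ (E : Type u) [CommRing E] [Algebra A E] (J : Ideal E), J ^ 2 = ⊥ →
      (∀ a : A, algebraMap A B a ∈ 𝔟 → algebraMap A E a = 0) →
      ∀ v₁ v₂ : B →ₐ[A] E, (∀ x ∈ 𝔟 ^ 2, v₁ x = 0) → (∀ x ∈ 𝔟 ^ 2, v₂ x = 0) →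
        (∀ b, v₁ b - v₂ b ∈ J) → v₁ = v₂) :
    𝔟 • (⊤ : Submodule B Ω[B⁄A]) = ⊤ := by
  have hsm : ∀ (x : B) (ω : Ω[B⁄A]), ((1 : B ⧸ 𝔟) ⊗ₜ[B] (x • ω) : (B ⧸ 𝔟) ⊗[B] Ω[B⁄A]) =
      Ideal.Quotient.mk 𝔟 x • ((1 : B ⧸ 𝔟) ⊗ₜ[B] ω) := by
    intro x ω
    rw [TensorProduct.tmul_smul, TensorProduct.smul_tmul', TensorProduct.smul_tmul', smul_eq_mul,
      mul_one, Algebra.smul_def, mul_one]
    rfl
  have hD : ∀ b : B, ((1 : B ⧸ 𝔟) ⊗ₜ[B] KaehlerDifferential.D A B b : (B ⧸ 𝔟) ⊗[B] Ω[B⁄A]) = 0 :=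
    der_eq_zero_of_unique 𝔟 H
      (fun b => ((1 : B ⧸ 𝔟) ⊗ₜ[B] KaehlerDifferential.D A B b : (B ⧸ 𝔟) ⊗[B] Ω[B⁄A]))
      (by intro x y; rw [map_add, TensorProduct.tmul_add])
      (by
        intro x y
        rw [Derivation.leibniz, TensorProduct.tmul_add, hsm, hsm])
      (by intro a; rw [Derivation.map_algebraMap, TensorProduct.tmul_zero])
  have hone : ∀ ω : Ω[B⁄A], ((1 : B ⧸ 𝔟) ⊗ₜ[B] ω : (B ⧸ 𝔟) ⊗[B] Ω[B⁄A]) = 0 := by
    intro ω
    have hω : ω ∈ Submodule.span B (Set.range (KaehlerDifferential.D A B)) := by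
      rw [KaehlerDifferential.span_range_derivation]; trivial
    induction hω using Submodule.span_induction with
    | mem z hz =>
      obtain ⟨b, rfl⟩ := hz
      exact hD b
    | zero => simp
    | add u v _ _ hu hv => rw [TensorProduct.tmul_add, hu, hv, add_zero]
    | smul c u _ hu => rw [hsm, hu, smul_zero]
  have hM : Subsingleton ((B ⧸ 𝔟) ⊗[B] Ω[B⁄A]) := by
    refine ⟨fun x y => ?_⟩
    have h0 : ∀ z : (B ⧸ 𝔟) ⊗[B] Ω[B⁄A], z = 0 := by
      intro z
      induction z using TensorProduct.induction_on with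
      | zero => rfl
      | tmul c ω =>
        have : (c ⊗ₜ[B] ω : (B ⧸ 𝔟) ⊗[B] Ω[B⁄A]) = c • ((1 : B ⧸ 𝔟) ⊗ₜ[B] ω) := by
          rw [TensorProduct.smul_tmul', smul_eq_mul, mul_one]
        rw [this, hone, smul_zero]
      | add u v hu hv => rw [hu, hv, add_zero]
    rw [h0 x, h0 y]
  have : Subsingleton (Ω[B⁄A] ⧸ (𝔟 • ⊤ : Submodule B Ω[B⁄A])) :=
    (TensorProduct.quotTensorEquivQuotSMul Ω[B⁄A] 𝔟).symm.injective.subsingleton
  exact Submodule.Quotient.subsingleton_iff.mp this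

end converse

section quotient

variable {A B : Type*} [CommRing A] [CommRing B] [Algebra A B] (𝔪 : Ideal A)

lemma smul_top_eq_top_of_quotient
    (h : Subsingleton (Ω[B ⧸ 𝔪.map (algebraMap A B)⁄A ⧸ 𝔪])) :
    (𝔪.map (algebraMap A B)) • (⊤ : Submodule B Ω[B⁄A]) = ⊤ := by
  have h1 : Algebra.FormallyUnramified (A ⧸ 𝔪) (B ⧸ 𝔪.map (algebraMap A B)) := ⟨h⟩
  have h2 : Algebra.FormallyUnramified A (A ⧸ 𝔪) :=
    Algebra.FormallyUnramified.of_surjective (Algebra.ofId A (A ⧸ 𝔪)) Ideal.Quotient.mk_surjective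
  have h3 : Algebra.FormallyUnramified A (B ⧸ 𝔪.map (algebraMap A B)) :=
    Algebra.FormallyUnramified.comp A (A ⧸ 𝔪) (B ⧸ 𝔪.map (algebraMap A B))
  have h4 : Subsingleton (Ω[B ⧸ 𝔪.map (algebraMap A B)⁄A]) := h3.1
  have hsurj : Function.Surjective (algebraMap B (B ⧸ 𝔪.map (algebraMap A B))) :=
    Ideal.Quotient.mk_surjective
  have hex := KaehlerDifferential.exact_kerCotangentToTensor_mapBaseChange A B
    (B ⧸ 𝔪.map (algebraMap A B)) hsurj
  have hzero : ∀ z ∈ 𝔪.map (algebraMap A B),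
      ((1 : B ⧸ 𝔪.map (algebraMap A B)) ⊗ₜ[B] KaehlerDifferential.D A B z :
        (B ⧸ 𝔪.map (algebraMap A B)) ⊗[B] Ω[B⁄A]) = 0 := by
    intro z hz
    have hz' : z ∈ Ideal.span (algebraMap A B '' 𝔪) := hz
    have hle : Ideal.span (algebraMap A B '' (𝔪 : Set A)) ≤ 𝔪.map (algebraMap A B) := le_rfl
    clear hz
    induction hz' using Submodule.span_induction with
    | mem z hz =>
      obtain ⟨a, ha, rfl⟩ := hz
      simp
    | zero => simp
    | add u v hu' hv' hu hv =>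
      rw [map_add, TensorProduct.tmul_add, hu, hv, add_zero]
    | smul c u hu' hu =>
      have hu0 : Ideal.Quotient.mk (𝔪.map (algebraMap A B)) u = 0 :=
        Ideal.Quotient.eq_zero_iff_mem.mpr (hle hu')
      rw [smul_eq_mul, Derivation.leibniz, TensorProduct.tmul_add, TensorProduct.tmul_smul,
        hu, smul_zero, zero_add, TensorProduct.tmul_smul, TensorProduct.smul_tmul',
        Algebra.smul_def, mul_one, Ideal.Quotient.algebraMap_eq, hu0, TensorProduct.zero_tmul]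
  have hM : Subsingleton ((B ⧸ 𝔪.map (algebraMap A B)) ⊗[B] Ω[B⁄A]) := by
    refine ⟨fun x y => ?_⟩
    have h0 : ∀ z : (B ⧸ 𝔪.map (algebraMap A B)) ⊗[B] Ω[B⁄A], z = 0 := by
      intro z
      have : KaehlerDifferential.mapBaseChange A B (B ⧸ 𝔪.map (algebraMap A B)) z = 0 :=
        Subsingleton.elim _ _
      obtain ⟨c, rfl⟩ := (hex z).mp this
      obtain ⟨w, rfl⟩ := Ideal.toCotangent_surjective _ c
      rw [KaehlerDifferential.kerCotangentToTensor_toCotangent]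
      apply hzero
      have : algebraMap B (B ⧸ 𝔪.map (algebraMap A B)) (w : B) = 0 := w.2
      exact Ideal.Quotient.eq_zero_iff_mem.mp this
    rw [h0 x, h0 y]
  have : Subsingleton (Ω[B⁄A] ⧸ ((𝔪.map (algebraMap A B)) • ⊤ : Submodule B Ω[B⁄A])) :=
    (TensorProduct.quotTensorEquivQuotSMul Ω[B⁄A]
      (𝔪.map (algebraMap A B))).symm.injective.subsingleton
  exact Submodule.Quotient.subsingleton_iff.mp this

lemma subsingleton_quotient_of_smul_top
    (h : (𝔪.map (algebraMap A B)) • (⊤ : Submodule B Ω[B⁄A]) = ⊤) :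
    Subsingleton (Ω[B ⧸ 𝔪.map (algebraMap A B)⁄A ⧸ 𝔪]) := by
  have hsurj := KaehlerDifferential.map_surjective_of_surjective A (A ⧸ 𝔪) B
    (B ⧸ 𝔪.map (algebraMap A B)) Ideal.Quotient.mk_surjective
  refine ⟨fun x y => ?_⟩
  have h0 : ∀ z : Ω[B ⧸ 𝔪.map (algebraMap A B)⁄A ⧸ 𝔪], z = 0 := by
    intro z
    obtain ⟨ω, rfl⟩ := hsurj z
    have hω : ω ∈ (𝔪.map (algebraMap A B)) • (⊤ : Submodule B Ω[B⁄A]) := by rw [h]; trivial
    refine Submodule.smul_induction_on hω ?_ ?_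
    · intro b hb x _
      rw [map_smul, ← IsScalarTower.algebraMap_smul (B ⧸ 𝔪.map (algebraMap A B)) b,
        Ideal.Quotient.algebraMap_eq, Ideal.Quotient.eq_zero_iff_mem.mpr hb, zero_smul]
    · intro x y hx hy
      rw [map_add, hx, hy, add_zero]
  rw [h0 x, h0 y]

end quotient

end Groth.Agent.H23.Unramified
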